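import Cfsg.Agent.Lib.Characterizations.SuzType.Three.Planes

/-!
# The quotient `C(y)/⟨y⟩` and the centralizer of the image of `z` in it
-/

set_option autoImplicit false
set_option linter.unusedSectionVars false
set_option linter.style.haveILetI false

namespace CfsgLib.Characterizations.SuzType.Three

open Suz

variable {G : Type*} [Group G] [Finite G] {z : G} {Q : Subgroup G} {π : G → V}

/-- `C(y)`. -/
abbrev cy (y : G) : Subgroup G := Subgroup.centralizer ({y} : Set G)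

/-- `⟨y⟩` inside `C(y)`. -/
def yn (y : G) : Subgroup ↥(cy y) := (Subgroup.zpowers y).subgroupOf (cy y)

instance yn_normal (y : G) : (yn y).Normal := ⟨fun n hn g => by
  obtain ⟨k, hk⟩ := Subgroup.mem_zpowers_iff.1 (Subgroup.mem_subgroupOf.1 hn)
  have hcom : Commute (g : G) (n : G) := by
    rw [← hk]
    exact (show Commute (g : G) y from Subgroup.mem_centralizer_singleton_iff.1 g.2).zpow_right k
  rw [yn, Subgroup.mem_subgroupOf]
  simp only [Subgroup.coe_mul, Subgroup.coe_inv]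
  rw [hcom.eq, mul_inv_cancel_right, ← hk]
  exact Subgroup.mem_zpowers_iff.2 ⟨k, rfl⟩⟩

/-- `C(y)/⟨y⟩`. -/
abbrev CQ (y : G) : Type _ := ↥(cy y) ⧸ yn y

/-- The projection onto `C(y)/⟨y⟩`. -/
def toQ (y : G) : ↥(cy y) →* CQ y := QuotientGroup.mk' (yn y)

theorem toQ_surjective (y : G) : Function.Surjective (toQ y) := QuotientGroup.mk'_surjective _

theorem toQ_eq_one {y : G} {c : ↥(cy y)} : toQ y c = 1 ↔ (c : G) ∈ Subgroup.zpowers y := by
  rw [toQ, QuotientGroup.mk'_apply, QuotientGroup.eq_one_iff, yn, Subgroup.mem_subgroupOf]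

theorem hc_le_cy {z y : G} : hc z y ≤ cy y := inf_le_right

/-- The group of rotations of the two fixed planes. -/
def k0 (S : Suz z Q π) (y : G) : Subgroup G where
  carrier := {c | c ∈ hc z y ∧ ∃ i j, RotAct (S.act c) i j 0}
  one_mem' := ⟨one_mem _, 0, 0, rotAct_one S⟩
  mul_mem' := by
    rintro a b ⟨ha, i, j, h⟩ ⟨hb, i', j', h'⟩
    exact ⟨mul_mem ha hb, i + i', j + j',
      by simpa using RotAct.mul S (mem_hc.1 ha).1 (mem_hc.1 hb).1 h h'⟩
  inv_mem' := by
    rintro a ⟨ha, i, j, h⟩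
    exact ⟨inv_mem ha, -i, -j, by simpa using RotAct.inv S (mem_hc.1 ha).1 h⟩

section

variable (S : Suz z Q π)
include S

theorem rotAct_pow {c : G} (hc : c * z = z * c) {i j k : Fin 3} (h : RotAct (S.act c) i j k) :
    ∀ n : ℕ, RotAct (S.act (c ^ n)) (n • i) (n • j) (n • k) := by
  intro n
  induction n with
  | zero => simpa using rotAct_one S
  | succ n ih =>
    rw [pow_succ, succ_nsmul, succ_nsmul, succ_nsmul]
    exact RotAct.mul S ((show Commute c z from hc).pow_left n).eq hc ih h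

variable {y : G} (hy : IsStd S y)
include hy

/-- `z` inside `C(y)`. -/
def zc : ↥(cy y) := ⟨z, Subgroup.mem_centralizer_singleton_iff.2 hy.yz.symm⟩

/-- The image of `z`. -/
def zbar : CQ y := toQ y (zc S hy)

theorem zpowers_cases {c : G} (hc : c ∈ Subgroup.zpowers y) : c = 1 ∨ c = y ∨ c = y * y := by
  obtain ⟨k, rfl⟩ := Subgroup.mem_zpowers_iff.1 hc
  have h3 : y ^ (3 : ℤ) = 1 := by
    rw [show (3 : ℤ) = ((3 : ℕ) : ℤ) from rfl, zpow_natCast, y3 S hy]
  have e : y ^ k = y ^ (k % 3) := by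
    conv_lhs => rw [← Int.emod_add_mul_ediv k 3, zpow_add, zpow_mul, h3, one_zpow, mul_one]
  rcases (show k % 3 = 0 ∨ k % 3 = 1 ∨ k % 3 = 2 by omega) with e' | e' | e' <;> rw [e, e']
  · exact Or.inl (zpow_zero y)
  · exact Or.inr (Or.inl (zpow_one y))
  · exact Or.inr (Or.inr (zpow_two y))

theorem eq_one_of_pow {c : G} (hc : c ∈ Subgroup.zpowers y) {n : ℕ} (hn : n.Coprime 3) (h : c ^ n = 1) :
    c = 1 := by
  have h3 : c ^ 3 = 1 := by
    rcases zpowers_cases S hy hc with e | e | e <;> rw [e]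
    · exact one_pow 3
    · exact y3 S hy
    · rw [(Commute.refl y).mul_pow, y3 S hy, one_mul]
  have := Nat.dvd_gcd (orderOf_dvd_of_pow_eq_one h) (orderOf_dvd_of_pow_eq_one h3)
  rw [hn.gcd_eq_one, Nat.dvd_one, orderOf_eq_one_iff] at this
  exact this

theorem k0_le : k0 S y ≤ hc z y := fun _ h => h.1

theorem sep {c : G} (hc' : c ∈ k0 S y) (hcy : c ∈ Subgroup.zpowers y) : c = 1 := by
  obtain ⟨-, i, j, h⟩ := hc'
  rcases zpowers_cases S hy hcy with e | e | e
  · exact e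
  · exfalso
    rw [e] at h
    exact absurd (h.unique (rotAct_y S hy)).2.2 (by decide)
  · exfalso
    rw [e] at h
    exact absurd (h.unique (RotAct.mul S hy.yz hy.yz (rotAct_y S hy) (rotAct_y S hy))).2.2 (by decide)

theorem kq_le_k0 : kq Q y ≤ k0 S y := fun _ hx => ⟨kq_le S hy hx, 0, 0, rotAct_Q S hx.1⟩

theorem z_mem_k0 : z ∈ k0 S y := kq_le_k0 S hy (z_mem_kq S hy)

theorem zbar_ne : zbar S hy ≠ 1 := fun e =>
  S.extra.z_ne (sep S hy (z_mem_k0 S hy) (toQ_eq_one.1 e))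

theorem orderOf_zbar : orderOf (zbar S hy) = 2 := by
  have : Fact (Nat.Prime 2) := ⟨Nat.prime_two⟩
  refine orderOf_eq_prime ?_ (zbar_ne S hy)
  rw [zbar, ← map_pow, show zc S hy ^ 2 = 1 from Subtype.ext (by simp [zc, pow_two, S.extra.z_sq]), map_one]

theorem mem_hc_of_commute {c : ↥(cy y)} (h : Commute (toQ y c) (zbar S hy)) : (c : G) ∈ hc z y := by
  have hcy : (c : G) * y = y * (c : G) := Subgroup.mem_centralizer_singleton_iff.1 c.2
  refine mem_hc.2 ⟨?_, hcy⟩
  have h1 : toQ y (c * zc S hy * c⁻¹ * (zc S hy)⁻¹) = 1 := by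
    simp only [map_mul, map_inv]
    show toQ y c * zbar S hy * (toQ y c)⁻¹ * (zbar S hy)⁻¹ = 1
    rw [h.eq, mul_inv_cancel_right, mul_inv_cancel]
  rw [toQ_eq_one] at h1
  simp only [Subgroup.coe_mul, Subgroup.coe_inv, zc] at h1
  set d := (c : G) * z * (c : G)⁻¹ * z⁻¹ with hd
  have hdz : Commute d z := by
    rcases zpowers_cases S hy h1 with e | e | e <;> rw [e]
    · exact Commute.one_left z
    · exact hy.yz
    · exact (show Commute y z from hy.yz).mul_left hy.yz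
  have e : (c : G) * z * (c : G)⁻¹ = d * z := by rw [hd]; group
  have hd2 : d ^ 2 = 1 := by
    have h2 : d * z * (d * z) = 1 := by
      rw [← e]
      calc (c : G) * z * (c : G)⁻¹ * ((c : G) * z * (c : G)⁻¹) = (c : G) * (z * z) * (c : G)⁻¹ := by group
        _ = 1 := by rw [S.extra.z_sq, mul_one, mul_inv_cancel]
    rw [mul_assoc, ← mul_assoc z, ← hdz.eq, mul_assoc d z, S.extra.z_sq, mul_one] at h2
    rwa [pow_two]
  rw [eq_one_of_pow S hy h1 (by norm_num) hd2, one_mul, mul_inv_eq_iff_eq_mul] at e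
  exact e

/-- The centralizer of the image of `z`. -/
abbrev CZ : Subgroup (CQ y) := Subgroup.centralizer ({zbar S hy} : Set (CQ y))

/-- The projection of `C(y, z)`. -/
def rho : ↥(hc z y) →* ↥(CZ S hy) :=
  ((toQ y).comp (Subgroup.inclusion hc_le_cy)).codRestrict (CZ S hy) fun c => by
    rw [Subgroup.mem_centralizer_singleton_iff, MonoidHom.comp_apply, zbar, ← map_mul, ← map_mul]
    exact congrArg (toQ y) (Subtype.ext (mem_hc.1 c.2).1)

theorem rho_coe (c : ↥(hc z y)) : (rho S hy c : CQ y) = toQ y (Subgroup.inclusion hc_le_cy c) := rfl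

theorem rho_eq_one {c : ↥(hc z y)} : rho S hy c = 1 ↔ (c : G) ∈ Subgroup.zpowers y :=
  ⟨fun h => toQ_eq_one.1 (congrArg Subtype.val h), fun h => Subtype.ext (toQ_eq_one.2 h)⟩

theorem rho_surjective : Function.Surjective (rho S hy) := by
  intro g
  obtain ⟨c, hc'⟩ := toQ_surjective y (g : CQ y)
  have hm := mem_hc_of_commute S hy (c := c) (by rw [hc']; exact Subgroup.mem_centralizer_singleton_iff.1 g.2)
  exact ⟨⟨c, hm⟩, Subtype.ext hc'⟩

theorem card_CZ : Nat.card ↥(CZ S hy) = 1152 := by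
  have h := (rho S hy).ker.card_mul_index
  rw [Subgroup.index_ker, MonoidHom.range_eq_top.2 (rho_surjective S hy), Subgroup.card_top, card_hc S hy] at h
  have hk : (rho S hy).ker = (Subgroup.zpowers y).subgroupOf (hc z y) := by
    ext c
    rw [MonoidHom.mem_ker, rho_eq_one, Subgroup.mem_subgroupOf]
  rw [hk, Nat.card_congr (Subgroup.subgroupOfEquivOfLe (Subgroup.zpowers_le.2 (y_mem S hy))).toEquiv,
    Nat.card_zpowers, hy.ord] at h
  omega

/-- The image in the centralizer of the image of `z`. -/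
def img (A : Subgroup G) : Subgroup ↥(CZ S hy) := (A.subgroupOf (hc z y)).map (rho S hy)

theorem mem_img {A : Subgroup G} {g : ↥(CZ S hy)} :
    g ∈ img S hy A ↔ ∃ c : ↥(hc z y), (c : G) ∈ A ∧ rho S hy c = g :=
  ⟨fun ⟨c, h, e⟩ => ⟨c, h, e⟩, fun ⟨c, h, e⟩ => ⟨c, h, e⟩⟩

theorem rho_mem_img {A : Subgroup G} {c : G} (hc' : c ∈ A) (h : c ∈ hc z y) :
    rho S hy ⟨c, h⟩ ∈ img S hy A := ⟨⟨c, h⟩, hc', rfl⟩

theorem img_sup {A B : Subgroup G} (hA : A ≤ hc z y) (hB : B ≤ hc z y) :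
    img S hy (A ⊔ B) = img S hy A ⊔ img S hy B := by
  rw [img, img, img, Subgroup.subgroupOf_sup hA hB, Subgroup.map_sup]

theorem nonempty_img_equiv {A : Subgroup G} (hA : A ≤ k0 S y) : Nonempty (↥A ≃* ↥(img S hy A)) := by
  let f : ↥A →* ↥(CZ S hy) := (rho S hy).comp (Subgroup.inclusion (hA.trans (k0_le S hy)))
  have hinj : Function.Injective f := (injective_iff_map_eq_one f).2 fun a ha =>
    Subtype.ext (sep S hy (hA a.2) ((rho_eq_one S hy).1 ha))
  have hr : f.range = img S hy A := by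
    ext g
    constructor
    · rintro ⟨a, rfl⟩; exact rho_mem_img S hy a.2 _
    · intro hg
      obtain ⟨c, hc', rfl⟩ := (mem_img S hy).1 hg
      exact ⟨⟨c, hc'⟩, rfl⟩
  exact ⟨(MonoidHom.ofInjective hinj).trans (MulEquiv.subgroupCongr hr)⟩

theorem img_le_normalizer {A B : Subgroup G} (h : B ≤ Subgroup.normalizer (A : Set G)) :
    img S hy B ≤ Subgroup.normalizer (img S hy A : Set ↥(CZ S hy)) := by
  rw [Subgroup.le_normalizer_iff]
  intro b hb a ha
  obtain ⟨b', hb', rfl⟩ := (mem_img S hy).1 hb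
  obtain ⟨a', ha', rfl⟩ := (mem_img S hy).1 ha
  rw [← map_inv, ← map_mul, ← map_mul]
  exact (mem_img S hy).2 ⟨_, Subgroup.le_normalizer_iff.1 h b' hb' a' ha', rfl⟩

theorem kq_normal_hc {c x : G} (hc' : c ∈ hc z y) (hx : x ∈ kq Q y) : c * x * c⁻¹ ∈ kq Q y :=
  (conj_kq S hy hc' hx).1

instance img_kq_normal : (img S hy (kq Q y)).Normal := ⟨fun n hn g => by
  obtain ⟨x, hx, rfl⟩ := (mem_img S hy).1 hn
  obtain ⟨c, rfl⟩ := rho_surjective S hy g
  rw [← map_inv, ← map_mul, ← map_mul]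
  exact (mem_img S hy).2 ⟨_, kq_normal_hc S hy c.2 hx, rfl⟩⟩

theorem isPGroup_img_kq : IsPGroup 2 (img S hy (kq Q y)) := by
  have h : IsPGroup 2 ↥(kq Q y) := S.extra.isPGroup.to_le inf_le_left
  exact (h.of_equiv (Subgroup.subgroupOfEquivOfLe (kq_le S hy)).symm).map _

/-- A 2-element of `C(z̄)` has a 2-element preimage. -/
theorem exists_two_lift {p : ↥(CZ S hy)} {m : ℕ} (hp : p ^ 2 ^ m = 1) :
    ∃ c : ↥(hc z y), rho S hy c = p ∧ (c : G) ^ 2 ^ m = 1 := by
  obtain ⟨c, rfl⟩ := rho_surjective S hy p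
  rw [← map_pow, rho_eq_one, Subgroup.coe_pow] at hp
  obtain ⟨e, he1, he2⟩ : ∃ e : ℕ, 3 ∣ e ∧ e ≡ 1 [MOD 2 ^ m] := by
    obtain ⟨e, h1, h2⟩ := Nat.chineseRemainder (Nat.Coprime.pow_left m (show (2 : ℕ).Coprime 3 by norm_num)) 1 0
    exact ⟨e, Nat.modEq_zero_iff_dvd.1 h2, h1⟩
  refine ⟨c ^ e, ?_, ?_⟩
  · rw [map_pow]
    have hrp : rho S hy c ^ 2 ^ m = 1 := by rw [← map_pow, rho_eq_one, Subgroup.coe_pow]; exact hp
    conv_rhs => rw [← pow_one (rho S hy c)]
    exact pow_eq_pow_iff_modEq.2 (he2.of_dvd (orderOf_dvd_of_pow_eq_one hrp))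
  · rw [Subgroup.coe_pow, ← pow_mul, mul_comm, pow_mul]
    obtain ⟨k, rfl⟩ := he1
    rw [pow_mul]
    rcases zpowers_cases S hy hp with h | h | h <;> rw [h]
    · simp
    · rw [y3 S hy, one_pow]
    · rw [(Commute.refl y).mul_pow, y3 S hy, one_mul, one_pow]

end

end CfsgLib.Characterizations.SuzType.Three
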