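import Cfsg.Agent.Lib.Characterizations.SuzType.Model

/-!
# A standard isometry of order three with four-dimensional fixed space

`T0` fixes the orthogonal sum of the anisotropic planes `{va x}` and `{vb x}` and rotates the plane `{ve x}`.
All isometries met here permute these nine vectors.
-/

set_option autoImplicit false
set_option maxRecDepth 100000

namespace CfsgLib.Characterizations.SuzType.Three

/-- The three-cycle. -/
def τ0 : Equiv.Perm (Fin 5) := Equiv.swap 0 1 * Equiv.swap 1 2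

/-- An even permutation inverting the three-cycle. -/
def σ0 : Equiv.Perm (Fin 5) := Equiv.swap 0 1 * Equiv.swap 3 4

/-- The standard isometry of order three. -/
def T0 : V → V := M τ0 0

/-- The first fixed anisotropic plane. -/
def va : Fin 3 → V := ![![0, 0, 1, 1, 0, 0], ![1, 1, 0, 1, 1, 1], ![1, 1, 1, 0, 1, 1]]

/-- The second fixed anisotropic plane. -/
def vb : Fin 3 → V := ![![0, 0, 0, 0, 1, 1], ![0, 0, 1, 1, 0, 1], ![0, 0, 1, 1, 1, 0]]

/-- The plane rotated by `T0`. -/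
def ve : Fin 3 → V := ![![1, 0, 0, 0, 0, 0], ![1, 1, 0, 0, 0, 0], ![0, 1, 0, 0, 0, 0]]

/-- One of the two fixed planes. -/
def vp (s : Bool) : Fin 3 → V := cond s vb va

theorem T0_u0 : T0 u0 = u0 := by decide +kernel

theorem T0_three : ∀ v : V, T0 (T0 (T0 v)) = v := by decide +kernel

theorem T0_quad : ∀ v : V, q (T0 v) = q v := by decide +kernel

theorem T0_planes : ∀ x : Fin 3, T0 (va x) = va x ∧ T0 (vb x) = vb x ∧ T0 (ve x) = ve (x + 1) := by
  decide +kernel

theorem plane_forms : ∀ x y : Fin 3, (B (va x) (va y) = if x = y then 0 else 1) ∧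
    (B (vb x) (vb y) = if x = y then 0 else 1) ∧ (B (ve x) (ve y) = if x = y then 0 else 1) ∧
    B (va x) (vb y) = 0 ∧ B (va x) (ve y) = 0 ∧ B (vb x) (ve y) = 0 ∧
    q (va x) = 1 ∧ q (vb x) = 1 ∧ q (ve x) = 1 := by decide +kernel

theorem plane_sums : va 2 = va 0 + va 1 ∧ vb 2 = vb 0 + vb 1 ∧ ve 1 = ve 0 + ve 2 := by decide +kernel

theorem plane_inj : ∀ x y : Fin 3, (va x = va y → x = y) ∧ (vb x = vb y → x = y) ∧ (ve x = ve y → x = y) ∧
    va x ≠ vb y ∧ va x ≠ ve y ∧ vb x ≠ ve y := by decide +kernel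

theorem decomp : ∀ v : V, v = B v (va 1) • va 0 + B v (va 0) • va 1 + (B v (vb 1) • vb 0 + B v (vb 0) • vb 1) +
    (B v (ve 2) • ve 0 + B v (ve 0) • ve 2) := by decide +kernel

theorem mem_fixed : ∀ v : V, T0 v = v → q v = 1 → ∃ x : Fin 3, v = va x ∨ v = vb x := by decide +kernel

set_option synthInstance.maxSize 4096 in
set_option synthInstance.maxHeartbeats 400000 in
theorem mem_moved : ∀ v : V, q v = 1 → B v (va 0) = 0 → B v (va 1) = 0 → B v (vb 0) = 0 → B v (vb 1) = 0 →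
    ∃ x : Fin 3, v = ve x := by decide +kernel

theorem fixed_of_perp : ∀ v : V, B v (ve 0) = 0 → B v (ve 2) = 0 → T0 v = v := by decide +kernel

theorem fixed_perp : ∀ v : V, T0 v = v → B v (ve 0) = 0 ∧ B v (ve 2) = 0 := by decide +kernel

/-- An isometry is determined by its values on the three planes. -/
theorem iso_ext {f g : V → V} (hf : Iso f) (hg : Iso g) (ha : ∀ x, f (va x) = g (va x))
    (hb : ∀ x, f (vb x) = g (vb x)) (he : ∀ x, f (ve x) = g (ve x)) : ∀ v, f v = g v := by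
  intro v
  rw [decomp v]
  simp only [hf.add, hg.add, hf.map_smul, hg.map_smul, ha, hb, he]

theorem τ0_facts : Equiv.Perm.sign τ0 = 1 ∧ Equiv.Perm.sign σ0 = 1 ∧ τ0 ^ 3 = 1 ∧ τ0 ≠ 1 := by
  decide +kernel

theorem commute_τ0 : ∀ σ : Equiv.Perm (Fin 5), Equiv.Perm.sign σ = 1 → σ * τ0 = τ0 * σ →
    σ = 1 ∨ σ = τ0 ∨ σ = τ0 * τ0 := by decide +kernel

theorem fixed_param : ∀ φ : W5, Ev φ → ((fun i => φ (τ0⁻¹ i)) = φ ↔ φ 0 = φ 1 ∧ φ 1 = φ 2) := by
  decide +kernel

theorem inverter : ∀ v : V, T0 (M σ0 0 (T0 v)) = M σ0 0 v := by decide +kernel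

theorem param_count :
    (Finset.univ.filter fun φ : W5 => Ev φ ∧ φ 0 = φ 1 ∧ φ 1 = φ 2).card = 4 := by decide +kernel

set_option synthInstance.maxSize 4096 in
set_option synthInstance.maxHeartbeats 400000 in
theorem param_trivial : ∀ φ : W5, Ev φ → φ 0 = φ 1 → φ 1 = φ 2 → M 1 φ (va 0) = va 0 → M 1 φ (va 1) = va 1 →
    φ = 0 := by decide +kernel

/-- The parameter inverting both rotations. -/
def φs : W5 := ![0, 0, 0, 1, 1]

theorem φs_facts : Ev φs ∧ φs 0 = φs 1 ∧ φs 1 = φs 2 ∧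
    ∀ x : Fin 3, M 1 φs (va x) = va (-x) ∧ M 1 φs (vb x) = vb (1 - x) ∧ M 1 φs (ve x) = ve x := by
  decide +kernel

theorem singular_count :
    (Finset.univ.filter fun v : V => v ≠ 0 ∧ q v = 0 ∧ T0 v = v).card = 9 := by decide +kernel

theorem exists_partner : ∀ v : V, v ≠ 0 → T0 v = v → ∃ w : V, T0 w = w ∧ B w v = 1 := by
  decide +kernel

theorem perm_rotation : ∀ α : Equiv.Perm (Fin 3), α * α * α = 1 → ∃ i, ∀ x, α x = x + i := by
  decide +kernel

theorem perm_normalises : ∀ α : Equiv.Perm (Fin 3), ∃ i, ∀ x, α (x + 1) = α x + i := by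
  decide +kernel

theorem perm_commutes : ∀ α : Equiv.Perm (Fin 3), ∀ i : Fin 3, i ≠ 0 → (∀ x, α (x + i) = α x + i) →
    ∃ j, ∀ x, α x = x + j := by decide +kernel

theorem fin3_cases : ∀ i : Fin 3, i = 0 ∨ i + i + i = 0 := by decide

end CfsgLib.Characterizations.SuzType.Three
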