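import Cfsg.Agent.Lib.Characterizations.SuzType.Classes
import Cfsg.Agent.Lib.Characterizations.SuzType.Three.Model

/-!
# Elements of order three fixing a singular point in a group of Suzuki type

Up to conjugation and inversion in `C(z)` there is one such element; `z` is fused inside its centralizer.
-/

set_option autoImplicit false
set_option linter.unusedSectionVars false
set_option linter.style.haveILetI false

namespace CfsgLib.Characterizations.SuzType.Three

open Suz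

variable {G : Type*} [Group G] [Finite G] {z : G} {Q : Subgroup G} {π : G → V}

/-- An element of order three of `C(z)` acting as `T0`. -/
structure IsStd (S : Suz z Q π) (y : G) : Prop where
  ord : orderOf y = 3
  yz : y * z = z * y
  act : ∀ v, S.act y v = T0 v

theorem pow_three_of_ord {y : G} (h : orderOf y = 3) : y ^ 3 = 1 := h ▸ pow_orderOf_eq_one y

section

variable (S : Suz z Q π)
include S

theorem mul_cz {a b : G} (ha : a * z = z * a) (hb : b * z = z * b) : a * b * z = z * (a * b) := by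
  rw [mul_assoc, hb, ← mul_assoc, ha, mul_assoc]

/-- A coset of `Q` preserved by `x ↦ a * x * b`, with `a`, `b` of exponent three, has a fixed member. -/
theorem exists_fix {a b c : G} (ha : a ^ 3 = 1) (hb : b ^ 3 = 1) (haz : a * z = z * a) (hbz : b * z = z * b)
    (hcz : c * z = z * c) (h : ∀ v, S.act (a * c * b) v = S.act c v) :
    ∃ c', c' * z = z * c' ∧ (∀ v, S.act c' v = S.act c v) ∧ a * c' * b = c' := by
  classical
  have habz : a * c * b * z = z * (a * c * b) := mul_cz S (mul_cz S haz hcz) hbz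
  let X := {x : G // x * z = z * x ∧ ∀ v, S.act x v = S.act c v}
  have hf : ∀ x : X, a * x.1 * b * z = z * (a * x.1 * b) ∧ ∀ v, S.act (a * x.1 * b) v = S.act c v := by
    intro x
    refine ⟨mul_cz S (mul_cz S haz x.2.1) hbz, fun v => ?_⟩
    rw [S.act_mul (mul_cz S haz x.2.1) hbz, S.act_mul haz x.2.1, x.2.2, ← S.act_mul haz hcz,
      ← S.act_mul (mul_cz S haz hcz) hbz, h]
  let f : X → X := fun x => ⟨a * x.1 * b, hf x⟩
  have hf3 : ∀ x, f (f (f x)) = x := fun x => Subtype.ext (by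
    show a * (a * (a * x.1 * b) * b) * b = x.1
    calc a * (a * (a * x.1 * b) * b) * b = a ^ 3 * x.1 * b ^ 3 := by simp [pow_succ, mul_assoc]
      _ = x.1 := by rw [ha, hb, one_mul, mul_one])
  let σ : Equiv.Perm X := ⟨f, fun x => f (f x), hf3, hf3⟩
  have : Fact (Nat.Prime 3) := ⟨Nat.prime_three⟩
  let _ : Fintype X := Fintype.ofFinite X
  have hcard : ¬ 3 ∣ Fintype.card X := by
    have e : Nat.card X = Nat.card Q := Nat.card_congr
      { toFun := fun x => ⟨c⁻¹ * x.1, S.mem_of_act_id (mul_cz S (Commute.inv_left hcz).eq x.2.1) fun v => by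
          rw [S.act_mul (Commute.inv_left hcz).eq x.2.1, x.2.2, S.act_inv_act hcz]⟩
        invFun := fun x => ⟨c * x.1, mul_cz S hcz (S.mem_cz x.2), fun v => by
          rw [S.act_mul hcz (S.mem_cz x.2), S.act_Q x.2]⟩
        left_inv := fun x => Subtype.ext (mul_inv_cancel_left c x.1)
        right_inv := fun x => Subtype.ext (inv_mul_cancel_left c x.1) }
    have : Fact (Nat.Prime 2) := ⟨Nat.prime_two⟩
    obtain ⟨n, hn⟩ := IsPGroup.iff_card.1 S.extra.isPGroup
    rw [← Nat.card_eq_fintype_card, e, hn]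
    exact fun hd => absurd (Nat.prime_three.dvd_of_dvd_pow hd) (by norm_num)
  obtain ⟨x, hx⟩ := Equiv.Perm.exists_fixed_point_of_prime (p := 3) (n := 1) hcard (σ := σ) (by
    ext x
    simp only [pow_one, pow_succ, pow_zero, one_mul, Equiv.Perm.mul_apply, Equiv.Perm.coe_one, id_eq]
    exact congrArg Subtype.val (hf3 x))
  exact ⟨x.1, x.2.1, x.2.2, congrArg Subtype.val hx⟩

/-- An element of exponent three centralises every element of `Q` whose image it fixes. -/
theorem comm_of_fixed {c x : G} (hc : c * z = z * c) (h3 : c ^ 3 = 1) (hx : x ∈ Q)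
    (h : S.act c (π x) = π x) : c * x = x * c := by
  rw [S.act_π hc hx] at h
  rcases S.π_eq hx (S.norm c hc x hx) h.symm with e | e
  · exact mul_inv_eq_iff_eq_mul.1 e
  · exfalso
    have hzc : c * z * c⁻¹ = z := by rw [hc, mul_inv_cancel_right]
    have e2 : c * (c * x * c⁻¹) * c⁻¹ = x := by
      rw [e, show c * (x * z) * c⁻¹ = c * x * c⁻¹ * (c * z * c⁻¹) by group, e, hzc, mul_assoc,
        S.extra.z_sq, mul_one]
    have e3 : c ^ 3 * x * (c ^ 3)⁻¹ = c * x * c⁻¹ := by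
      rw [show c ^ 3 * x * (c ^ 3)⁻¹ = c * (c * (c * x * c⁻¹) * c⁻¹) * c⁻¹ by simp [pow_succ, mul_assoc], e2]
    rw [h3, one_mul, inv_one, mul_one, e] at e3
    exact S.extra.z_ne (mul_eq_left.1 e3.symm)

/-- Forms of elements of the stabiliser of `u0` have even permutations. -/
theorem sign_of_form {c : G} (hc : c * z = z * c) {σ : Equiv.Perm (Fin 5)} {φ : W5} (hφ : Ev φ)
    (h : ∀ v, S.act c v = M σ φ v) : Equiv.Perm.sign σ = 1 := by
  have hu : S.act c u0 = u0 := by rw [h, M_u0]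
  have hid : Iso (id : V → V) := ⟨fun _ _ => rfl, fun _ => rfl, Function.injective_id⟩
  obtain ⟨σ', φ', hd⟩ := S.exists_data (u := u0) (T := id) hid rfl
  have hσ : σ' ⟨c, hc, hu⟩ = σ := (hd.form_eq S ⟨c, hc, hu⟩ hφ h).1
  obtain ⟨u, g, p⟩ := S.exists_pair
  have hker : Nat.card σ'.ker = 128 * 16 := (hd.card_ker S hid).2 fun ψ hψ => by
    obtain ⟨e, he, hf⟩ := p.exists_sie hψ
    have heu : S.act e u0 = u0 := by rw [hf, M_u0]
    obtain ⟨h1, h2⟩ := hd.form_eq S ⟨e, (p.sie_comm he).1, heu⟩ hψ hf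
    exact ⟨⟨e, (p.sie_comm he).1, heu⟩, MonoidHom.mem_ker.2 h1, h2⟩
  have hcard := σ'.ker.card_mul_index
  rw [Subgroup.index_ker, (S.orbit_eq (by decide) (by decide : q u0 = 0)).2, hker] at hcard
  have hi := σ'.range.card_mul_index
  rw [Nat.card_perm, Nat.card_fin, show Nat.factorial 5 = 120 from rfl] at hi
  have h60 : Nat.card σ'.range = 60 := by omega
  have h2 : σ'.range.index = 2 := by rw [h60] at hi; omega
  have hmem : σ ∈ σ'.range := hσ ▸ ⟨_, rfl⟩
  rw [Equiv.Perm.eq_alternatingGroup_of_index_eq_two h2] at hmem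
  exact Equiv.Perm.mem_alternatingGroup.1 hmem

theorem exists_std : ∃ y, IsStd S y := by
  obtain ⟨u, g, p⟩ := S.exists_pair
  obtain ⟨c, hc, -, ψ, hψ, hf⟩ := p.exists_lift τ0_facts.1
  obtain ⟨e, he, hef⟩ := p.exists_sie hψ
  have hez := (p.sie_comm he).1
  have hd : ∀ v, S.act (e * c) v = T0 v := fun v => by
    rw [S.act_mul hez hc, form_comp (S.act_iso hez) (S.act_iso hc) hψ hψ hef hf v, one_mul]
    simp [add_self_W, T0]
  set d := e * c with hdd
  have hdz : d * z = z * d := mul_cz S hez hc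
  have h4 : ∀ v, S.act (d * d * (d * d)) v = T0 v := fun v => by
    rw [S.act_mul (mul_cz S hdz hdz) (mul_cz S hdz hdz), S.act_mul hdz hdz, S.act_mul hdz hdz,
      hd, hd, hd, hd, T0_three]
  have h3 : d * d * d ∈ Q := S.mem_of_act_id (mul_cz S (mul_cz S hdz hdz) hdz) fun v => by
    rw [S.act_mul (mul_cz S hdz hdz) hdz, S.act_mul hdz hdz, hd, hd, hd, T0_three]
  have h12 : (d * d * (d * d)) ^ 3 = 1 := by
    have e1 : (d * d * (d * d)) ^ 3 = (d * d * d) * (d * d * d) * ((d * d * d) * (d * d * d)) := by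
      simp [pow_succ, mul_assoc]
    rw [e1]
    rcases S.extra.sq_cases h3 with e' | e' <;> rw [e']
    · exact one_mul 1
    · exact S.extra.z_sq
  refine ⟨d * d * (d * d), ?_, mul_cz S (mul_cz S hdz hdz) (mul_cz S hdz hdz), h4⟩
  have : Fact (Nat.Prime 3) := ⟨Nat.prime_three⟩
  refine orderOf_eq_prime h12 fun e' => ?_
  have := h4 (ve 0)
  rw [e', S.act_one, (T0_planes 0).2.2] at this
  exact absurd ((plane_inj 0 (0 + 1)).2.2.1 this) (by decide)

/-- The subgroups of order three of the stabiliser of a singular point are conjugate in it. -/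
theorem stab_sylow {v : V} (hv : v ≠ 0) (hq : q v = 0) {c d : G} (hc : c * z = z * c) (hcv : S.act c v = v)
    (hd : d * z = z * d) (hdv : S.act d v = v) (hco : orderOf c = 3) (hdo : orderOf d = 3) :
    ∃ k, k * z = z * k ∧ S.act k v = v ∧ (k * c * k⁻¹ = d ∨ k * c * k⁻¹ = d⁻¹) := by
  have : Fact (Nat.Prime 3) := ⟨Nat.prime_three⟩
  have hfac : (Nat.card ↥(S.stab v)).factorization 3 = 1 := by
    rw [(S.orbit_eq hv hq).2, show (122880 : ℕ) = 3 * 40960 from rfl,
      Nat.factorization_mul (by norm_num) (by norm_num), Finsupp.add_apply, Nat.prime_three.factorization_self,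
      Nat.factorization_eq_zero_of_not_dvd (by norm_num)]
  have hsyl : ∀ (a : ↥(S.stab v)), orderOf a = 3 → ∃ P : Sylow 3 ↥(S.stab v), (P : Subgroup _) = Subgroup.zpowers a :=
    fun a ha => ⟨Sylow.ofCard (Subgroup.zpowers a) (by rw [hfac, pow_one, Nat.card_zpowers, ha]), rfl⟩
  obtain ⟨P, hP⟩ := hsyl ⟨c, hc, hcv⟩ ((Subgroup.orderOf_mk (H := S.stab v) c ⟨hc, hcv⟩).trans hco)
  obtain ⟨P', hP'⟩ := hsyl ⟨d, hd, hdv⟩ ((Subgroup.orderOf_mk (H := S.stab v) d ⟨hd, hdv⟩).trans hdo)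
  obtain ⟨k, hk⟩ := MulAction.exists_smul_eq (↥(S.stab v)) P P'
  have hm : k * ⟨c, hc, hcv⟩ * k⁻¹ ∈ Subgroup.zpowers (⟨d, hd, hdv⟩ : ↥(S.stab v)) := by
    rw [← hP', ← hk, Sylow.coe_subgroup_smul]
    exact ⟨⟨c, hc, hcv⟩, hP.symm ▸ Subgroup.mem_zpowers _, rfl⟩
  obtain ⟨m, hm⟩ := Subgroup.mem_zpowers_iff.1 hm
  refine ⟨k, k.2.1, k.2.2, ?_⟩
  have hm' : d ^ m = (k : G) * c * (k : G)⁻¹ := by simpa using congrArg Subtype.val hm
  have hd3 : d ^ (3 : ℤ) = 1 := by
    rw [show (3 : ℤ) = ((3 : ℕ) : ℤ) from rfl, zpow_natCast, pow_three_of_ord hdo]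
  have hmm : d ^ m = d ^ (m % 3) := by
    conv_lhs => rw [← Int.emod_add_mul_ediv m 3, zpow_add, zpow_mul, hd3, one_zpow, mul_one]
  rcases (show m % 3 = 0 ∨ m % 3 = 1 ∨ m % 3 = 2 by omega) with e | e | e <;> rw [hmm, e] at hm'
  · rw [zpow_zero] at hm'
    have : c = 1 := conj_eq_one_iff.1 hm'.symm
    rw [this, orderOf_one] at hco
    omega
  · exact Or.inl (by rw [← hm', zpow_one])
  · refine Or.inr ?_
    rw [← hm', show (2 : ℤ) = 3 + -1 by norm_num, zpow_add, hd3, one_mul, zpow_neg_one]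

/-- An element of order three fixing a singular point is conjugate to the standard one or its inverse. -/
theorem conj_std {y c : G} (hy : IsStd S y) (hco : orderOf c = 3) (hc : c * z = z * c) {v : V} (hv : v ≠ 0)
    (hq : q v = 0) (hcv : S.act c v = v) :
    ∃ k, k * z = z * k ∧ (k * c * k⁻¹ = y ∨ k * c * k⁻¹ = y⁻¹) := by
  obtain ⟨a, ha, hav⟩ := S.transitive hv hq (by decide : u0 ≠ 0) (by decide : q u0 = 0)
  have haz : a⁻¹ * z = z * a⁻¹ := (Commute.inv_left ha).eq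
  have hc' : a * c * a⁻¹ * z = z * (a * c * a⁻¹) := mul_cz S (mul_cz S ha hc) haz
  have hfix : S.act (a * c * a⁻¹) u0 = u0 := by
    rw [S.act_mul (mul_cz S ha hc) haz, S.act_mul ha hc, ← hav, S.act_inv_act ha, hcv]
  obtain ⟨k, hk, -, he⟩ := stab_sylow S (by decide) (by decide) hc' hfix hy.yz (by rw [hy.act, T0_u0])
    ((orderOf_injective (MulAut.conj a).toMonoidHom (MulAut.conj a).injective c).trans hco) hy.ord
  refine ⟨k * a, mul_cz S hk ha, ?_⟩
  rw [show k * a * c * (k * a)⁻¹ = k * (a * c * a⁻¹) * k⁻¹ by group]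
  exact he

variable {y : G} (hy : IsStd S y)
include hy

theorem y3 : y ^ 3 = 1 := pow_three_of_ord hy.ord

theorem exists_inverter : ∃ n, n * z = z * n ∧ (∀ v, S.act n v = M σ0 0 v) ∧ n * y * n⁻¹ = y⁻¹ := by
  obtain ⟨u, g, p⟩ := S.exists_pair
  obtain ⟨c, hc, -, ψ, hψ, hf⟩ := p.exists_lift τ0_facts.2.1
  obtain ⟨e, he, hef⟩ := p.exists_sie hψ
  have hez := (p.sie_comm he).1
  have hd : ∀ v, S.act (e * c) v = M σ0 0 v := fun v => by
    rw [S.act_mul hez hc, form_comp (S.act_iso hez) (S.act_iso hc) hψ hψ hef hf v, one_mul]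
    simp [add_self_W]
  obtain ⟨n, hn, hna, hfix⟩ := exists_fix S (y3 S hy) (y3 S hy) hy.yz hy.yz (mul_cz S hez hc) (fun v => by
    rw [S.act_mul (mul_cz S hy.yz (mul_cz S hez hc)) hy.yz, S.act_mul hy.yz (mul_cz S hez hc), hy.act, hy.act,
      hd, hd, inverter])
  refine ⟨n, hn, fun v => (hna v).trans (hd v), ?_⟩
  calc n * y * n⁻¹ = y⁻¹ * (y * n * y) * n⁻¹ := by group
    _ = y⁻¹ := by rw [hfix, mul_assoc, mul_inv_cancel, mul_one]

/-- The centralizer of `y` in `C(z)` is transitive on the fixed singular points. -/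
theorem exists_move {v : V} (hv : v ≠ 0) (hq : q v = 0) (hTv : T0 v = v) :
    ∃ h, h * z = z * h ∧ h * y = y * h ∧ S.act h u0 = v := by
  obtain ⟨a, ha, hav⟩ := S.transitive (by decide : u0 ≠ 0) (by decide : q u0 = 0) hv hq
  have hai : a⁻¹ * z = z * a⁻¹ := (Commute.inv_left ha).eq
  have hc : a⁻¹ * y * a * z = z * (a⁻¹ * y * a) := mul_cz S (mul_cz S hai hy.yz) ha
  have hfix : S.act (a⁻¹ * y * a) u0 = u0 := by
    rw [S.act_mul (mul_cz S hai hy.yz) ha, S.act_mul hai hy.yz, hav, hy.act, hTv, ← hav, S.act_inv_act ha]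
  have hord : orderOf (a⁻¹ * y * a) = 3 := by
    have h1 := orderOf_injective (MulAut.conj a⁻¹).toMonoidHom (MulAut.conj a⁻¹).injective y
    simp only [MulEquiv.coe_toMonoidHom, MulAut.conj_apply, inv_inv] at h1
    rw [h1, hy.ord]
  have hyfix : S.act y u0 = u0 := by rw [hy.act, T0_u0]
  obtain ⟨k, hk, hku, hke⟩ := stab_sylow S (by decide : u0 ≠ 0) (by decide) hy.yz hyfix hc hfix hy.ord hord
  have hak : S.act (a * k) u0 = v := by rw [S.act_mul ha hk, hku, hav]
  have hy' : a * (k * y * k⁻¹) * a⁻¹ = y ∨ a * (k * y * k⁻¹) * a⁻¹ = y⁻¹ := by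
    rcases hke with e | e <;> rw [e]
    · left; group
    · right; group
  rw [show a * (k * y * k⁻¹) * a⁻¹ = a * k * y * (a * k)⁻¹ by group] at hy'
  rcases hy' with e | e
  · exact ⟨a * k, mul_cz S ha hk, mul_inv_eq_iff_eq_mul.1 e, hak⟩
  · obtain ⟨n, hn, hna, hny⟩ := exists_inverter S hy
    refine ⟨a * k * n, mul_cz S (mul_cz S ha hk) hn, mul_inv_eq_iff_eq_mul.1 ?_, ?_⟩
    · rw [show a * k * n * y * (a * k * n)⁻¹ = (a * k) * (n * y * n⁻¹) * (a * k)⁻¹ by group, hny,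
        show a * k * y⁻¹ * (a * k)⁻¹ = (a * k * y * (a * k)⁻¹)⁻¹ by group, e, inv_inv]
    · rw [S.act_mul (mul_cz S ha hk) hn, hna, M_u0, hak]

/-- Elements of `Q` with fixed image centralise `y`. -/
theorem comm_y {x : G} (hx : x ∈ Q) (h : T0 (π x) = π x) : y * x = x * y :=
  comm_of_fixed S hy.yz (y3 S hy) hx (by rw [hy.act, h])

/-- `z` is fused inside `C(y)`. -/
theorem exists_fusion : ∃ r w, r * y = y * r ∧ r * z * r⁻¹ = w ∧ w ∈ Q ∧ π w = u0 ∧ r⁻¹ * z * r ∈ Q ∧
    ∀ x ∈ Q, r⁻¹ * x * r ∈ Q → x = 1 ∨ x = z ∨ x = w ∨ x = w * z := by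
  obtain ⟨u, g, p⟩ := S.exists_pair
  have hyu : y * u = u * y := comm_y S hy p.u_mem (by rw [p.π_u, T0_u0])
  have hc : g⁻¹ * y * g * z = z * (g⁻¹ * y * g) := by
    calc g⁻¹ * y * g * z = g⁻¹ * (y * (g * z * g⁻¹)) * g := by group
      _ = g⁻¹ * ((g * z * g⁻¹) * y) * g := by rw [p.conj, hyu]
      _ = z * (g⁻¹ * y * g) := by group
  have hfix : S.act (g⁻¹ * y * g) u0 = u0 := by
    rw [← p.π_w, S.act_π hc p.w_mem, show g⁻¹ * y * g * (g⁻¹ * z * g) * (g⁻¹ * y * g)⁻¹ =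
      g⁻¹ * (y * z * y⁻¹) * g by group, hy.yz, mul_inv_cancel_right]
  have hord : orderOf (g⁻¹ * y * g) = 3 := by
    have h1 := orderOf_injective (MulAut.conj g⁻¹).toMonoidHom (MulAut.conj g⁻¹).injective y
    simp only [MulEquiv.coe_toMonoidHom, MulAut.conj_apply, inv_inv] at h1
    rw [h1, hy.ord]
  have hyfix : S.act y u0 = u0 := by rw [hy.act, T0_u0]
  obtain ⟨d, hd, -, hde⟩ := stab_sylow S (by decide : u0 ≠ 0) (by decide) hy.yz hyfix hc hfix hy.ord hord
  -- `g * d` moves `z` to `u` and normalises `⟨y⟩`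
  have hnorm : g * d * y * (g * d)⁻¹ = y ∨ g * d * y * (g * d)⁻¹ = y⁻¹ := by
    rw [show g * d * y * (g * d)⁻¹ = g * (d * y * d⁻¹) * g⁻¹ by group]
    rcases hde with e | e <;> rw [e]
    · left; group
    · right; group
  obtain ⟨n, hn, hnorm⟩ : ∃ n, n * z = z * n ∧ g * d * n * y = y * (g * d * n) := by
    rcases hnorm with e | e
    · exact ⟨1, by simp, by rw [mul_one]; exact mul_inv_eq_iff_eq_mul.1 e⟩
    · obtain ⟨n, hn, -, hny⟩ := exists_inverter S hy
      refine ⟨n, hn, mul_inv_eq_iff_eq_mul.1 ?_⟩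
      rw [show g * d * n * y * (g * d * n)⁻¹ = (g * d) * (n * y * n⁻¹) * (g * d)⁻¹ by group, hny,
        show g * d * y⁻¹ * (g * d)⁻¹ = (g * d * y * (g * d)⁻¹)⁻¹ by group, e, inv_inv]
  have hdn : d * n * z = z * (d * n) := mul_cz S hd hn
  have hdni : (d * n)⁻¹ * z = z * (d * n)⁻¹ := (Commute.inv_left hdn).eq
  refine ⟨g * d * n, u, hnorm, ?_, p.u_mem, p.π_u, ?_, fun x hx hx' => ?_⟩
  · rw [show g * d * n * z * (g * d * n)⁻¹ = g * ((d * n) * z * (d * n)⁻¹) * g⁻¹ by group, hdn,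
      mul_inv_cancel_right, p.conj]
  · rw [show (g * d * n)⁻¹ * z * (g * d * n) = (d * n)⁻¹ * (g⁻¹ * z * g) * (d * n)⁻¹⁻¹ by group]
    exact S.norm _ hdni _ p.w_mem
  · refine p.meet_cases hx ?_
    have := S.norm _ hdn _ hx'
    rwa [show d * n * ((g * d * n)⁻¹ * x * (g * d * n)) * (d * n)⁻¹ = g⁻¹ * x * g by group] at this

end

end CfsgLib.Characterizations.SuzType.Three
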