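import Cfsg.Agent.Lib.Characterizations.SuzType.Three.Shape

/-!
# The structure of the centralizer of `y` inside `C(z)`
-/

set_option autoImplicit false
set_option linter.unusedSectionVars false
set_option linter.style.haveILetI false

namespace CfsgLib.Characterizations.SuzType.Three

open Suz

set_option maxRecDepth 100000 in
theorem fixed_count : (Finset.univ.filter fun v : V => T0 v = v).card = 16 := by decide +kernel

variable {G : Type*} [Group G] [Finite G] {z : G} {Q : Subgroup G} {π : G → V}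

/-- `C_Q(y)`. -/
def kq (Q : Subgroup G) (y : G) : Subgroup G := Q ⊓ Subgroup.centralizer ({y} : Set G)

variable (S : Suz z Q π) {y : G} (hy : IsStd S y)
include S hy

theorem mem_kq {x : G} : x ∈ kq Q y ↔ x ∈ Q ∧ T0 (π x) = π x := by
  rw [kq, Subgroup.mem_inf, Subgroup.mem_centralizer_singleton_iff]
  refine and_congr_right fun hx => ⟨fun h => ?_, fun h => (comm_y S hy hx h).symm⟩
  rw [← hy.act, S.act_π hy.yz hx, ← h, mul_inv_cancel_right]

theorem kq_le : kq Q y ≤ hc z y := fun _ hx => mem_hc.2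
  ⟨S.mem_cz hx.1, Subgroup.mem_centralizer_singleton_iff.1 hx.2⟩

theorem y_mem : y ∈ hc z y := mem_hc.2 ⟨hy.yz, rfl⟩

theorem z_mem_kq : z ∈ kq Q y := by
  refine (mem_kq S hy).2 ⟨S.extra.z_mem, ?_⟩
  rw [S.π_z]
  exact (S.act_iso hy.yz).map_zero |> fun h => by rwa [hy.act] at h

theorem card_kq : Nat.card (kq Q y) = 32 := by
  let e : ↥(kq Q y) →* Multiplicative V := MonoidHom.mk' (fun x => Multiplicative.ofAdd (π x)) fun a b => by
    show Multiplicative.ofAdd (π ((a : G) * b)) = _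
    rw [S.π_mul a a.2.1 b b.2.1]; rfl
  have hk : Nat.card e.ker = 2 := by
    have hker : (e.ker : Set ↥(kq Q y)) = {1, ⟨z, z_mem_kq S hy⟩} := by
      ext x
      rw [SetLike.mem_coe, MonoidHom.mem_ker]
      refine (show e x = 1 ↔ π x = 0 from Iff.rfl).trans ((S.π_ker x x.2.1).trans ?_)
      constructor
      · rintro (e' | e')
        · exact Or.inl (Subtype.ext e')
        · exact Or.inr (Subtype.ext e')
      · rintro (e' | e')
        · exact Or.inl (congrArg Subtype.val e')
        · exact Or.inr (congrArg Subtype.val e')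
    rw [← SetLike.coe_sort_coe, Nat.card_coe_set_eq, hker,
      Set.ncard_pair (fun e => S.extra.z_ne (congrArg Subtype.val e).symm)]
  have hr : Nat.card e.range = 16 := by
    rw [← fixed_count, ← Set.ncard_coe_finset, ← SetLike.coe_sort_coe, Nat.card_coe_set_eq]
    refine Set.ncard_congr (fun v _ => v.toAdd) (fun v hv => ?_) (fun a b _ _ h => Multiplicative.toAdd.injective h)
      (fun v hv => ?_)
    · obtain ⟨x, rfl⟩ := hv
      simpa [e] using ((mem_kq S hy).1 x.2).2
    · obtain ⟨x, hx, hxv⟩ := S.π_surj v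
      exact ⟨Multiplicative.ofAdd v, ⟨⟨x, (mem_kq S hy).2 ⟨hx, by rw [hxv]; simpa using hv⟩⟩,
        congrArg Multiplicative.ofAdd hxv⟩, rfl⟩
  rw [← e.ker.card_mul_index, Subgroup.index_ker, hk, hr]

/-- Cosets of `Q` centralised by `y` modulo `Q` have members centralising `y`. -/
theorem exists_lift_comm {c : G} (hcz : c * z = z * c) (h : ∀ v, S.act c (T0 v) = T0 (S.act c v)) :
    ∃ c', c' ∈ hc z y ∧ ∀ v, S.act c' v = S.act c v := by
  have hyi : y⁻¹ * z = z * y⁻¹ := (Commute.inv_left (show Commute y z from hy.yz)).eq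
  obtain ⟨c', h1, h2, h3⟩ := exists_fix S (y3 S hy) (b := y⁻¹) (by rw [inv_pow, y3 S hy, inv_one])
    hy.yz hyi hcz fun v => by
      rw [S.act_mul (mul_cz S hy.yz hcz) hyi, S.act_mul hy.yz hcz, hy.act, ← h, ← hy.act, S.act_act_inv hy.yz]
  exact ⟨c', mem_hc.2 ⟨h1, by rw [mul_inv_eq_iff_eq_mul] at h3; exact h3.symm⟩, h2⟩

/-- Siegel elements with fixed parameter commute with `y` modulo `Q`. -/
theorem commute_param {e : G} (hez : e * z = z * e) {ψ : W5} (hev : Ev ψ) (hef : ∀ v, S.act e v = M 1 ψ v)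
    (hp : ψ 0 = ψ 1 ∧ ψ 1 = ψ 2) (v : V) : S.act e (T0 v) = T0 (S.act e v) := by
  rw [← hy.act, ← hy.act, form_comp (S.act_iso hez) (S.act_iso hy.yz) hev ev_zero hef hy.act v,
    form_comp (S.act_iso hy.yz) (S.act_iso hez) ev_zero hev hy.act hef v, one_mul, mul_one]
  have e1 : ((fun i => (0 : W5) ((1 : Equiv.Perm (Fin 5))⁻¹ i)) + ψ) = ψ := by funext i; simp
  have e2 : ((fun i => ψ (τ0⁻¹ i)) + 0) = ψ := by rw [add_zero]; exact (fixed_param ψ hev).2 hp
  rw [e1, e2]

/-- The form of an element of the point stabiliser. -/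
theorem stab_form {c : G} (hcc : c ∈ hc z y) {σ : Equiv.Perm (Fin 5)} {φ : W5} (hφ : Ev φ)
    (h : ∀ v, S.act c v = M σ φ v) : (σ = 1 ∨ σ = τ0 ∨ σ = τ0 * τ0) ∧ φ 0 = φ 1 ∧ φ 1 = φ 2 := by
  have hcz := (mem_hc.1 hcc).1
  have hyT : ∀ v, S.act y v = M τ0 0 v := hy.act
  have h1 := form_comp (S.act_iso hy.yz) (S.act_iso hcz) ev_zero hφ hyT h
  have h2 := form_comp (S.act_iso hcz) (S.act_iso hy.yz) hφ ev_zero h hyT
  obtain ⟨e1, e2⟩ := M_unique (ev_add (ev_perm hφ τ0⁻¹) ev_zero) (ev_add (ev_perm ev_zero σ⁻¹) hφ) fun v => by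
    rw [← h1, ← h2, ← S.act_mul hy.yz hcz, ← S.act_mul hcz hy.yz, (mem_hc.1 hcc).2]
  refine ⟨commute_τ0 σ (sign_of_form S hcz hφ h) e1.symm, (fixed_param φ hφ).1 ?_⟩
  funext i
  simpa using congrFun e2 i

theorem card_stab : Nat.card ↥(hc z y ⊓ S.stab u0) = 384 := by
  classical
  have hid : Iso (id : V → V) := ⟨fun _ _ => rfl, fun _ => rfl, Function.injective_id⟩
  obtain ⟨σ, φ, hd⟩ := S.exists_data (u := u0) (T := id) hid rfl
  let ι : ↥(hc z y ⊓ S.stab u0) →* ↥(S.stab u0) := Subgroup.inclusion inf_le_right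
  let f := σ.comp ι
  have hyst : y ∈ hc z y ⊓ S.stab u0 := ⟨y_mem S hy, hy.yz, by rw [hy.act, T0_u0]⟩
  have hrange : f.range = Subgroup.zpowers τ0 := by
    apply le_antisymm
    · rintro _ ⟨c, rfl⟩
      rcases (stab_form S hy c.2.1 (hd.ev (ι c)) (fun v => hd.form (ι c) v)).1 with e | e | e
      · show σ (ι c) ∈ _; rw [e]; exact one_mem _
      · show σ (ι c) ∈ _; rw [e]; exact Subgroup.mem_zpowers _
      · show σ (ι c) ∈ _; rw [e]; exact mul_mem (Subgroup.mem_zpowers _) (Subgroup.mem_zpowers _)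
    · exact Subgroup.zpowers_le.2 ⟨⟨y, hyst⟩, (hd.form_eq S (ι ⟨y, hyst⟩) ev_zero hy.act).1⟩
  have h3 : Nat.card f.range = 3 := by
    have : Fact (Nat.Prime 3) := ⟨Nat.prime_three⟩
    rw [hrange, Nat.card_zpowers, orderOf_eq_prime τ0_facts.2.2.1 τ0_facts.2.2.2]
  have hh : ∀ c d : ↥f.ker, φ (ι (c * d : ↥f.ker)) = φ (ι c) + φ (ι d) := fun c d => by
    show φ (ι c * ι d) = _
    rw [hd.phi_mul, show σ (ι c) = 1 from MonoidHom.mem_ker.1 c.2, add_comm]
    rfl
  let g : ↥f.ker →* Multiplicative ↥evSub :=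
    MonoidHom.mk' (fun c => Multiplicative.ofAdd ⟨φ (ι c), hd.ev _⟩) fun c d =>
      congrArg Multiplicative.ofAdd (Subtype.ext (hh c d))
  have hker : Nat.card g.ker = 32 := by
    rw [← card_kq S hy]
    have hQst : ∀ x ∈ kq Q y, x ∈ hc z y ⊓ S.stab u0 := fun x hx =>
      ⟨kq_le S hy hx, S.mem_cz hx.1, S.act_Q hx.1 u0⟩
    have hQ0 : ∀ x (hx : x ∈ kq Q y), σ (ι ⟨x, hQst x hx⟩) = 1 ∧ φ (ι ⟨x, hQst x hx⟩) = 0 := fun x hx =>
      M_unique (hd.ev _) ev_zero fun v => (hd.form (ι ⟨x, hQst x hx⟩) v).symm.trans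
        ((S.act_Q hx.1 v).trans (evM_zero v).symm)
    refine Nat.card_congr
      { toFun := fun c => ⟨((c : ↥f.ker) : ↥(hc z y ⊓ S.stab u0)),
          ⟨S.mem_of_act_id (c : ↥f.ker).1.2.2.1 fun v => ?_,
            Subgroup.mem_centralizer_singleton_iff.2 (mem_hc.1 (c : ↥f.ker).1.2.1).2⟩⟩
        invFun := fun x => ⟨⟨⟨x, hQst x x.2⟩, (hQ0 x x.2).1⟩,
          congrArg Multiplicative.ofAdd (Subtype.ext (hQ0 x x.2).2)⟩
        left_inv := fun c => rfl
        right_inv := fun x => rfl }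
    have e1 : φ (ι (c : ↥f.ker)) = 0 :=
      congrArg Subtype.val (Multiplicative.ofAdd.injective (MonoidHom.mem_ker.1 c.2))
    refine (hd.form (ι (c : ↥f.ker)) v).trans ?_
    rw [show σ (ι (c : ↥f.ker)) = 1 from MonoidHom.mem_ker.1 (c : ↥f.ker).2, e1, evM_zero]
    rfl
  have h4 : Nat.card g.range = 4 := by
    rw [← param_count, ← Set.ncard_coe_finset, ← SetLike.coe_sort_coe, Nat.card_coe_set_eq]
    refine Set.ncard_congr (fun v _ => (v.toAdd : W5)) (fun v hv => ?_)
      (fun a b _ _ h => Multiplicative.toAdd.injective (Subtype.ext h)) (fun ψ hψ => ?_)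
    · obtain ⟨c, rfl⟩ := hv
      have := (stab_form S hy c.1.2.1 (hd.ev (ι c)) (fun w => hd.form (ι c) w)).2
      simpa [g] using And.intro (hd.ev (ι c)) this
    · obtain ⟨hev, hp⟩ : Ev ψ ∧ ψ 0 = ψ 1 ∧ ψ 1 = ψ 2 := by simpa using hψ
      obtain ⟨u, g', p⟩ := S.exists_pair
      obtain ⟨e, he, hef⟩ := p.exists_sie hev
      have hez := (p.sie_comm he).1
      obtain ⟨c, hcc, hca⟩ := exists_lift_comm S hy hez (commute_param S hy hez hev hef hp)
      have hform : ∀ v, S.act c v = M 1 ψ v := fun v => (hca v).trans (hef v)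
      have hcs : c ∈ hc z y ⊓ S.stab u0 := ⟨hcc, (mem_hc.1 hcc).1, by rw [hform, M_u0]⟩
      obtain ⟨e1, e2⟩ := hd.form_eq S (ι ⟨c, hcs⟩) hev hform
      exact ⟨Multiplicative.ofAdd ⟨ψ, hev⟩, ⟨⟨⟨c, hcs⟩, e1⟩, congrArg Multiplicative.ofAdd (Subtype.ext e2)⟩, rfl⟩
  rw [← f.ker.card_mul_index, Subgroup.index_ker, h3, ← g.ker.card_mul_index, Subgroup.index_ker, hker, h4]

theorem card_hc : Nat.card ↥(hc z y) = 3456 := by
  classical
  let _ : MulAction ↥(hc z y) V :=
    { smul := fun c v => S.act (c : G) v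
      one_smul := fun v => S.act_one v
      mul_smul := fun c d v => S.act_mul (mem_hc.1 c.2).1 (mem_hc.1 d.2).1 v }
  have h := (MulAction.stabilizer ↥(hc z y) u0).index_mul_card
  rw [MulAction.index_stabilizer] at h
  have hs : Nat.card (MulAction.stabilizer ↥(hc z y) u0) = 384 := by
    rw [← card_stab S hy]
    exact Nat.card_congr
      { toFun := fun c => ⟨((c : ↥(hc z y)) : G), c.1.2, (mem_hc.1 c.1.2).1, c.2⟩
        invFun := fun c => ⟨⟨c, c.2.1⟩, c.2.2.2⟩
        left_inv := fun c => rfl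
        right_inv := fun c => rfl }
  have ho : (MulAction.orbit ↥(hc z y) u0).ncard = 9 := by
    rw [← singular_count, ← Set.ncard_coe_finset]
    congr 1
    ext v
    simp only [Finset.coe_filter, Finset.mem_univ, true_and, Set.mem_setOf_eq]
    constructor
    · rintro ⟨c, rfl⟩
      have hi := S.act_iso (mem_hc.1 c.2).1
      refine ⟨fun e => ?_, ?_, ?_⟩
      · exact absurd (hi.inj (e.trans hi.map_zero.symm)) (by decide)
      · show q (S.act (c : G) u0) = 0
        rw [hi.quad]; decide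
      · show T0 (S.act (c : G) u0) = S.act (c : G) u0
        rw [← act_commute S hy c.2, T0_u0]
    · rintro ⟨hv, hq, hT⟩
      obtain ⟨c, hcz, hcy, hcv⟩ := exists_move S hy hv hq hT
      exact ⟨⟨c, mem_hc.2 ⟨hcz, hcy⟩⟩, hcv⟩
  rw [ho, hs] at h
  rw [← h]

/-- Every triple of rotations is induced by an element of order dividing three. -/
theorem exists_rot (i j k : Fin 3) : ∃ r, r ∈ hc z y ∧ r ^ 3 = 1 ∧ RotAct (S.act r) i j k := by
  classical
  have : Fact (Nat.Prime 3) := ⟨Nat.prime_three⟩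
  obtain ⟨P, hP⟩ := Sylow.exists_subgroup_card_pow_prime 3 (G := ↥(hc z y)) (n := 3)
    (by rw [card_hc S hy]; norm_num)
  have h27 : ∀ p : ↥P, ((p : ↥(hc z y)) : G) ^ 27 = 1 := fun p => by
    have h := pow_card_eq_one' (x := p)
    rw [hP] at h
    norm_num at h
    exact congrArg Subtype.val (congrArg Subtype.val h)
  choose I J K hR using fun p : ↥P => rot_of_pow S hy (p : ↥(hc z y)).2 (h27 p)
  have hPQ : ∀ p : ↥P, ((p : ↥(hc z y)) : G) ∈ Q → p = 1 := by
    intro p hp
    have : Fact (Nat.Prime 2) := ⟨Nat.prime_two⟩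
    obtain ⟨m, hm⟩ := S.extra.isPGroup ⟨_, hp⟩
    have hm' : ((p : ↥(hc z y)) : G) ^ 2 ^ m = 1 := congrArg Subtype.val hm
    have hd := Nat.dvd_gcd (orderOf_dvd_of_pow_eq_one (h27 p)) (orderOf_dvd_of_pow_eq_one hm')
    rw [show (27 : ℕ) = 3 ^ 3 by norm_num, Nat.Coprime.gcd_eq_one (Nat.Coprime.pow 3 m (by norm_num)),
      Nat.dvd_one, orderOf_eq_one_iff] at hd
    exact Subtype.ext (Subtype.ext hd)
  let F : ↥P → Fin 3 × Fin 3 × Fin 3 := fun p => (I p, J p, K p)
  have hinj : Function.Injective F := by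
    intro p p' e
    simp only [F, Prod.mk.injEq] at e
    have hz := (mem_hc.1 (p : ↥(hc z y)).2).1
    have hz' := (mem_hc.1 (p' : ↥(hc z y)).2).1
    have h := RotAct.mul S (cz_inv hz) hz' (RotAct.inv S hz (hR p)) (hR p')
    rw [e.1, e.2.1, e.2.2, neg_add_cancel, neg_add_cancel, neg_add_cancel] at h
    have := hPQ (p⁻¹ * p') (rotAct_mem S (mul_cz S (cz_inv hz) hz') h)
    exact inv_mul_eq_one.1 this
  have hbij : Function.Bijective F := by
    rw [Nat.bijective_iff_injective_and_card]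
    exact ⟨hinj, by rw [hP]; simp⟩
  obtain ⟨p, hp⟩ := hbij.2 (i, j, k)
  simp only [F, Prod.mk.injEq] at hp
  obtain ⟨rfl, rfl, rfl⟩ := hp
  refine ⟨((p : ↥(hc z y)) : G), (p : ↥(hc z y)).2, ?_, hR p⟩
  have hz := (mem_hc.1 (p : ↥(hc z y)).2).1
  have h3 := RotAct.mul S (mul_cz S hz hz) hz (RotAct.mul S hz hz (hR p) (hR p)) (hR p)
  have hzero : ∀ a : Fin 3, a + a + a = 0 := by decide
  rw [hzero, hzero, hzero] at h3
  have := hPQ (p * p * p) (rotAct_mem S (mul_cz S (mul_cz S hz hz) hz) h3)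
  rw [pow_succ, pow_two]
  exact congrArg Subtype.val (congrArg Subtype.val this)

/-- An element inverting both fixed rotations. -/
theorem exists_double : ∃ s, s ∈ hc z y ∧ (∀ x, S.act s (va x) = va (-x)) ∧
    (∀ x, S.act s (vb x) = vb (1 - x)) ∧ ∀ x, S.act s (ve x) = ve x := by
  obtain ⟨hev, hp1, hp2, hφ⟩ := φs_facts
  obtain ⟨u, g, p⟩ := S.exists_pair
  obtain ⟨e, he, hef⟩ := p.exists_sie hev
  have hez := (p.sie_comm he).1
  obtain ⟨c, hcc, hca⟩ := exists_lift_comm S hy hez (commute_param S hy hez hev hef ⟨hp1, hp2⟩)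
  exact ⟨c, hcc, fun x => by rw [hca, hef, (hφ x).1], fun x => by rw [hca, hef, (hφ x).2.1],
    fun x => by rw [hca, hef, (hφ x).2.2]⟩

/-- Rotations of the fixed planes centralise `C_Q(y)` where they act trivially. -/
theorem rot_comm {r x : G} (hr : r * z = z * r) (h3 : r ^ 3 = 1) (hx : x ∈ Q) (h : S.act r (π x) = π x) :
    r * x = x * r :=
  comm_of_fixed S hr h3 hx h

/-- An element of `hc` of two-power order normalising both rotations is in `Q` if its commutators with them
have two-power order. -/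
theorem mem_of_two_power {c xa xb : G} (hcc : c ∈ hc z y) {m : ℕ} (hm : c ^ 2 ^ m = 1) (hxa : xa ∈ hc z y)
    (hxb : xb ∈ hc z y) (ha : RotAct (S.act xa) 1 0 0) (hb : RotAct (S.act xb) 0 1 0) {n n' : ℕ}
    (hca : (c * xa * c⁻¹ * xa⁻¹) ^ 2 ^ n = 1) (hcb : (c * xb * c⁻¹ * xb⁻¹) ^ 2 ^ n' = 1) : c ∈ Q := by
  have hcz := (mem_hc.1 hcc).1
  -- such commutators act trivially
  have key : ∀ (r : G) (i j : Fin 3), r ∈ hc z y → RotAct (S.act r) i j 0 → ∀ l : ℕ,
      (c * r * c⁻¹ * r⁻¹) ^ 2 ^ l = 1 → ∀ v, S.act c (S.act r v) = S.act r (S.act c v) := by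
    intro r i j hr hrot l hl v
    have hrz := (mem_hc.1 hr).1
    obtain ⟨i', j', h'⟩ := rot_conj S hy hcc hrz hrot
    have hcr : c * r * c⁻¹ * z = z * (c * r * c⁻¹) := mul_cz S (mul_cz S hcz hrz) (cz_inv hcz)
    have hd := RotAct.mul S hcr (cz_inv hrz) h' (RotAct.inv S hrz hrot)
    set d := c * r * c⁻¹ * r⁻¹ with hd'
    have hdz : d * z = z * d := mul_cz S hcr (cz_inv hrz)
    have hpow : ∀ N : ℕ, RotAct (S.act (d ^ N)) (N • (i' + -i)) (N • (j' + -j)) (N • (0 + -0)) := by
      intro N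
      induction N with
      | zero => simpa using rotAct_one S
      | succ N ih =>
        rw [pow_succ, succ_nsmul, succ_nsmul, succ_nsmul]
        exact RotAct.mul S ((show Commute d z from hdz).pow_left N).eq hdz ih hd
    have e := (hl ▸ hpow (2 ^ l)).unique (rotAct_one S)
    have hzero : ∀ a : Fin 3, 2 ^ l • a = 0 → a = 0 := by
      intro a ha
      have h' : ∀ a : Fin 3, 2 • a = 0 → a = 0 := by decide
      clear * - ha h'
      induction l with
      | zero => simpa using ha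
      | succ l ih => rw [pow_succ, mul_nsmul] at ha; exact ih (h' _ ha)
    rw [hzero _ e.1, hzero _ e.2.1, hzero _ e.2.2] at hd
    have hdQ := rotAct_mem S hdz hd
    rw [← S.act_mul hcz hrz, show c * r = d * (r * c) by rw [hd']; group,
      S.act_mul hdz (mul_cz S hrz hcz), S.act_Q hdQ, S.act_mul hrz hcz]
  have ka := key xa 1 0 hxa ha n hca
  have kb := key xb 0 1 hxb hb n' hcb
  obtain ⟨s, α, β, k, hs⟩ := hc_shape S hy hcc
  have hs0 : s = false := by
    by_contra hne
    have e := ka (va 0)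
    rw [ha.fa, hs.fa, hs.fa, show s = true by simpa using hne] at e
    show False
    rw [show S.act xa (vp true (α 0)) = vp true (α 0) by
      show S.act xa (vb (α 0)) = vb (α 0); rw [ha.fb, add_zero]] at e
    exact absurd (α.injective (vp_inj e)) (by decide)
  subst hs0
  have hα : ∀ x, α (x + 1) = α x + 1 := fun x => by
    have e := ka (va x)
    rw [ha.fa, hs.fa, hs.fa] at e
    exact vp_inj (s := false) (e.trans (ha.fa _))
  have hβ : ∀ x, β (x + 1) = β x + 1 := fun x => by
    have e := kb (vb x)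
    rw [hb.fb, hs.fb, hs.fb] at e
    exact vp_inj (s := true) (e.trans (hb.fb _))
  obtain ⟨i, hi⟩ := perm_commutes α 1 (by decide) hα
  obtain ⟨j, hj⟩ := perm_commutes β 1 (by decide) hβ
  have hrot : RotAct (S.act c) i j k :=
    ⟨fun x => by rw [hs.fa, hi]; rfl, fun x => by rw [hs.fb, hj]; rfl, hs.fe⟩
  have hpow : ∀ N : ℕ, RotAct (S.act (c ^ N)) (N • i) (N • j) (N • k) := by
    intro N
    induction N with
    | zero => simpa using rotAct_one S
    | succ N ih =>
      rw [pow_succ, succ_nsmul, succ_nsmul, succ_nsmul]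
      exact RotAct.mul S ((show Commute c z from hcz).pow_left N).eq hcz ih hrot
  have e := (hm ▸ hpow (2 ^ m)).unique (rotAct_one S)
  have hzero : ∀ a : Fin 3, 2 ^ m • a = 0 → a = 0 := by
    intro a ha'
    have h' : ∀ a : Fin 3, 2 • a = 0 → a = 0 := by decide
    clear * - ha' h'
    induction m with
    | zero => simpa using ha'
    | succ m ih => rw [pow_succ, mul_nsmul] at ha'; exact ih (h' _ ha')
  rw [hzero _ e.1, hzero _ e.2.1, hzero _ e.2.2] at hrot
  exact rotAct_mem S hcz hrot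

/-- What centralises `C_Q(y)` lies in `Q⟨y⟩`. -/
theorem centralizes_kq {c : G} (hcc : c ∈ hc z y) (h : ∀ x ∈ kq Q y, c * x = x * c) :
    ∃ k : Fin 3, RotAct (S.act c) 0 0 k := by
  have hcz := (mem_hc.1 hcc).1
  have hfix : ∀ v, T0 v = v → S.act c v = v := fun v hv => by
    obtain ⟨x, hx, rfl⟩ := S.π_surj v
    rw [S.act_π hcz hx, h x ((mem_kq S hy).2 ⟨hx, hv⟩), mul_inv_cancel_right]
  obtain ⟨s, α, β, k, hs⟩ := hc_shape S hy hcc
  exact ⟨k, fun x => by rw [add_zero]; exact hfix _ (T0_planes x).1,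
    fun x => by rw [add_zero]; exact hfix _ (T0_planes x).2.1, hs.fe⟩

/-- A 2-subgroup of `hc` centralising a rotation of both planes has order at most `4`. -/
theorem card_two_le {T : Subgroup G} (hT : T ≤ hc z y) (hT2 : IsPGroup 2 T) {r : G} (hr : r * z = z * r)
    {i j : Fin 3} (hi : i ≠ 0) (hj : j ≠ 0) (hrot : RotAct (S.act r) i j 0)
    (hcomm : ∀ c ∈ T, c * r = r * c) : Nat.card T ≤ 4 := by
  classical
  have hkey : ∀ c ∈ T, ∀ s α β k, Shape (S.act c) s α β k → s = false → c = 1 ∨ c = z := by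
    intro c hc' s α β k hs e0
    subst e0
    have hcz := (mem_hc.1 (hT hc')).1
    have hact : ∀ v, S.act c (S.act r v) = S.act r (S.act c v) := fun v => by
      rw [← S.act_mul hcz hr, hcomm c hc', S.act_mul hr hcz]
    have hα : ∀ x, α (x + i) = α x + i := fun x => by
      have e := hact (va x)
      rw [hrot.fa, hs.fa, hs.fa] at e
      exact vp_inj (s := false) (e.trans (hrot.fa _))
    have hβ : ∀ x, β (x + j) = β x + j := fun x => by
      have e := hact (vb x)
      rw [hrot.fb, hs.fb, hs.fb] at e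
      exact vp_inj (s := true) (e.trans (hrot.fb _))
    obtain ⟨i', hi'⟩ := perm_commutes α i hi hα
    obtain ⟨j', hj'⟩ := perm_commutes β j hj hβ
    have hrc : RotAct (S.act c) i' j' k :=
      ⟨fun x => by rw [hs.fa, hi']; rfl, fun x => by rw [hs.fb, hj']; rfl, hs.fe⟩
    obtain ⟨m, hm⟩ := hT2 ⟨c, hc'⟩
    have hm' : c ^ 2 ^ m = 1 := congrArg Subtype.val hm
    have hpow : ∀ N : ℕ, RotAct (S.act (c ^ N)) (N • i') (N • j') (N • k) := by
      intro N
      induction N with
      | zero => simpa using rotAct_one S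
      | succ N ih =>
        rw [pow_succ, succ_nsmul, succ_nsmul, succ_nsmul]
        exact RotAct.mul S ((show Commute c z from hcz).pow_left N).eq hcz ih hrc
    have e := (hm' ▸ hpow (2 ^ m)).unique (rotAct_one S)
    have hzero : ∀ a : Fin 3, 2 ^ m • a = 0 → a = 0 := by
      intro a ha'
      have h' : ∀ a : Fin 3, 2 • a = 0 → a = 0 := by decide
      clear * - ha' h'
      induction m with
      | zero => simpa using ha'
      | succ m ih => rw [pow_succ, mul_nsmul] at ha'; exact ih (h' _ ha')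
    rw [hzero _ e.1, hzero _ e.2.1, hzero _ e.2.2] at hrc
    have hcQ := rotAct_mem S hcz hrc
    have hck : c ∈ kq Q y := ⟨hcQ, Subgroup.mem_centralizer_singleton_iff.2 (mem_hc.1 (hT hc')).2⟩
    have hfix : T0 (π c) = π c := ((mem_kq S hy).1 hck).2
    have hr3 : S.act r (π c) = π c := by
      rw [S.act_π hr hcQ, ← hcomm c hc', mul_inv_cancel_right]
    -- a fixed vector moved by neither rotation is zero
    have hzero' : π c = 0 := by
      have hva : ∀ x, B (π c) (va x) = B (π c) (va (x + i)) := fun x => by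
        conv_lhs => rw [← (S.act_iso hr).polar, hr3, hrot.fa]
      have hvb : ∀ x, B (π c) (vb x) = B (π c) (vb (x + j)) := fun x => by
        conv_lhs => rw [← (S.act_iso hr).polar, hr3, hrot.fb]
      obtain ⟨hsa, hsb, -⟩ := plane_sums
      have two : ∀ a b : ZMod 2, a = b → a + b = 0 := by decide
      have Badd : ∀ u v w : V, B u (v + w) = B u v + B u w := fun u v w => by
        rw [B_comm u, B_add_left, B_comm v, B_comm w]
      have pa : B (π c) (va 0) = 0 ∧ B (π c) (va 1) = 0 := by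
        have h01 : B (π c) (va 0) = B (π c) (va 1) ∧ B (π c) (va 0) = B (π c) (va 2) := by
          rcases ((by decide : ∀ a : Fin 3, a ≠ 0 → a = 1 ∨ a = 2) i hi) with rfl | rfl
          · exact ⟨hva 0, (hva 0).trans (hva 1)⟩
          · exact ⟨(hva 0).trans (hva 2), hva 0⟩
        have h2 := h01.2
        rw [hsa, Badd] at h2
        have : B (π c) (va 0) = 0 := by rw [h2]; exact two _ _ h01.1
        exact ⟨this, h01.1 ▸ this⟩
      have pb : B (π c) (vb 0) = 0 ∧ B (π c) (vb 1) = 0 := by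
        have h01 : B (π c) (vb 0) = B (π c) (vb 1) ∧ B (π c) (vb 0) = B (π c) (vb 2) := by
          rcases ((by decide : ∀ a : Fin 3, a ≠ 0 → a = 1 ∨ a = 2) j hj) with rfl | rfl
          · exact ⟨hvb 0, (hvb 0).trans (hvb 1)⟩
          · exact ⟨(hvb 0).trans (hvb 2), hvb 0⟩
        have h2 := h01.2
        rw [hsb, Badd] at h2
        have : B (π c) (vb 0) = 0 := by rw [h2]; exact two _ _ h01.1
        exact ⟨this, h01.1 ▸ this⟩
      have pe := fixed_perp _ hfix
      rw [decomp (π c), pa.1, pa.2, pb.1, pb.2, pe.1, pe.2]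
      simp
    exact (S.π_ker c hcQ).1 hzero'
  -- at most two cosets of `{1, z}`
  by_cases hall : ∀ c ∈ T, c = 1 ∨ c = z
  · have : (T : Set G) ⊆ {1, z} := fun c hc' => by
      rcases hall c hc' with h | h <;> simp [h]
    have h2 := Set.ncard_le_ncard this (by simp)
    rw [← Nat.card_coe_set_eq] at h2
    have := Set.ncard_insert_le (1 : G) {z}
    rw [Set.ncard_singleton] at this
    show Nat.card T ≤ 4
    exact le_trans h2 (by omega)
  · push Not at hall
    obtain ⟨d, hd, hd1, hd2⟩ := hall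
    have hsub : (T : Set G) ⊆ {1, z, d, z * d} := by
      intro c hc'
      obtain ⟨s, α, β, k, hs⟩ := hc_shape S hy (hT hc')
      obtain ⟨s', α', β', k', hs'⟩ := hc_shape S hy (hT hd)
      by_cases e : s = false
      · rcases hkey c hc' s α β k hs e with h | h <;> simp [h]
      · have e' : s' = true := by
          by_contra h
          rcases hkey d hd s' α' β' k' hs' (by simpa using h) with h' | h'
          · exact hd1 h'
          · exact hd2 h'
        have e : s = true := by simpa using e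
        subst e e'
        obtain ⟨t, γ, δ, l, ht⟩ := hc_shape S hy (hT (mul_mem hc' (inv_mem hd)))
        have ht0 : t = false := by
          by_contra h
          have h' : t = true := by simpa using h
          subst h'
          have e1 := ht.fa (β' 0)
          rw [show va (β' 0) = S.act d (vb 0) by rw [hs'.fb]; rfl,
            ← S.act_mul (mem_hc.1 (hT (mul_mem hc' (inv_mem hd)))).1 (mem_hc.1 (hT hd)).1,
            inv_mul_cancel_right, hs.fb] at e1
          exact vp_ne (s := false) _ _ e1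
        rcases hkey _ (mul_mem hc' (inv_mem hd)) t γ δ l ht ht0 with h | h
        · rw [mul_inv_eq_one.1 h]; simp
        · rw [mul_inv_eq_iff_eq_mul.1 h]; simp
    have h2 := Set.ncard_le_ncard hsub (by simp)
    rw [← Nat.card_coe_set_eq] at h2
    have h3 : ({1, z, d, z * d} : Set G).ncard ≤ 4 := by
      have a1 := Set.ncard_insert_le (1 : G) {z, d, z * d}
      have a2 := Set.ncard_insert_le z ({d, z * d} : Set G)
      have a3 := Set.ncard_insert_le d ({z * d} : Set G)
      rw [Set.ncard_singleton] at a3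
      omega
    show Nat.card T ≤ 4
    exact le_trans h2 h3

end CfsgLib.Characterizations.SuzType.Three
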