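import Mathlib

/-!
# An elementary abelian group of order `3^5` with eleven distinguished lines

`Cover y a b A L` records what the local analysis at an element `y` of order three gives about `A`: the lines of
`A` conjugate to `⟨y⟩` are `⟨y⟩` and the ten lines `⟨L i⟩`, `C(y) ∩ N(A)` is transitive on pairs of the ten, some
element of `N(A)` moves `⟨a⟩` to `⟨y⟩`, and the stabiliser of `y, a, b` is of order `243 · 8`, inverting an even
number of the three.
-/

set_option autoImplicit false

namespace CfsgLib.Characterizations.SuzType.Three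

open Subgroup

/-- `g` fixes or inverts `x`, with the sign `e` (`true` for inversion). -/
def SignAt {G : Type*} [Group G] (g x : G) (e : Bool) : Prop := g * x * g⁻¹ = cond e x⁻¹ x

/-- The configuration at `A`. -/
structure Cover {G : Type*} [Group G] (y a b : G) (A : Subgroup G) (L : Fin 10 → G) : Prop where
  card_A : Nat.card A = 243
  comm : ∀ u ∈ A, ∀ v ∈ A, u * v = v * u
  exp : ∀ u ∈ A, u ^ 3 = 1
  cent : centralizer (A : Set G) = A
  y_mem : y ∈ A
  y_ord : orderOf y = 3
  L_mem : ∀ i, L i ∈ A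
  L_ord : ∀ i, orderOf (L i) = 3
  L_zero : L 0 = a
  L_one : L 1 = b
  L_ne : ∀ i, L i ∉ zpowers y
  L_inj : ∀ i j, L i ∈ zpowers (L j) → i = j
  point : ∀ x ∈ A, IsConj y x → x ∈ zpowers y ∨ ∃ i, x ∈ zpowers (L i)
  pairs : ∀ i j, i ≠ j → ∃ g ∈ normalizer (A : Set G), g * y = y * g ∧
    g * L i * g⁻¹ ∈ zpowers a ∧ g * L j * g⁻¹ ∈ zpowers b
  move : ∃ k ∈ normalizer (A : Set G), k * a * k⁻¹ ∈ zpowers y
  card_stab : Nat.card ↥(normalizer (A : Set G) ⊓ normalizer (zpowers y : Set G) ⊓
    normalizer (zpowers a : Set G) ⊓ normalizer (zpowers b : Set G)) = 243 * 8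
  signs : ∀ g ∈ normalizer (A : Set G), ∀ e₀ e₁ e₂ : Bool,
    SignAt g y e₀ → SignAt g a e₁ → SignAt g b e₂ → e₂ = xor e₀ e₁
  kernel : ∀ g ∈ normalizer (A : Set G), g * y = y * g → (∀ i, g * L i = L i * g) → g ∈ A

end CfsgLib.Characterizations.SuzType.Three
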