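import Cfsg.Agent.Lib.Characterizations.SuzType.Three.ElevenPoints
import Cfsg.Agent.Lib.Characterizations.SuzType.Three.Cover

/-!
# The automiser of the group of order `3^5` is `M₁₁`
-/

set_option autoImplicit false
set_option linter.unusedSectionVars false
set_option linter.style.haveILetI false

namespace CfsgLib.Characterizations.SuzType.Three

open Subgroup MulAction

variable {G : Type*} [Group G]

theorem conj_mem_zpowers (g : G) {u w : G} (h : u ∈ zpowers w) : g * u * g⁻¹ ∈ zpowers (g * w * g⁻¹) := by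
  obtain ⟨k, rfl⟩ := mem_zpowers_iff.mp h
  exact mem_zpowers_iff.mpr ⟨k, conj_zpow⟩

theorem eq_or_eq_inv_of_mem {u w : G} (hw : orderOf w = 3) (h : u ∈ zpowers w) (hu : u ≠ 1) :
    u = w ∨ u = w⁻¹ := by
  obtain ⟨k, rfl⟩ := mem_zpowers_iff.mp h
  rw [← zpow_mod_orderOf, hw] at hu ⊢
  have h3 : w ^ 3 = 1 := hw ▸ pow_orderOf_eq_one w
  obtain h0 | h1 | h2 : k % ((3 : ℕ) : ℤ) = 0 ∨ k % ((3 : ℕ) : ℤ) = 1 ∨ k % ((3 : ℕ) : ℤ) = 2 := by omega
  · rw [h0, zpow_zero] at hu; exact absurd rfl hu
  · rw [h1, zpow_one]; exact Or.inl rfl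
  · rw [h2, show (2 : ℤ) = ((2 : ℕ) : ℤ) from rfl, zpow_natCast]
    refine Or.inr (eq_inv_of_mul_eq_one_left ?_)
    rw [← pow_succ, h3]

theorem signAt_inv {g x : G} {e : Bool} (h : SignAt g x⁻¹ e) : SignAt g x e := by
  unfold SignAt at *
  cases e <;> simp only [cond_false, cond_true, inv_inv] at * <;>
    simpa [mul_assoc] using congrArg Inv.inv h

theorem signAt_conj {g x : G} {e : Bool} (t : G) (h : SignAt g x e) :
    SignAt (t * g * t⁻¹) (t * x * t⁻¹) e := by
  unfold SignAt at *
  have h' : t * g * t⁻¹ * (t * x * t⁻¹) * (t * g * t⁻¹)⁻¹ = t * (g * x * g⁻¹) * t⁻¹ := by group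
  rw [h', h]
  cases e <;> simp [mul_assoc]

/-- Representatives of the eleven lines. -/
def rep (y : G) (L : Fin 10 → G) : Option (Fin 10) → G
  | none => y
  | some i => L i

namespace Cover

variable {y a b : G} {A : Subgroup G} {L : Fin 10 → G} (h : Cover y a b A L)
include h

theorem rep_ord : ∀ o, orderOf (rep y L o) = 3
  | none => h.y_ord
  | some i => h.L_ord i

theorem rep_mem : ∀ o, rep y L o ∈ A
  | none => h.y_mem
  | some i => h.L_mem i

theorem rep_ne_one (o : Option (Fin 10)) : rep y L o ≠ 1 := fun e => by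
  have := h.rep_ord o
  rw [e, orderOf_one] at this
  omega

theorem mem_line_symm {o : Option (Fin 10)} {u : G} (hu : u ∈ zpowers (rep y L o)) (h1 : u ≠ 1) :
    rep y L o ∈ zpowers u := by
  rcases eq_or_eq_inv_of_mem (h.rep_ord o) hu h1 with rfl | rfl
  · exact mem_zpowers _
  · exact inv_mem_iff.mp (mem_zpowers _)

theorem rep_inj {o p : Option (Fin 10)} (he : rep y L o ∈ zpowers (rep y L p)) : o = p := by
  match o, p, he with
  | none, none, _ => rfl
  | none, some j, he =>
      exact absurd (h.mem_line_symm (o := some j) he (h.rep_ne_one none)) (h.L_ne j)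
  | some i, none, he => exact absurd he (h.L_ne i)
  | some i, some j, he => exact congrArg some (h.L_inj i j he)

theorem eq_line {u : G} {o p : Option (Fin 10)} (ho : u ∈ zpowers (rep y L o))
    (hp : u ∈ zpowers (rep y L p)) (h1 : u ≠ 1) : o = p :=
  h.rep_inj (zpowers_le.mpr hp (h.mem_line_symm ho h1))

theorem signAt_rep {g u : G} {o : Option (Fin 10)} {e : Bool} (hu : u ∈ zpowers (rep y L o))
    (h1 : u ≠ 1) (hs : SignAt g u e) : SignAt g (rep y L o) e := by
  rcases eq_or_eq_inv_of_mem (h.rep_ord o) hu h1 with rfl | rfl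
  · exact hs
  · exact signAt_inv hs

theorem pairs' (i : Fin 10) : ∃ j, i ≠ j := exists_ne i |>.imp fun _ hj => hj.symm

theorem conj_y (o : Option (Fin 10)) : IsConj y (rep y L o) ∨ IsConj y (rep y L o)⁻¹ := by
  match o with
  | none => exact Or.inl (IsConj.refl y)
  | some i =>
    obtain ⟨j, hij⟩ := h.pairs' i
    obtain ⟨g, -, -, hgi, -⟩ := h.pairs i j hij
    obtain ⟨k, -, hk⟩ := h.move
    have hne : ∀ (t x : G), x ≠ 1 → t * x * t⁻¹ ≠ 1 := fun t x hx e => hx (conj_eq_one_iff.mp e)
    have hmem : k * (g * L i * g⁻¹) * k⁻¹ ∈ zpowers y :=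
      zpowers_le.mpr hk (conj_mem_zpowers k hgi)
    rcases eq_or_eq_inv_of_mem h.y_ord hmem (hne _ _ (hne _ _ (h.rep_ne_one (some i)))) with e | e
    · exact Or.inl (isConj_iff.mpr ⟨g⁻¹ * k⁻¹, by
        simp only [rep]; rw [← e]; group⟩)
    · exact Or.inr (isConj_iff.mpr ⟨g⁻¹ * k⁻¹, by
        simp only [rep]; rw [← inv_inv y, ← e]; group⟩)

theorem exists_line (g : ↥(normalizer (A : Set G))) (o : Option (Fin 10)) :
    ∃ p, (g : G) * rep y L o * (g : G)⁻¹ ∈ zpowers (rep y L p) := by
  have hA : (g : G) * rep y L o * (g : G)⁻¹ ∈ A := (mem_normalizer_iff.mp g.2 _).mp (h.rep_mem o)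
  have key : ∀ x ∈ A, IsConj y x → ∃ p, x ∈ zpowers (rep y L p) := fun x hx hc => by
    rcases h.point x hx hc with h1 | ⟨i, h1⟩
    · exact ⟨none, h1⟩
    · exact ⟨some i, h1⟩
  rcases h.conj_y o with hc | hc
  · exact key _ hA (hc.trans (isConj_iff.mpr ⟨g, rfl⟩))
  · obtain ⟨p, hp⟩ := key _ (inv_mem hA) (hc.trans (isConj_iff.mpr ⟨(g : G), by rw [conj_inv]⟩))
    exact ⟨p, inv_mem_iff.mp hp⟩

/-- The action of the normaliser on the eleven lines. -/
noncomputable abbrev action : MulAction ↥(normalizer (A : Set G)) (Option (Fin 10)) where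
  smul g o := (h.exists_line g o).choose
  one_smul o := by
    have hs := (h.exists_line 1 o).choose_spec
    show (h.exists_line 1 o).choose = o
    refine (h.rep_inj ?_).symm
    simpa using hs
  mul_smul g g' o := by
    show (h.exists_line (g * g') o).choose = (h.exists_line g (h.exists_line g' o).choose).choose
    have h12 := (h.exists_line (g * g') o).choose_spec
    have h2 := conj_mem_zpowers (g : G) (h.exists_line g' o).choose_spec
    have h1 := (h.exists_line g (h.exists_line g' o).choose).choose_spec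
    have hne : ((g * g' : ↥(normalizer (A : Set G))) : G) * rep y L o *
        ((g * g' : ↥(normalizer (A : Set G))) : G)⁻¹ ≠ 1 :=
      fun e => h.rep_ne_one o (conj_eq_one_iff.mp e)
    refine h.eq_line h12 ?_ hne
    have he : ((g * g' : ↥(normalizer (A : Set G))) : G) * rep y L o *
        ((g * g' : ↥(normalizer (A : Set G))) : G)⁻¹ =
        (g : G) * ((g' : G) * rep y L o * (g' : G)⁻¹) * (g : G)⁻¹ := by
      push_cast; group
    rw [he]
    exact zpowers_le.mpr h1 h2

theorem smul_eq_iff (g : ↥(normalizer (A : Set G))) (o p : Option (Fin 10)) :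
    letI := h.action
    g • o = p ↔ (g : G) * rep y L o * (g : G)⁻¹ ∈ zpowers (rep y L p) := by
  letI := h.action
  constructor
  · intro e
    rw [← e]
    exact (h.exists_line g o).choose_spec
  · intro e
    exact h.eq_line (h.exists_line g o).choose_spec e fun e1 => h.rep_ne_one o (conj_eq_one_iff.mp e1)

theorem transitive_three (p q r : Option (Fin 10)) (hpq : p ≠ q) (hpr : p ≠ r) (hqr : q ≠ r) :
    letI := h.action
    ∃ g : ↥(normalizer (A : Set G)), g • p = none ∧ g • q = some 0 ∧ g • r = some 1 := by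
  letI := h.action
  obtain ⟨g₁, hg₁⟩ : ∃ g : ↥(normalizer (A : Set G)), g • p = none := by
    match p with
    | none => exact ⟨1, one_smul _ _⟩
    | some i =>
      obtain ⟨j, hij⟩ := h.pairs' i
      obtain ⟨g, hg, -, hgi, -⟩ := h.pairs i j hij
      obtain ⟨k, hk, hka⟩ := h.move
      refine ⟨⟨k, hk⟩ * ⟨g, hg⟩, ?_⟩
      have e1 : (⟨g, hg⟩ : ↥(normalizer (A : Set G))) • some i = (some 0 : Option (Fin 10)) :=
        (h.smul_eq_iff _ _ _).mpr (by simpa [rep, h.L_zero] using hgi)
      have e2 : (⟨k, hk⟩ : ↥(normalizer (A : Set G))) • (some 0 : Option (Fin 10)) = none :=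
        (h.smul_eq_iff _ _ _).mpr (by simpa [rep, h.L_zero] using hka)
      rw [mul_smul, e1, e2]
  obtain ⟨i, hi⟩ : ∃ i, g₁ • q = some i := Option.ne_none_iff_exists'.mp fun e =>
    hpq (smul_left_cancel g₁ (hg₁.trans e.symm))
  obtain ⟨j, hj⟩ : ∃ j, g₁ • r = some j := Option.ne_none_iff_exists'.mp fun e =>
    hpr (smul_left_cancel g₁ (hg₁.trans e.symm))
  have hij : i ≠ j := fun e => hqr (smul_left_cancel g₁ (by rw [hi, hj, e]))
  obtain ⟨g, hg, hgy, hgi, hgj⟩ := h.pairs i j hij
  refine ⟨⟨g, hg⟩ * g₁, ?_, ?_, ?_⟩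
  · rw [mul_smul, hg₁, h.smul_eq_iff]
    simp only [rep]
    rw [hgy, mul_inv_cancel_right]
    exact mem_zpowers y
  · rw [mul_smul, hi, h.smul_eq_iff]
    simpa [rep, h.L_zero] using hgi
  · rw [mul_smul, hj, h.smul_eq_iff]
    simpa [rep, h.L_one] using hgj

variable [Finite G]

theorem mem_normalizer_line {g : G} {o : Option (Fin 10)}
    (hg : g * rep y L o * g⁻¹ ∈ zpowers (rep y L o)) : g ∈ normalizer (zpowers (rep y L o) : Set G) := by
  refine mem_normalizer_iff.mpr fun n => ⟨fun hn => zpowers_le.mpr hg (conj_mem_zpowers g hn), fun hn => ?_⟩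
  have h1 := h.mem_line_symm hg fun e => h.rep_ne_one o (conj_eq_one_iff.mp e)
  have h2 := conj_mem_zpowers g⁻¹ (zpowers_le.mpr h1 hn)
  simpa [mul_assoc] using h2

theorem card_normalizer : Nat.card ↥(normalizer (A : Set G)) = 243 * 7920 := by
  classical
  letI := h.action
  let o₀ : Fin 3 ↪ Option (Fin 10) := ⟨![none, some 0, some 1], by decide⟩
  have htr : ∀ e : Fin 3 ↪ Option (Fin 10), ∃ g : ↥(normalizer (A : Set G)), g • e = o₀ := fun e => by
    obtain ⟨g, h0, h1, h2⟩ := h.transitive_three (e 0) (e 1) (e 2) (e.injective.ne (by decide))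
      (e.injective.ne (by decide)) (e.injective.ne (by decide))
    refine ⟨g, DFunLike.ext _ _ fun k => ?_⟩
    fin_cases k
    · exact h0
    · exact h1
    · exact h2
  have : IsPretransitive ↥(normalizer (A : Set G)) (Fin 3 ↪ Option (Fin 10)) := ⟨fun e e' => by
    obtain ⟨g, hg⟩ := htr e
    obtain ⟨g', hg'⟩ := htr e'
    exact ⟨g'⁻¹ * g, by rw [mul_smul, hg, inv_smul_eq_iff, hg']⟩⟩
  have hidx : (stabilizer ↥(normalizer (A : Set G)) o₀).index = 990 := by
    rw [index_stabilizer_of_transitive, Nat.card_eq_fintype_card, Fintype.card_embedding_eq]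
    rfl
  have hst : (stabilizer ↥(normalizer (A : Set G)) o₀).map (normalizer (A : Set G)).subtype =
      normalizer (A : Set G) ⊓ normalizer (zpowers y : Set G) ⊓ normalizer (zpowers a : Set G) ⊓
        normalizer (zpowers b : Set G) := by
    have hmem : ∀ (x : ↥(normalizer (A : Set G))) (o : Option (Fin 10)),
        x • o = o ↔ (x : G) ∈ normalizer (zpowers (rep y L o) : Set G) := fun x o => by
      rw [h.smul_eq_iff]
      exact ⟨h.mem_normalizer_line, fun hx => (mem_normalizer_iff.mp hx _).mp (mem_zpowers _)⟩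
    ext x
    simp only [mem_map, mem_inf, Subgroup.coe_subtype]
    constructor
    · rintro ⟨⟨x, hx⟩, hs, rfl⟩
      have hk : ∀ k, (⟨x, hx⟩ : ↥(normalizer (A : Set G))) • o₀ k = o₀ k := fun k => by
        conv_rhs => rw [← mem_stabilizer_iff.mp hs]
        rfl
      refine ⟨⟨⟨hx, ?_⟩, ?_⟩, ?_⟩
      · exact (hmem _ none).mp (hk 0)
      · simpa [rep, h.L_zero] using (hmem _ (some 0)).mp (hk 1)
      · simpa [rep, h.L_one] using (hmem _ (some 1)).mp (hk 2)
    · rintro ⟨⟨⟨hx, h0⟩, h1⟩, h2⟩
      refine ⟨⟨x, hx⟩, mem_stabilizer_iff.mpr (DFunLike.ext _ _ fun k => ?_), rfl⟩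
      fin_cases k
      · exact (hmem _ none).mpr h0
      · exact (hmem _ (some 0)).mpr (by simpa [rep, h.L_zero] using h1)
      · exact (hmem _ (some 1)).mpr (by simpa [rep, h.L_one] using h2)
  have hc : Nat.card ↥(stabilizer ↥(normalizer (A : Set G)) o₀) = 243 * 8 := by
    rw [← h.card_stab, ← hst, card_subtype]
  rw [← card_mul_index (stabilizer ↥(normalizer (A : Set G)) o₀), hidx, hc]

theorem fix_all (g : ↥(normalizer (A : Set G)))
    (hg : ∀ o : Option (Fin 10), letI := h.action; g • o = o) : (g : G) ∈ A := by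
  letI := h.action
  have hs : ∀ o, ∃ e, SignAt (g : G) (rep y L o) e := fun o => by
    rcases eq_or_eq_inv_of_mem (h.rep_ord o) ((h.smul_eq_iff g o o).mp (hg o))
      (fun e => h.rep_ne_one o (conj_eq_one_iff.mp e)) with e | e
    · exact ⟨false, e⟩
    · exact ⟨true, e⟩
  choose e he using hs
  have tri : ∀ p q r, p ≠ q → p ≠ r → q ≠ r → e r = xor (e p) (e q) := by
    intro p q r hpq hpr hqr
    obtain ⟨t, h0, h1, h2⟩ := h.transitive_three p q r hpq hpr hqr
    have move : ∀ {o o' : Option (Fin 10)}, t • o = o' →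
        SignAt ((t : G) * g * (t : G)⁻¹) (rep y L o') (e o) := fun {o o'} ho =>
      h.signAt_rep ((h.smul_eq_iff t o o').mp ho) (fun e1 => h.rep_ne_one o (conj_eq_one_iff.mp e1))
        (signAt_conj _ (he o))
    have hN : (t : G) * g * (t : G)⁻¹ ∈ normalizer (A : Set G) := mul_mem (mul_mem t.2 g.2) (inv_mem t.2)
    exact h.signs _ hN _ _ _ (move h0) (by simpa [rep, h.L_zero] using move h1)
      (by simpa [rep, h.L_one] using move h2)
  have hall : ∀ i, e none = false ∧ e (some i) = false := by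
    intro i
    obtain ⟨j, k, hij, hik, hjk⟩ : ∃ j k : Fin 10, i ≠ j ∧ i ≠ k ∧ j ≠ k := by
      revert i; decide
    have A1 := tri (some i) (some j) none (by simp [hij]) (by simp) (by simp)
    have A2 := tri (some i) (some k) none (by simp [hik]) (by simp) (by simp)
    have A3 := tri (some j) (some k) none (by simp [hjk]) (by simp) (by simp)
    have A4 := tri (some i) (some j) (some k) (by simp [hij]) (by simp [hik]) (by simp [hjk])
    revert A1 A2 A3 A4
    generalize e none = p
    generalize e (some i) = q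
    generalize e (some j) = r
    generalize e (some k) = s
    revert p q r s; decide
  have hcomm : ∀ o, (g : G) * rep y L o = rep y L o * g := fun o => by
    have h0 : e o = false := by
      match o with
      | none => exact (hall 0).1
      | some i => exact (hall i).2
    have := he o
    rw [h0] at this
    exact mul_inv_eq_iff_eq_mul.mp this
  exact h.kernel g g.2 (hcomm none) fun i => hcomm (some i)

theorem isoM11 : ∃ _ : (A.subgroupOf (normalizer (A : Set G))).Normal,
    Cfsg.Spor.IsoM11 (↥(normalizer (A : Set G)) ⧸ A.subgroupOf (normalizer (A : Set G))) := by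
  letI := h.action
  let φ : ↥(normalizer (A : Set G)) →* Equiv.Perm (Option (Fin 10)) := MulAction.toPermHom _ _
  have hker : φ.ker = A.subgroupOf (normalizer (A : Set G)) := by
    ext g
    rw [MonoidHom.mem_ker, mem_subgroupOf]
    constructor
    · exact fun hg => h.fix_all g fun o => congrArg (fun σ : Equiv.Perm (Option (Fin 10)) => σ o) hg
    · intro hg
      refine Equiv.ext fun o => ?_
      refine (h.smul_eq_iff g o o).mpr ?_
      rw [h.comm _ hg _ (h.rep_mem o), mul_inv_cancel_right]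
      exact mem_zpowers _
  have hn : (A.subgroupOf (normalizer (A : Set G))).Normal := hker ▸ φ.normal_ker
  refine ⟨hn, ?_⟩
  have hcard : Nat.card ↥φ.range = 7920 := by
    have hA : Nat.card ↥(A.subgroupOf (normalizer (A : Set G))) = 243 := by
      rw [Nat.card_congr (subgroupOfEquivOfLe le_normalizer).toEquiv, h.card_A]
    have h1 := card_mul_index φ.ker
    rw [index_ker, hker, hA, h.card_normalizer] at h1
    omega
  have : IsPretransitive ↥φ.range (Option (Fin 10)) := ⟨fun o p => by
    have key : ∀ o : Option (Fin 10), ∃ g : ↥(normalizer (A : Set G)), g • o = none := fun o => by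
      obtain ⟨q, r, h1, h2, h3⟩ : ∃ q r : Option (Fin 10), o ≠ q ∧ o ≠ r ∧ q ≠ r := by
        revert o; decide
      obtain ⟨g, hg, -, -⟩ := h.transitive_three o q r h1 h2 h3
      exact ⟨g, hg⟩
    obtain ⟨g, hg⟩ := key o
    obtain ⟨g', hg'⟩ := key p
    refine ⟨⟨φ (g'⁻¹ * g), ⟨_, rfl⟩⟩, ?_⟩
    show (g'⁻¹ * g) • o = p
    rw [mul_smul, hg, inv_smul_eq_iff, hg']⟩
  obtain ⟨e⟩ := isoM11_of_eleven (M := ↥φ.range) (O := Option (Fin 10)) (by simp) hcard
  exact ⟨((QuotientGroup.quotientMulEquivOfEq hker.symm).trans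
    (QuotientGroup.quotientKerEquivRange φ)).trans e⟩

end Cover

end CfsgLib.Characterizations.SuzType.Three
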