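import Cfsg.Agent.S3592

/-!
# A faithful transitive group of order 7920 on eleven points is `M₁₁`
-/

set_option autoImplicit false

namespace CfsgLib.Characterizations.SuzType.Three

open Subgroup MulAction

variable {M : Type*} [Group M] [Finite M] {O : Type*} [MulAction M O]

theorem prime_eleven : Fact (Nat.Prime 11) := ⟨by norm_num⟩

attribute [local instance] prime_eleven

theorem card_sylow_eleven (hM : Nat.card M = 7920) (P : Sylow 11 M) :
    Nat.card ↥(P : Subgroup M) = 11 := by
  obtain ⟨n, hn⟩ := IsPGroup.iff_card.mp P.isPGroup'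
  have h1 : 11 ^ n ∣ 7920 := hn ▸ hM ▸ Subgroup.card_subgroup_dvd_card _
  have h2 : 11 ∣ 11 ^ n := hn ▸ P.dvd_card_of_dvd_card (by rw [hM]; norm_num)
  rcases n with - | - | n
  · norm_num at h2
  · simpa using hn
  · exact absurd ((pow_dvd_pow 11 (show 2 ≤ n + 2 by omega)).trans h1) (by norm_num)

variable [Finite O] [FaithfulSMul M O] [IsPretransitive M O] (hO : Nat.card O = 11)

include hO

theorem sylow_transitive (hM : Nat.card M = 7920) (P : Sylow 11 M) (x y : O) :
    ∃ p ∈ (P : Subgroup M), p • x = y := by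
  classical
  have hP := card_sylow_eleven hM P
  -- some point is moved
  obtain ⟨x₀, p₀, hp₀⟩ : ∃ (x₀ : O) (p₀ : ↥(P : Subgroup M)), p₀ • x₀ ≠ x₀ := by
    by_contra hcon
    push_neg at hcon
    have hbot : (P : Subgroup M) = ⊥ := by
      refine (Subgroup.eq_bot_iff_forall _).mpr fun p hp => eq_of_smul_eq_smul (α := O) fun z => ?_
      rw [one_smul]
      exact hcon z ⟨p, hp⟩
    rw [hbot, Subgroup.card_bot] at hP
    norm_num at hP
  have hdvd : Nat.card (orbit ↥(P : Subgroup M) x₀) ∣ 11 := by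
    refine dvd_trans ?_ (dvd_of_eq hP)
    rw [Nat.card_congr (orbitEquivQuotientStabilizer _ x₀)]
    exact Subgroup.card_quotient_dvd_card _
  have hne : Nat.card (orbit ↥(P : Subgroup M) x₀) ≠ 1 := by
    intro h1
    obtain ⟨_, ⟨z, hz⟩⟩ := Nat.card_eq_one_iff_exists.mp h1 |>.imp fun a ha =>
      (⟨a, ha⟩ : ∃ a : orbit ↥(P : Subgroup M) x₀, ∀ b, b = a)
    have e1 := hz ⟨p₀ • x₀, mem_orbit _ _⟩
    have e2 := hz ⟨x₀, mem_orbit_self _⟩
    exact hp₀ (congrArg Subtype.val (e1.trans e2.symm))
  have h11 : Nat.card (orbit ↥(P : Subgroup M) x₀) = 11 :=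
    ((Nat.dvd_prime (by norm_num)).mp hdvd).resolve_left hne
  have huniv : orbit ↥(P : Subgroup M) x₀ = Set.univ :=
    Set.eq_of_subset_of_ncard_le (Set.subset_univ _)
      (by rw [Set.ncard_univ, hO, ← Nat.card_coe_set_eq, h11])
  have hx : x ∈ orbit ↥(P : Subgroup M) x₀ := huniv ▸ Set.mem_univ x
  have hy : y ∈ orbit ↥(P : Subgroup M) x₀ := huniv ▸ Set.mem_univ y
  rw [← orbit_eq_iff.mpr hx] at hy
  obtain ⟨p, hp⟩ := hy
  exact ⟨p, p.2, hp⟩

theorem centralizer_sylow_le (hM : Nat.card M = 7920) (P : Sylow 11 M) :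
    centralizer ((P : Subgroup M) : Set M) ≤ (P : Subgroup M) := by
  intro c hc
  have : Nonempty O := (Nat.card_pos_iff.mp (by rw [hO]; norm_num)).1
  obtain ⟨x⟩ := this
  obtain ⟨p, hp, hpx⟩ := sylow_transitive hO hM P x (c • x)
  have hfix : p⁻¹ * c = 1 := by
    refine eq_of_smul_eq_smul (α := O) fun z => ?_
    obtain ⟨q, hq, rfl⟩ := sylow_transitive hO hM P x z
    have hcomm : p⁻¹ * c * q = q * (p⁻¹ * c) := by
      have hcq : q * c = c * q := mem_centralizer_iff.mp hc q hq
      have hpq : q * p⁻¹ = p⁻¹ * q := by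
        have hcyc : IsCyclic ↥(P : Subgroup M) := isCyclic_of_prime_card (card_sylow_eleven hM P)
        let := hcyc.commGroup
        exact congrArg Subtype.val (mul_comm (⟨q, hq⟩ : ↥(P : Subgroup M)) ⟨p⁻¹, inv_mem hp⟩)
      calc p⁻¹ * c * q = p⁻¹ * (c * q) := mul_assoc _ _ _
        _ = p⁻¹ * q * c := by rw [← hcq, mul_assoc]
        _ = q * (p⁻¹ * c) := by rw [← hpq, mul_assoc]
    have h0 : (p⁻¹ * c) • x = x := by rw [mul_smul, ← hpx, inv_smul_smul]
    rw [one_smul, ← mul_smul, hcomm, mul_smul, h0]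
  rw [← inv_mul_eq_one.mp hfix]
  exact hp

theorem card_normalizer_sylow (hM : Nat.card M = 7920) (P : Sylow 11 M) :
    Nat.card ↥(normalizer ((P : Subgroup M) : Set M)) = 55 ∧ Nat.card (Sylow 11 M) = 144 := by
  have hP := card_sylow_eleven hM P
  have hker : Nat.card ↥((P : Subgroup M).normalizerMonoidHom.ker) ∣ 11 := by
    rw [Subgroup.normalizerMonoidHom_ker]
    refine (Subgroup.card_dvd_of_injective
      (Subgroup.inclusion (centralizer_sylow_le hO hM P) |>.comp
        ((Subgroup.subgroupOfEquivOfLe (Subgroup.centralizer_le_normalizer _)).toMonoidHom)) ?_).trans (dvd_of_eq hP)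
    exact (Subgroup.inclusion_injective (centralizer_sylow_le hO hM P)).comp (MulEquiv.injective _)
  have hrange : Nat.card ↥((P : Subgroup M).normalizerMonoidHom.range) ∣ 10 := by
    have hcyc : IsCyclic ↥(P : Subgroup M) := isCyclic_of_prime_card hP
    refine (Subgroup.card_subgroup_dvd_card _).trans (dvd_of_eq ?_)
    rw [IsCyclic.card_mulAut, hP]
    decide
  have hN : Nat.card ↥(normalizer ((P : Subgroup M) : Set M)) ∣ 110 := by
    rw [← Subgroup.card_mul_index (P : Subgroup M).normalizerMonoidHom.ker, Subgroup.index_ker]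
    exact Nat.mul_dvd_mul hker hrange
  have hmod : Nat.card (Sylow 11 M) % 11 = 1 := card_sylow_modEq_one 11 M
  have hidx := P.card_eq_index_normalizer
  have hmul := Subgroup.card_mul_index (normalizer ((P : Subgroup M) : Set M))
  have hle : 11 ∣ Nat.card ↥(normalizer ((P : Subgroup M) : Set M)) :=
    (dvd_of_eq hP.symm).trans (Subgroup.card_dvd_of_le Subgroup.le_normalizer)
  rw [hM] at hmul
  set d := Nat.card ↥(normalizer ((P : Subgroup M) : Set M))
  rw [hidx]
  rw [hidx] at hmod
  generalize (normalizer ((P : Subgroup M) : Set M)).index = n at hmul hmod ⊢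
  obtain ⟨k, hk⟩ := hle
  have hk10 : k ∣ 10 := Nat.dvd_of_mul_dvd_mul_left (by norm_num : 0 < 11) (hk ▸ hN)
  rw [hk] at hmul
  have : k ≤ 10 := Nat.le_of_dvd (by norm_num) hk10
  interval_cases k <;> omega

theorem isSimple_of_eleven (hM : Nat.card M = 7920) : IsSimpleGroup M := by
  classical
  have : Nontrivial M := Finite.one_lt_card_iff_nontrivial.mp (by rw [hM]; norm_num)
  have hprim : IsPreprimitive M O := IsPreprimitive.of_prime_card (by rw [hO]; norm_num)
  refine ⟨fun N hN => ?_⟩
  by_contra hcon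
  push_neg at hcon
  obtain ⟨hNbot, hNtop⟩ := hcon
  have hfix : fixedPoints ↥N O ≠ Set.univ := by
    intro h
    refine hNbot ((Subgroup.eq_bot_iff_forall _).mpr fun n hn => eq_of_smul_eq_smul (α := O) fun z => ?_)
    rw [one_smul]
    exact (Set.eq_univ_iff_forall.mp h z) ⟨n, hn⟩
  have htrans : IsPretransitive ↥N O :=
    IsQuasiPreprimitive.isPretransitive_of_normal (G := M) hfix
  obtain ⟨x⟩ : Nonempty O := (Nat.card_pos_iff.mp (by rw [hO]; norm_num)).1
  have hidx : (stabilizer ↥N x).index = 11 := by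
    rw [index_stabilizer_of_transitive, hO]
  have h11 : 11 ∣ Nat.card ↥N := hidx ▸ Subgroup.index_dvd_card _
  have hmulN := Subgroup.card_mul_index N
  rw [hM] at hmulN
  have hnd : ¬ 11 ∣ N.index := by
    intro h
    have := Nat.mul_dvd_mul h11 h
    rw [hmulN] at this
    norm_num at this
  -- every Sylow subgroup for 11 lies in `N`
  have hsub : ∀ P : Sylow 11 M, (P : Subgroup M) ≤ N := fun P => by
    have h1 : N.relIndex (P : Subgroup M) ∣ 11 :=
      (Subgroup.relIndex_dvd_card N (P : Subgroup M)).trans (dvd_of_eq (card_sylow_eleven hM P))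
    rcases (Nat.dvd_prime (by norm_num)).mp h1 with h | h
    · exact Subgroup.relIndex_eq_one.mp h
    · exact absurd (h ▸ Subgroup.relIndex_dvd_index_of_normal N (P : Subgroup M)) hnd
  obtain ⟨P⟩ : Nonempty (Sylow 11 M) := inferInstance
  obtain ⟨hNP, hn⟩ := card_normalizer_sylow hO hM P
  have hsup : normalizer ((P : Subgroup M) : Set M) ⊔ N = ⊤ := by
    have h := Sylow.normalizer_sup_eq_top (P.subtype (hsub P))
    rwa [Sylow.coe_subtype, Subgroup.map_subgroupOf_eq_of_le (hsub P)] at h
  have hdiv : N.index ∣ 55 := by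
    rw [← Subgroup.relIndex_top_right, ← hsup, Subgroup.relIndex_sup_right, ← hNP]
    exact Subgroup.relIndex_dvd_card _ _
  have hne1 : N.index ≠ 1 := fun h => hNtop (Subgroup.index_eq_one.mp h)
  have h5 : N.index = 5 := by
    have : N.index ≤ 55 := Nat.le_of_dvd (by norm_num) hdiv
    interval_cases N.index <;> simp_all
  have hcN : Nat.card ↥N = 1584 := by rw [h5] at hmulN; omega
  -- the elements outside a point stabiliser all have order eleven
  have key : ∀ z : O, ∀ n : ↥N, n • z ≠ z → orderOf n = 11 := by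
    intro z
    have hidx : (stabilizer ↥N z).index = 11 := by rw [index_stabilizer_of_transitive, hO]
    have hst : Nat.card ↥(stabilizer ↥N z) = 144 := by
      have := Subgroup.card_mul_index (stabilizer ↥N z)
      rw [hidx, hcN] at this; omega
    let E : Set ↥N := {n | orderOf n = 11}
    have hE : E ⊆ (↑(stabilizer ↥N z) : Set ↥N)ᶜ := by
      intro n hn hmem
      have := Subgroup.orderOf_dvd_natCard _ hmem
      rw [hst, show orderOf n = 11 from hn] at this
      norm_num at this
    let f : (Σ P : Sylow 11 M, {g : ↥(P : Subgroup M) // g ≠ 1}) → E := fun a =>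
      ⟨⟨a.2.1.1, hsub a.1 a.2.1.2⟩, by
        show orderOf _ = 11
        rw [← Subgroup.orderOf_coe, Subgroup.coe_mk, Subgroup.orderOf_coe]
        have h := orderOf_dvd_natCard a.2.1
        rw [card_sylow_eleven hM a.1] at h
        exact ((Nat.dvd_prime (by norm_num)).mp h).resolve_left (fun h1 => a.2.2 (orderOf_eq_one_iff.mp h1))⟩
    have hf : Function.Injective f := by
      rintro ⟨P₁, g₁, hg₁⟩ ⟨P₂, g₂, hg₂⟩ h
      have hg : (g₁ : M) = (g₂ : M) := congrArg (fun e : E => ((e : ↥N) : M)) h
      have gen : ∀ (Q : Sylow 11 M) (g : ↥(Q : Subgroup M)), g ≠ 1 → zpowers (g : M) = (Q : Subgroup M) := by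
        intro Q g hgne
        refine Subgroup.eq_of_le_of_card_ge ((Subgroup.zpowers_le).mpr g.2) ?_
        rw [Nat.card_zpowers, Subgroup.orderOf_coe, card_sylow_eleven hM Q]
        have h := orderOf_dvd_natCard g
        rw [card_sylow_eleven hM Q] at h
        rw [((Nat.dvd_prime (by norm_num)).mp h).resolve_left (fun h1 => hgne (orderOf_eq_one_iff.mp h1))]
      obtain rfl : P₁ = P₂ := Sylow.ext (by rw [← gen P₁ g₁ hg₁, ← gen P₂ g₂ hg₂, hg])
      obtain rfl : g₁ = g₂ := Subtype.ext hg
      rfl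
    have hcE : 1440 ≤ E.ncard := by
      have h := Nat.card_le_card_of_injective f hf
      have := Fintype.ofFinite (Sylow 11 M)
      rw [Nat.card_coe_set_eq, Nat.card_sigma] at h
      refine le_trans (le_of_eq ?_) h
      have hfib : ∀ Q : Sylow 11 M, Nat.card {g : ↥(Q : Subgroup M) // g ≠ 1} = 10 := fun Q => by
        cases nonempty_fintype ↥(Q : Subgroup M)
        rw [Nat.card_eq_fintype_card, Fintype.card_subtype_compl, Fintype.card_subtype_eq,
          ← Nat.card_eq_fintype_card, card_sylow_eleven hM Q]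
      rw [Finset.sum_congr rfl fun Q _ => hfib Q, Finset.sum_const, smul_eq_mul, Finset.card_univ,
        ← Nat.card_eq_fintype_card, hn]
    have heq : E = (↑(stabilizer ↥N z) : Set ↥N)ᶜ := by
      refine Set.eq_of_subset_of_ncard_le hE ?_
      rw [Set.ncard_compl, hcN, ← Nat.card_coe_set_eq, SetLike.coe_sort_coe, hst]
      exact hcE
    intro n hn
    have : n ∈ E := heq ▸ hn
    exact this
  -- so a point stabiliser fixes every point
  have hbot : stabilizer ↥N x = ⊥ := by
    refine (Subgroup.eq_bot_iff_forall _).mpr fun n hn => ?_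
    have hall : ∀ z : O, n • z = z := fun z => by
      by_contra hz
      have h11' := key z n hz
      have hst : 11 * Nat.card ↥(stabilizer ↥N x) = 1584 := by
        rw [← hcN, ← Subgroup.card_mul_index (stabilizer ↥N x), hidx, mul_comm]
      have := Subgroup.orderOf_dvd_natCard _ hn
      rw [h11'] at this
      obtain ⟨k, hk⟩ := this
      omega
    exact Subtype.ext (eq_of_smul_eq_smul (α := O) fun z => (hall z).trans (one_smul M z).symm)
  have hc := Subgroup.card_mul_index (stabilizer ↥N x)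
  rw [hbot, Subgroup.card_bot, hcN, one_mul] at hc
  rw [hbot] at hidx
  omega

theorem isoM11_of_eleven (hM : Nat.card M = 7920) : Cfsg.Spor.IsoM11 M := by
  have := isSimple_of_eleven (O := O) hO hM
  have := Cfsg.Agent.S3592.simple_card.1
  exact CfsgLib.KGroups.M11Unique.nonempty_mulEquiv hM Cfsg.Agent.S3592.simple_card.2

end CfsgLib.Characterizations.SuzType.Three
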