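import Cfsg.Agent.Lib.Characterizations.SuzType.Three.Quot
import Cfsg.Agent.Lib.Components.Constrained

/-!
# `C(y)/⟨y⟩` is of `U₄(3)` type
-/

set_option autoImplicit false
set_option linter.unusedSectionVars false
set_option linter.style.haveILetI false

namespace CfsgLib.Characterizations.SuzType.Three

open Suz CfsgLib.Solvable CfsgLib.Components

theorem fin3_nsmul : ∀ a : Fin 3, a.val • (1 : Fin 3) = a ∧ a.val • (0 : Fin 3) = 0 := by decide

theorem zero_or_plane (s : Bool) (c d : ZMod 2) :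
    c • vp s 0 + d • vp s 1 = 0 ∨ ∃ t, c • vp s 0 + d • vp s 1 = vp s t := by
  rcases zmod_two_cases c with rfl | rfl <;> rcases zmod_two_cases d with rfl | rfl
  · exact Or.inl (by simp)
  · exact Or.inr ⟨1, by simp⟩
  · exact Or.inr ⟨0, by simp⟩
  · exact Or.inr ⟨2, by simp [vp_sum]⟩

theorem fixed_plane_part : ∀ c d : ZMod 2, T0 (c • va 0 + d • va 1) = c • va 0 + d • va 1 := by decide +kernel

theorem eighteen : ∀ m : ℕ, Odd m → m ∣ 1152 → m ∣ 9 := fun m hm h => by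
  have h2 : Nat.Coprime m (2 ^ 7) := (Nat.coprime_two_right.2 hm).pow_right 7
  exact h2.dvd_of_dvd_mul_left (by simpa using h)

variable {G : Type*} [Group G] [Finite G] {z : G} {Q : Subgroup G} {π : G → V}
variable (S : Suz z Q π) {y : G} (hy : IsStd S y)
include S hy

theorem fsub_le_k0 {s : Bool} {a r : G} (F : Factor S y s a r) : fsub a r ≤ k0 S y := by
  rw [fsub, Subgroup.closure_le]
  rintro x (rfl | rfl)
  · exact kq_le_k0 S hy F.ha
  · exact ⟨F.hr, _, _, F.rot⟩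

theorem rot_fix {c : G} (hc' : c ∈ hc z y) (h : RotAct (S.act c) 0 0 0) : c ∈ kq Q y :=
  ⟨rotAct_mem S (mem_hc.1 hc').1 h, Subgroup.mem_centralizer_singleton_iff.2 (mem_hc.1 hc').2⟩

variable {a₁ r₁ a₂ r₂ : G} (F₁ : Factor S y false a₁ r₁) (F₂ : Factor S y true a₂ r₂)
include F₁ F₂

theorem sup_fsub : fsub a₁ r₁ ⊔ fsub a₂ r₂ = k0 S y := by
  refine le_antisymm (sup_le (fsub_le_k0 S hy F₁) (fsub_le_k0 S hy F₂)) ?_
  rintro c ⟨hc', i, j, h⟩
  have hkq : kq Q y ≤ fsub a₁ r₁ ⊔ fsub a₂ r₂ := by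
    intro x hx
    obtain ⟨hxQ, hxT⟩ := (mem_kq S hy).1 hx
    set pa := B (π x) (va 1) • va 0 + B (π x) (va 0) • va 1 with hpa
    obtain ⟨xa, hxa, hπ⟩ := S.π_surj pa
    have hxak : xa ∈ kq Q y := (mem_kq S hy).2 ⟨hxa, by rw [hπ, hpa]; exact fixed_plane_part _ _⟩
    have h1 : xa ∈ fsub a₁ r₁ := mem_fsub S hy F₁ hxak (by rw [hπ]; exact zero_or_plane false _ _)
    have h2 : xa⁻¹ * x ∈ fsub a₂ r₂ := by
      refine mem_fsub S hy F₂ (mul_mem (inv_mem hxak) hx) ?_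
      have e : π (xa⁻¹ * x) = B (π x) (vb 1) • vb 0 + B (π x) (vb 0) • vb 1 := by
        obtain ⟨e0, e2⟩ := fixed_perp _ hxT
        rw [S.π_mul _ (inv_mem hxa) _ hxQ, S.π_inv hxa, hπ]
        conv_lhs => arg 2; rw [decomp (π x), e0, e2, zero_smul, zero_smul, add_zero, add_zero]
        rw [← add_assoc, hpa, add_self_V, zero_add]
      rw [e]; exact zero_or_plane true _ _
    rw [← mul_inv_cancel_left xa x]
    exact mul_mem (Subgroup.mem_sup_left h1) (Subgroup.mem_sup_right h2)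
  have hr1 := mem_hc.1 F₁.hr
  have hr2 := mem_hc.1 F₂.hr
  set w := r₁ ^ i.val * r₂ ^ j.val with hw
  have hwm : w ∈ fsub a₁ r₁ ⊔ fsub a₂ r₂ := mul_mem (Subgroup.mem_sup_left (pow_mem (r_mem S hy F₁) _))
    (Subgroup.mem_sup_right (pow_mem (r_mem S hy F₂) _))
  have hwr : RotAct (S.act w) i j 0 := by
    have hh := RotAct.mul S ((show Commute r₁ z from hr1.1).pow_left i.val).eq
      ((show Commute r₂ z from hr2.1).pow_left j.val).eq
      (rotAct_pow S hr1.1 (RotS.iff_rot.1 F₁.rot) i.val) (rotAct_pow S hr2.1 (RotS.iff_rot.1 F₂.rot) j.val)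
    simp only [cond_false, cond_true, (fin3_nsmul i).1, (fin3_nsmul i).2, (fin3_nsmul j).1, (fin3_nsmul j).2,
      add_zero, zero_add] at hh
    exact hh
  have hwc : w ∈ hc z y := mul_mem (pow_mem F₁.hr _) (pow_mem F₂.hr _)
  have hd : c * w⁻¹ ∈ kq Q y := rot_fix S hy (mul_mem hc' (inv_mem hwc)) (by
    have hh := RotAct.mul S (mem_hc.1 hc').1 (cz_inv (mem_hc.1 hwc).1) h
      (RotAct.inv S (mem_hc.1 hwc).1 hwr)
    rwa [add_neg_cancel, add_neg_cancel, add_neg_cancel] at hh)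
  rw [← inv_mul_cancel_right c w]
  exact mul_mem (hkq hd) hwm

theorem img_sup_fsub : img S hy (fsub a₁ r₁) ⊔ img S hy (fsub a₂ r₂) = img S hy (k0 S y) := by
  rw [← img_sup S hy (fsub_le S hy F₁) (fsub_le S hy F₂), sup_fsub S hy F₁ F₂]

omit F₁ F₂

/-- Elements whose image is a product of elements of odd order. -/
def oddPart : Subgroup G :=
  ((Subgroup.closure {g : ↥(CZ S hy) | Odd (orderOf g)}).comap (rho S hy)).map (hc z y).subtype

theorem fsub_le_oddPart {s : Bool} {a r : G} (F : Factor S y s a r) : fsub a r ≤ oddPart S hy := by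
  have hodd : ∀ x, x ∈ hc z y → x ^ 3 = 1 → x ∈ oddPart S hy := fun x hx h3 => by
    refine ⟨⟨x, hx⟩, Subgroup.subset_closure ?_, rfl⟩
    exact Odd.of_dvd_nat (by decide : Odd 3) (orderOf_dvd_of_pow_eq_one (by
      rw [← map_pow, show (⟨x, hx⟩ : ↥(hc z y)) ^ 3 = 1 from Subtype.ext h3, map_one]))
  have hr' := hodd r F.hr F.r3
  have haz := kq_le S hy F.ha
  have hc3 : (a * r⁻¹ * a⁻¹) ^ 3 = 1 := by rw [conj_pow, inv_pow, F.r3, inv_one, mul_one, mul_inv_cancel]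
  have he : r * a * r⁻¹ * a⁻¹ ∈ oddPart S hy := by
    rw [show r * a * r⁻¹ * a⁻¹ = r * (a * r⁻¹ * a⁻¹) by group]
    exact mul_mem hr' (hodd _ (mul_mem (mul_mem haz (inv_mem F.hr)) (inv_mem haz)) hc3)
  set e := r * a * r⁻¹ * a⁻¹ with hedef
  obtain ⟨hbk, hπb⟩ := conj_kq S hy F.hr F.ha
  have hek : e ∈ kq Q y := mul_mem hbk (inv_mem F.ha)
  have hπe : π e = vp s 2 := by
    rw [hedef, S.π_mul _ hbk.1 _ (inv_mem F.ha.1), S.π_inv F.ha.1, hπb, F.πa, RotS.fs F.rot, zero_add,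
      add_comm, vp_sum]
  have hz' : z ∈ oddPart S hy := by
    have h2 : e * e = z := by rw [S.sq_eq hek.1, hπe, (vp_fixed s 2).2, zp_one]
    exact (congrArg (· ∈ oddPart S hy) h2).mp (mul_mem he he)
  obtain ⟨hwk, hπw⟩ := conj_kq S hy F.hr hek
  have hw : r * e * r⁻¹ ∈ oddPart S hy := mul_mem (mul_mem hr' he) (inv_mem hr')
  have hπw' : π (r * e * r⁻¹) = π a := by rw [hπw, hπe, RotS.fs F.rot, F.πa]; rfl
  have ha : a ∈ oddPart S hy := by
    rcases S.π_eq hwk.1 F.ha.1 hπw' with e' | e'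
    · rw [e']; exact hw
    · rw [e']; exact mul_mem hw hz'
  rw [fsub, Subgroup.closure_le]
  rintro x (rfl | rfl)
  · exact ha
  · exact hr'

theorem img_k0_eq : img S hy (k0 S y) = Subgroup.closure {g : ↥(CZ S hy) | Odd (orderOf g)} := by
  obtain ⟨a₁, r₁, F₁⟩ := exists_factor S hy false
  obtain ⟨a₂, r₂, F₂⟩ := exists_factor S hy true
  refine le_antisymm ?_ ((Subgroup.closure_le _).2 fun g hg => ?_)
  · intro g hg
    obtain ⟨c, hc', rfl⟩ := (mem_img S hy).1 hg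
    obtain ⟨c', hc'', e⟩ := (sup_fsub S hy F₁ F₂ ▸ sup_le (fsub_le_oddPart S hy F₁) (fsub_le_oddPart S hy F₂) :
      k0 S y ≤ oddPart S hy) hc'
    rwa [show c' = c from Subtype.ext e] at hc''
  · have h9 : g ^ 9 = 1 := orderOf_dvd_iff_pow_eq_one.1
      (eighteen _ hg ((orderOf_dvd_natCard g).trans (card_CZ S hy).dvd))
    obtain ⟨c, rfl⟩ := rho_surjective S hy g
    rw [← map_pow, rho_eq_one, Subgroup.coe_pow] at h9
    have h27 : (c : G) ^ 27 = 1 := by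
      rw [show (27 : ℕ) = 9 * 3 from rfl, pow_mul]
      rcases zpowers_cases S hy h9 with e | e | e <;> rw [e]
      · exact one_pow 3
      · exact y3 S hy
      · rw [(Commute.refl y).mul_pow, y3 S hy, one_mul]
    obtain ⟨i, j, k, h⟩ := rot_of_pow S hy c.2 h27
    have hyc : y ^ k.val * z = z * y ^ k.val := ((show Commute y z from hy.yz).pow_left _).eq
    have hyr := rotAct_pow S hy.yz (rotAct_y S hy) k.val
    rw [(fin3_nsmul k).1, (fin3_nsmul k).2] at hyr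
    have hd := RotAct.mul S (mem_hc.1 c.2).1 (cz_inv hyc) h (RotAct.inv S hyc hyr)
    rw [add_neg_cancel, neg_zero, add_zero, add_zero] at hd
    have hm : (c : G) * (y ^ k.val)⁻¹ ∈ hc z y := mul_mem c.2 (inv_mem (pow_mem (y_mem S hy) _))
    refine (mem_img S hy).2 ⟨⟨_, hm⟩, ⟨hm, i, j, hd⟩, ?_⟩
    have hyk : rho S hy (⟨y, y_mem S hy⟩ ^ k.val) = 1 :=
      (rho_eq_one S hy).2 (pow_mem (Subgroup.mem_zpowers y) _)
    rw [show (⟨_, hm⟩ : ↥(hc z y)) = c * (⟨y, y_mem S hy⟩ ^ k.val)⁻¹ from Subtype.ext rfl, map_mul, map_inv,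
      hyk, inv_one, mul_one]

theorem rho_z : rho S hy ⟨z, kq_le S hy (z_mem_kq S hy)⟩ = ⟨zbar S hy, Subgroup.mem_centralizer_singleton_iff.2 rfl⟩ :=
  Subtype.ext rfl

include F₁ F₂

theorem meet_img : (img S hy (fsub a₁ r₁) ⊓ img S hy (fsub a₂ r₂)).map (CZ S hy).subtype =
    Subgroup.zpowers (zbar S hy) := by
  refine le_antisymm ?_ (Subgroup.zpowers_le.2 ⟨_, ⟨rho_mem_img S hy (z_mem_fsub S hy F₁) _,
    rho_mem_img S hy (z_mem_fsub S hy F₂) (kq_le S hy (z_mem_kq S hy))⟩, rfl⟩)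
  rintro _ ⟨g, ⟨hg1, hg2⟩, rfl⟩
  obtain ⟨c₁, h1, rfl⟩ := (mem_img S hy).1 hg1
  obtain ⟨c₂, h2, e⟩ := (mem_img S hy).1 hg2
  have e' : c₂ = c₁ := by
    refine mul_inv_eq_one.1 (Subtype.ext (sep S hy (mul_mem (fsub_le_k0 S hy F₂ h2)
      (inv_mem (fsub_le_k0 S hy F₁ h1))) ?_))
    have := (rho_eq_one S hy (c := c₂ * c₁⁻¹)).1 (by rw [map_mul, map_inv, e, mul_inv_cancel])
    exact this
  subst e'
  rcases meet_factors S hy F₁ F₂ h1 h2 with hh | hh
  · rw [show c₂ = 1 from Subtype.ext hh, map_one]; exact one_mem _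
  · rw [show c₂ = ⟨z, kq_le S hy (z_mem_kq S hy)⟩ from Subtype.ext hh, rho_z S hy]
    exact Subgroup.mem_zpowers _

theorem normal_fst : ((img S hy (fsub a₁ r₁)).subgroupOf (img S hy (fsub a₁ r₁) ⊔ img S hy (fsub a₂ r₂))).Normal :=
  (Subgroup.normal_subgroupOf_iff_le_normalizer le_sup_left).2
    (sup_le Subgroup.le_normalizer (img_le_normalizer S hy (normalize_other S hy (s := false) F₁ F₂)))

theorem normal_snd : ((img S hy (fsub a₂ r₂)).subgroupOf (img S hy (fsub a₁ r₁) ⊔ img S hy (fsub a₂ r₂))).Normal :=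
  (Subgroup.normal_subgroupOf_iff_le_normalizer le_sup_right).2
    (sup_le (img_le_normalizer S hy (normalize_other S hy (s := true) F₂ F₁)) Subgroup.le_normalizer)

omit F₁ F₂

theorem pCore_CZ : Cfsg.pCore 2 ↥(CZ S hy) = img S hy (kq Q y) := by
  refine le_antisymm ?_ (Cores.le_pCore (isPGroup_img_kq S hy))
  intro p hp
  obtain ⟨m, hm⟩ := Cores.isPGroup_pCore (G := ↥(CZ S hy)) 2 ⟨p, hp⟩
  obtain ⟨c, rfl, hcm⟩ := exists_two_lift S hy (m := m) (congrArg Subtype.val hm)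
  have key : ∀ i j, ∀ x, x ∈ hc z y → RotAct (S.act x) i j 0 →
      ∃ n, ((c : G) * x * (c : G)⁻¹ * x⁻¹) ^ 2 ^ n = 1 := by
    intro i j x hx hrot
    obtain ⟨i', j', h'⟩ := rot_conj S hy c.2 (mem_hc.1 hx).1 hrot
    have hk : (c : G) * x * (c : G)⁻¹ * x⁻¹ ∈ k0 S y :=
      mul_mem ⟨mul_mem (mul_mem c.2 hx) (inv_mem c.2), i', j', h'⟩ (inv_mem ⟨hx, i, j, hrot⟩)
    obtain ⟨n, hn⟩ := Cores.isPGroup_pCore (G := ↥(CZ S hy)) 2 ⟨_, mul_mem hp
      (Subgroup.Normal.conj_mem inferInstance _ (inv_mem hp) (rho S hy ⟨x, hx⟩))⟩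
    refine ⟨n, sep S hy (pow_mem hk _) ?_⟩
    have e : rho S hy ((c * ⟨x, hx⟩ * c⁻¹ * ⟨x, hx⟩⁻¹) ^ 2 ^ n) = 1 := by
      rw [map_pow, map_mul, map_mul, map_mul, map_inv, map_inv]
      simpa [mul_assoc] using congrArg Subtype.val hn
    exact (rho_eq_one S hy).1 e
  obtain ⟨xa, hxa, -, ha⟩ := exists_rot S hy 1 0 0
  obtain ⟨xb, hxb, -, hb⟩ := exists_rot S hy 0 1 0
  obtain ⟨n, hn⟩ := key 1 0 xa hxa ha
  obtain ⟨n', hn'⟩ := key 0 1 xb hxb hb
  exact rho_mem_img S hy (A := kq Q y)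
    ⟨mem_of_two_power S hy c.2 hcm hxa hxb ha hb hn hn',
      Subgroup.mem_centralizer_singleton_iff.2 (mem_hc.1 c.2).2⟩ c.2

theorem centralizer_img_kq : Subgroup.centralizer (img S hy (kq Q y) : Set ↥(CZ S hy)) ≤ img S hy (kq Q y) := by
  intro g hg
  obtain ⟨c, rfl⟩ := rho_surjective S hy g
  have hcomm : ∀ x ∈ kq Q y, (c : G) * x = x * c := fun x hx => by
    have h := Subgroup.mem_centralizer_iff.1 hg _ (rho_mem_img S hy hx (kq_le S hy hx))
    have e : rho S hy (c * ⟨x, kq_le S hy hx⟩ * c⁻¹ * ⟨x, kq_le S hy hx⟩⁻¹) = 1 := by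
      rw [map_mul, map_mul, map_mul, map_inv, map_inv, ← h, mul_inv_cancel_right, mul_inv_cancel]
    have := sep S hy (kq_le_k0 S hy (mul_mem (kq_normal_hc S hy c.2 hx) (inv_mem hx))) ((rho_eq_one S hy).1 e)
    exact mul_inv_eq_iff_eq_mul.1 (mul_inv_eq_one.1 this)
  obtain ⟨k, hk⟩ := centralizes_kq S hy c.2 hcomm
  have hyc : y ^ k.val * z = z * y ^ k.val := ((show Commute y z from hy.yz).pow_left _).eq
  have hyr := rotAct_pow S hy.yz (rotAct_y S hy) k.val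
  rw [(fin3_nsmul k).1, (fin3_nsmul k).2] at hyr
  have hd := RotAct.mul S (mem_hc.1 c.2).1 (cz_inv hyc) hk (RotAct.inv S hyc hyr)
  rw [add_neg_cancel, add_neg_cancel] at hd
  have hm : (c : G) * (y ^ k.val)⁻¹ ∈ hc z y := mul_mem c.2 (inv_mem (pow_mem (y_mem S hy) _))
  refine (mem_img S hy).2 ⟨⟨_, hm⟩, rot_fix S hy hm hd, ?_⟩
  have hyk : rho S hy (⟨y, y_mem S hy⟩ ^ k.val) = 1 :=
    (rho_eq_one S hy).2 (pow_mem (Subgroup.mem_zpowers y) _)
  rw [show (⟨_, hm⟩ : ↥(hc z y)) = c * (⟨y, y_mem S hy⟩ ^ k.val)⁻¹ from Subtype.ext rfl, map_mul, map_inv,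
    hyk, inv_one, mul_one]

theorem genFitting_CZ : Cfsg.generalizedFittingSubgroup ↥(CZ S hy) = img S hy (kq Q y) := by
  haveI : Fact (Nat.Prime 2) := ⟨Nat.prime_two⟩
  have hp : Cfsg.pPrimeCore 2 ↥(CZ S hy) = ⊥ := by
    have h1 := (pPrimeCore_le_centralizer_pGroup (isPGroup_img_kq S hy)).trans (centralizer_img_kq S hy)
    rw [← inf_eq_left.2 h1, inf_comm]
    exact inf_eq_bot_of_pGroup_coprime (isPGroup_img_kq S hy) (Cores.coprime_card_pPrimeCore 2)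
  have hl : Cfsg.layer ↥(CZ S hy) = ⊥ := (centralizer_pCore_le_iff_layer hp).1 (by
    rw [pCore_CZ S hy]; exact centralizer_img_kq S hy)
  rw [genFitting_eq_pCore_of hp hl, pCore_CZ S hy]

theorem img_kq_eq_pCore (K : Subgroup ↥(CZ S hy)) [K.Normal] (hK : img S hy (kq Q y) ≤ K) :
    img S hy (kq Q y) = (Cfsg.pCore 2 ↥K).map K.subtype := by
  refine le_antisymm (fun g hg => ?_) ((Cores.map_pCore_le 2 K).trans (pCore_CZ S hy).le)
  haveI : ((img S hy (kq Q y)).subgroupOf K).Normal := Subgroup.normal_subgroupOf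
  exact ⟨⟨g, hK hg⟩, Cores.le_pCore ((isPGroup_img_kq S hy).of_equiv (Subgroup.subgroupOfEquivOfLe hK).symm) hg, rfl⟩

/-- The map of `C_Q(y)` into the quotient. -/
def kqQ : ↥(kq Q y) →* CQ y := (CZ S hy).subtype.comp ((rho S hy).comp (Subgroup.inclusion (kq_le S hy)))

theorem range_kqQ : (img S hy (kq Q y)).map (CZ S hy).subtype = (kqQ S hy).range := by
  ext g
  constructor
  · rintro ⟨p, hp, rfl⟩
    obtain ⟨c, hc', rfl⟩ := (mem_img S hy).1 hp
    exact ⟨⟨c, hc'⟩, rfl⟩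
  · rintro ⟨x, rfl⟩
    exact ⟨_, rho_mem_img S hy x.2 _, rfl⟩

theorem kqQ_eq {x : ↥(kq Q y)} {c : ↥(cy y)} (h : toQ y c = kqQ S hy x) :
    (c : G) * (x : G)⁻¹ ∈ Subgroup.zpowers y := by
  have : toQ y (c * (Subgroup.inclusion (hc_le_cy.trans' (kq_le S hy)) x)⁻¹) = 1 := by
    rw [map_mul, map_inv, h]; exact mul_inv_eq_one.2 rfl
  exact toQ_eq_one.1 this

theorem kqQ_injective : Function.Injective (kqQ S hy) :=
  (injective_iff_map_eq_one _).2 fun x hx =>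
    Subtype.ext (sep S hy (kq_le_k0 S hy x.2) ((rho_eq_one S hy).1 (Subtype.ext hx)))

theorem zbar_not_weakly_closed : ∃ g : CQ y, (∃ hq : g * zbar S hy * g⁻¹ ∈ CZ S hy,
    (⟨g * zbar S hy * g⁻¹, hq⟩ : ↥(CZ S hy)) ∈ img S hy (kq Q y)) ∧ g * zbar S hy * g⁻¹ ≠ zbar S hy := by
  obtain ⟨r, w, hry, hrz, hwQ, hπw, -, -⟩ := exists_fusion S hy
  have hwy : w * y = y * w := by
    rw [← hrz]
    exact (((show Commute r y from hry).mul_left (show Commute z y from hy.yz.symm)).mul_left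
      (show Commute r y from hry).inv_left).eq
  have hwk : w ∈ kq Q y := ⟨hwQ, Subgroup.mem_centralizer_singleton_iff.2 hwy⟩
  set r' : ↥(cy y) := ⟨r, Subgroup.mem_centralizer_singleton_iff.2 hry⟩ with hr'
  have e : toQ y r' * zbar S hy * (toQ y r')⁻¹ = kqQ S hy ⟨w, hwk⟩ := by
    rw [zbar, ← map_inv, ← map_mul, ← map_mul]
    exact congrArg (toQ y) (Subtype.ext hrz)
  refine ⟨toQ y r', ?_, fun e' => ?_⟩
  · rw [e]
    exact ⟨(rho S hy ⟨w, kq_le S hy hwk⟩).2, rho_mem_img S hy hwk (kq_le S hy hwk)⟩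
  · have h1 := kqQ_injective S hy ((e.symm.trans e').trans (show zbar S hy = kqQ S hy ⟨z, z_mem_kq S hy⟩ from rfl))
    rw [show w = z from congrArg Subtype.val h1, S.π_z] at hπw
    exact absurd hπw (by decide)

/-- The intersection of `C_Q(y)` with a conjugate of it moving `z` inside it has order four. -/
theorem card_inter_conj (g : CQ y) (hg : g * zbar S hy * g⁻¹ ∈ (img S hy (kq Q y)).map (CZ S hy).subtype)
    (hne : g * zbar S hy * g⁻¹ ≠ zbar S hy) :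
    Nat.card ↥(((img S hy (kq Q y)).map (CZ S hy).subtype) ⊓
      ((img S hy (kq Q y)).map (CZ S hy).subtype).map (MulAut.conj g).toMonoidHom) = 4 := by
  classical
  rw [range_kqQ S hy] at hg ⊢
  obtain ⟨c, rfl⟩ := toQ_surjective y g
  obtain ⟨⟨x, hxk⟩, hx⟩ := hg
  have hcy : (c : G) * y = y * c := Subgroup.mem_centralizer_singleton_iff.1 c.2
  have hz2 : ∀ {v : G}, v ∈ kq Q y → v * v = 1 ∨ v * v = z := fun hv => S.extra.sq_cases hv.1
  have h4 : ∀ {v : G}, v ∈ kq Q y → v ^ 4 = 1 := fun {v} hv => by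
    rw [show (4 : ℕ) = 2 * 2 from rfl, pow_mul, pow_two v]
    rcases hz2 hv with e | e <;> rw [e]
    · exact one_pow 2
    · rw [pow_two]; exact S.extra.z_sq
  have hsep : ∀ {v w : G}, v ∈ kq Q y → w ^ 4 = 1 → w * v⁻¹ ∈ Subgroup.zpowers y → w = v := fun {v w} hv hw hd => by
    have hcom : Commute (w * v⁻¹) v := by
      have hvy : Commute v y := Subgroup.mem_centralizer_singleton_iff.1 hv.2
      obtain ⟨k, hk⟩ := Subgroup.mem_zpowers_iff.1 hd
      rw [← hk]; exact (hvy.zpow_right k).symm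
    refine mul_inv_eq_one.1 (eq_one_of_pow S hy hd (n := 4) (by norm_num) ?_)
    have e := hcom.mul_pow 4
    rw [inv_mul_cancel_right, hw, h4 hv, mul_one] at e
    exact e.symm
  have hconjpow : ∀ {v : G}, v ^ 4 = 1 → ((c : G) * v * (c : G)⁻¹) ^ 4 = 1 := fun hv => by
    rw [conj_pow, hv, mul_one, mul_inv_cancel]
  have hxz : (c : G) * z * (c : G)⁻¹ = x := hsep hxk (hconjpow (h4 (z_mem_kq S hy)))
    (kqQ_eq S hy (x := ⟨x, hxk⟩) (c := c * zc S hy * c⁻¹) (by rw [hx, map_mul, map_mul, map_inv]; rfl))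
  have hx1 : x ≠ z := fun e => hne (by
    rw [← hx]; subst e; rfl)
  have hx0 : x ≠ 1 := fun e => S.extra.z_ne (conj_eq_one_iff.1 (hxz.trans e))
  have hxπ : π x ≠ 0 := fun e => ((S.π_ker x hxk.1).1 e).elim hx0 hx1
  have hxx : x * x = 1 := by
    rw [← hxz, ← S.extra.z_sq]; simp only [mul_assoc, inv_mul_cancel_left]
    rw [← mul_assoc z z, S.extra.z_sq, one_mul, mul_inv_cancel]
  obtain ⟨h, hhz, hhy, hhu⟩ := exists_move S hy hxπ ((S.q_iff x hxk.1).2 hxx) ((mem_kq S hy).1 hxk).2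
  obtain ⟨r, w, hry, hrz, hwQ, hπw, hrQ, hmeet⟩ := exists_fusion S hy
  have hwy : w * y = y * w := by
    rw [← hrz]
    exact (((show Commute r y from hry).mul_left (show Commute z y from hy.yz.symm)).mul_left
      (show Commute r y from hry).inv_left).eq
  have hwk : w ∈ kq Q y := ⟨hwQ, Subgroup.mem_centralizer_singleton_iff.2 hwy⟩
  obtain ⟨h', hh', hhw⟩ : ∃ h', h' ∈ hc z y ∧ h' * w * h'⁻¹ = x := by
    have hhc : h ∈ hc z y := mem_hc.2 ⟨hhz, hhy⟩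
    have hk := conj_kq S hy hhc hwk
    rw [hπw, hhu] at hk
    rcases S.π_eq hk.1.1 hxk.1 hk.2 with e | e
    · exact ⟨h, hhc, e.symm⟩
    · obtain ⟨v, hTv, hBv⟩ := exists_partner u0 (by decide) T0_u0
      obtain ⟨p, hp, hπp⟩ := S.π_surj v
      have hpk : p ∈ kq Q y := (mem_kq S hy).2 ⟨hp, by rw [hπp, hTv]⟩
      have e2 : p * w * p⁻¹ = w * z := by rw [S.conj_eq hwQ hp, hπp, hπw, hBv, zp_one]
      refine ⟨h * p, mul_mem hhc (kq_le S hy hpk), ?_⟩
      rw [e, show h * p * w * (h * p)⁻¹ = h * (p * w * p⁻¹) * h⁻¹ by group, e2,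
        show h * (w * z) * h⁻¹ = h * w * h⁻¹ * (h * z * h⁻¹) by group, hhz, mul_inv_cancel_right]
  obtain ⟨hh'z, hh'y⟩ := mem_hc.1 hh'
  -- the two conjugators agree up to `hc`
  obtain ⟨k, hk, hck⟩ : ∃ k, k ∈ hc z y ∧ (c : G) = h' * r * k := by
    refine ⟨(h' * r)⁻¹ * c, mem_hc.2 ⟨?_, ?_⟩, by group⟩
    · refine mul_inv_eq_iff_eq_mul.1 ?_
      rw [show (h' * r)⁻¹ * (c : G) * z * ((h' * r)⁻¹ * c)⁻¹ = (h' * r)⁻¹ * ((c : G) * z * (c : G)⁻¹) * (h' * r) by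
        group, hxz, ← hhw, ← hrz]
      group
    · exact (((show Commute h' y from hh'y).mul_left (show Commute r y from hry)).inv_left.mul_left
        (show Commute (c : G) y from hcy)).eq
  have hiff : ∀ {v : G}, v ∈ kq Q y → ((c : G)⁻¹ * v * c ∈ kq Q y ↔ v = 1 ∨ v = z ∨ v = x ∨ v = x * z) := by
    intro v hv
    have hzc : (c : G)⁻¹ * z * c ∈ kq Q y := by
      have hry' : (r⁻¹ * z * r) * y = y * (r⁻¹ * z * r) :=
        (((show Commute r y from hry).inv_left.mul_left (show Commute z y from hy.yz.symm)).mul_left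
          (show Commute r y from hry)).eq
      have h1 := (conj_kq S hy (inv_mem hk) (x := r⁻¹ * z * r)
        ⟨hrQ, Subgroup.mem_centralizer_singleton_iff.2 hry'⟩).1
      rw [show k⁻¹ * (r⁻¹ * z * r) * k⁻¹⁻¹ = k⁻¹ * r⁻¹ * (h'⁻¹ * (z * h')) * r * k by
        rw [← hh'z]; group] at h1
      convert h1 using 1
      rw [hck]; group
    have hxc : (c : G)⁻¹ * x * c ∈ kq Q y := by
      rw [← hxz, show (c : G)⁻¹ * ((c : G) * z * (c : G)⁻¹) * c = z by group]; exact z_mem_kq S hy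
    constructor
    · intro hvc
      have hv' := (conj_kq S hy (inv_mem hh') hv).1
      rw [inv_inv] at hv'
      have h2 := (conj_kq S hy hk hvc).1
      rw [show k * ((c : G)⁻¹ * v * c) * k⁻¹ = r⁻¹ * (h'⁻¹ * v * h') * r by rw [hck]; group] at h2
      have e0 : ∀ u : G, h'⁻¹ * v * h' = u → v = h' * u * h'⁻¹ := fun u e => by rw [← e]; group
      have ez : h' * z * h'⁻¹ = z := by rw [hh'z, mul_inv_cancel_right]
      rcases hmeet _ hv'.1 h2.1 with e | e | e | e <;> have e' := e0 _ e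
      · exact Or.inl (by rw [e', mul_one, mul_inv_cancel])
      · exact Or.inr (Or.inl (e'.trans ez))
      · exact Or.inr (Or.inr (Or.inl (e'.trans hhw)))
      · refine Or.inr (Or.inr (Or.inr ?_))
        rw [e', show h' * (w * z) * h'⁻¹ = h' * w * h'⁻¹ * (h' * z * h'⁻¹) by group, hhw, ez]
    · rintro (rfl | rfl | rfl | rfl)
      · simp
      · exact hzc
      · exact hxc
      · rw [show (c : G)⁻¹ * (x * z) * c = ((c : G)⁻¹ * x * c) * ((c : G)⁻¹ * z * c) by group]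
        exact mul_mem hxc hzc
  have hset : ((↑((kqQ S hy).range ⊓ (kqQ S hy).range.map (MulAut.conj (toQ y c)).toMonoidHom) : Set (CQ y))) =
      kqQ S hy '' {v | (c : G)⁻¹ * (v : G) * c ∈ kq Q y} := by
    ext p
    constructor
    · rintro ⟨⟨v, rfl⟩, q', ⟨u, rfl⟩, e⟩
      refine ⟨v, ?_, rfl⟩
      have h1 : (c : G) * u * (c : G)⁻¹ = v := hsep v.2 (hconjpow (h4 u.2))
        (kqQ_eq S hy (c := c * Subgroup.inclusion (hc_le_cy.trans' (kq_le S hy)) u * c⁻¹)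
          (by rw [map_mul, map_mul, map_inv]; exact e))
      show (c : G)⁻¹ * (v : G) * c ∈ kq Q y
      rw [← h1, show (c : G)⁻¹ * ((c : G) * u * (c : G)⁻¹) * c = u by group]
      exact u.2
    · rintro ⟨v, hv, rfl⟩
      refine ⟨⟨v, rfl⟩, kqQ S hy ⟨_, hv⟩, ⟨_, rfl⟩, ?_⟩
      show toQ y c * toQ y _ * (toQ y c)⁻¹ = toQ y _
      rw [← map_inv, ← map_mul, ← map_mul]
      exact congrArg (toQ y) (Subtype.ext (show (c : G) * ((c : G)⁻¹ * (v : G) * c) * (c : G)⁻¹ = v by group))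
  rw [← SetLike.coe_sort_coe, Nat.card_coe_set_eq, hset, Set.ncard_image_of_injective _ (kqQ_injective S hy),
    ← Set.ncard_image_of_injective _ Subtype.val_injective]
  have himg : Subtype.val '' {v : ↥(kq Q y) | (c : G)⁻¹ * (v : G) * c ∈ kq Q y} = {1, z, x, x * z} := by
    ext v
    constructor
    · rintro ⟨v', hv', rfl⟩
      rcases (hiff v'.2).1 hv' with e | e | e | e <;> simp [e]
    · intro hv
      have hvk : v ∈ kq Q y := by
        rcases hv with rfl | rfl | rfl | rfl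
        exacts [one_mem _, z_mem_kq S hy, hxk, mul_mem hxk (z_mem_kq S hy)]
      exact ⟨⟨v, hvk⟩, (hiff hvk).2 (by simpa using hv), rfl⟩
  rw [himg]
  have hxz1 : x * z ≠ 1 := fun e => hx1 ((eq_inv_of_mul_eq_one_left e).trans (inv_eq_of_mul_eq_one_right S.extra.z_sq))
  have hzxz : z ≠ x * z := fun e => hx0 (mul_eq_right.1 e.symm)
  have hxxz : x ≠ x * z := fun e => S.extra.z_ne (mul_eq_left.1 e.symm)
  rw [Set.ncard_insert_of_notMem (by simp [S.extra.z_ne.symm, hx0.symm, hxz1.symm]),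
    Set.ncard_insert_of_notMem (by simp [hx1.symm, hzxz]), Set.ncard_pair hxxz]

/-- The hypotheses of the `U₄(3)` type recognition. -/
theorem exists_config : ∃ H₁ H₂ : Subgroup ↥(CZ S hy),
    H₁ ⊔ H₂ = Subgroup.closure {x : ↥(CZ S hy) | Odd (orderOf x)} ∧
    (H₁.subgroupOf (H₁ ⊔ H₂)).Normal ∧ (H₂.subgroupOf (H₁ ⊔ H₂)).Normal ∧
    Nonempty (H₁ ≃* Matrix.SpecialLinearGroup (Fin 2) (ZMod 3)) ∧
    Nonempty (H₂ ≃* Matrix.SpecialLinearGroup (Fin 2) (ZMod 3)) ∧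
    (H₁ ⊓ H₂).map (CZ S hy).subtype = Subgroup.zpowers (zbar S hy) ∧
    img S hy (kq Q y) = (Cfsg.pCore 2 ↥(H₁ ⊔ H₂)).map (H₁ ⊔ H₂).subtype := by
  obtain ⟨a₁, r₁, F₁⟩ := exists_factor S hy false
  obtain ⟨a₂, r₂, F₂⟩ := exists_factor S hy true
  have he : ∀ {s : Bool} {a r : G} (F : Factor S y s a r),
      Nonempty (↥(img S hy (fsub a r)) ≃* Matrix.SpecialLinearGroup (Fin 2) (ZMod 3)) := fun F => by
    obtain ⟨e⟩ := nonempty_img_equiv S hy (fsub_le_k0 S hy F)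
    obtain ⟨e'⟩ := nonempty_sl23 S hy F
    exact ⟨e.symm.trans e'⟩
  have hsup := img_sup_fsub S hy F₁ F₂
  refine ⟨_, _, hsup.trans (img_k0_eq S hy), normal_fst S hy F₁ F₂, normal_snd S hy F₁ F₂, he F₁, he F₂,
    meet_img S hy F₁ F₂, ?_⟩
  haveI : (img S hy (fsub a₁ r₁) ⊔ img S hy (fsub a₂ r₂)).Normal := by
    rw [hsup]
    refine ⟨fun n hn g => ?_⟩
    obtain ⟨x, hx, rfl⟩ := (mem_img S hy).1 hn
    obtain ⟨c, rfl⟩ := rho_surjective S hy g
    obtain ⟨hxc, i, j, h⟩ := hx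
    obtain ⟨i', j', h'⟩ := rot_conj S hy c.2 (mem_hc.1 hxc).1 h
    rw [← map_inv, ← map_mul, ← map_mul]
    exact (mem_img S hy).2 ⟨_, ⟨mul_mem (mul_mem c.2 hxc) (inv_mem c.2), i', j', h'⟩, rfl⟩
  exact img_kq_eq_pCore S hy _ (hsup ▸ Subgroup.map_mono (Subgroup.comap_mono (kq_le_k0 S hy)))

end CfsgLib.Characterizations.SuzType.Three
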