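import Cfsg.Agent.Lib.Characterizations.SuzType.Three.LineLift

/-!
# The group of order `3^5` over the isotropic line: the cover data
-/

set_option autoImplicit false
set_option linter.unusedSectionVars false
set_option linter.style.haveILetI false

namespace CfsgLib.Characterizations.SuzType.Three

open Suz Subgroup

variable {G : Type*} [Group G] [Finite G]

theorem signAt_of_mem {g x w : G} {e : Bool} (hx : x ∈ zpowers w) (h : SignAt g w e) : SignAt g x e := by
  obtain ⟨k, rfl⟩ := mem_zpowers_iff.1 hx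
  unfold SignAt at *
  rw [← conj_zpow, h]
  cases e <;> simp

theorem signAt_mul {g h x : G} {e e' : Bool} (hg : SignAt g x e) (hh : SignAt h x e') :
    SignAt (g * h) x (xor e e') := by
  unfold SignAt at *
  rw [show g * h * x * (g * h)⁻¹ = g * (h * x * h⁻¹) * g⁻¹ by group, hh]
  cases e' <;> simp only [cond_false, cond_true, Bool.xor_false, Bool.xor_true]
  · exact hg
  · rw [← conj_inv, hg]
    cases e <;> simp

theorem signAt_inv_left {g x : G} {e : Bool} (hg : SignAt g x e) : SignAt g⁻¹ x e := by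
  unfold SignAt at *
  cases e <;> simp only [cond_false, cond_true] at *
  · calc g⁻¹ * x * g⁻¹⁻¹ = g⁻¹ * (g * x * g⁻¹) * g := by rw [hg]; group
      _ = x := by group
  · calc g⁻¹ * x * g⁻¹⁻¹ = (g⁻¹ * x⁻¹ * g)⁻¹ := by group
      _ = (g⁻¹ * (g * x * g⁻¹) * g)⁻¹ := by rw [hg]
      _ = x⁻¹ := by group

theorem signAt_unique {g x : G} {e e' : Bool} (hx : orderOf x = 3) (h : SignAt g x e) (h' : SignAt g x e') :
    e = e' := by
  have hne : x ≠ x⁻¹ := fun e0 => by
    have h2 : x ^ 2 = 1 := by rw [pow_two]; nth_rewrite 1 [e0]; exact inv_mul_cancel x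
    have := orderOf_dvd_of_pow_eq_one h2
    rw [hx] at this
    norm_num at this
  unfold SignAt at *
  rw [h] at h'
  cases e <;> cases e'
  · rfl
  · exact absurd h' hne
  · exact absurd h'.symm hne
  · rfl

theorem signAt_false {g x : G} : SignAt g x false ↔ g * x = x * g := mul_inv_eq_iff_eq_mul

theorem exists_signAt {g x : G} (hx : orderOf x = 3) (hg : g ∈ normalizer (zpowers x : Set G)) :
    ∃ e, SignAt g x e := by
  have hm : g * x * g⁻¹ ∈ zpowers x := (mem_normalizer_iff.1 hg x).1 (mem_zpowers x)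
  rcases eq_or_eq_inv_of_mem hx hm (fun e => by
      rw [conj_eq_one_iff.1 e, orderOf_one] at hx; norm_num at hx) with e | e
  · exact ⟨false, e⟩
  · exact ⟨true, e⟩

theorem mem_normalizer_of_signAt {g x : G} {e : Bool} (h : SignAt g x e) :
    g ∈ normalizer (zpowers x : Set G) := by
  refine mem_normalizer_fintype fun n hn => ?_
  obtain ⟨k, rfl⟩ := mem_zpowers_iff.1 hn
  rw [← conj_zpow]
  refine zpow_mem ?_ k
  rw [show g * x * g⁻¹ = cond e x⁻¹ x from h]
  cases e
  · exact mem_zpowers x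
  · exact inv_mem (mem_zpowers x)

section

variable {z : G} {Q : Subgroup G} {π : G → V} {S : Suz z Q π} {y : G} {hy : IsStd S y}
  {E : Subgroup G} {a b : G} {Ab : Subgroup (CQ y)} {s : Fin 10 → CQ y}

namespace Aligned

variable (D : Aligned S hy E a b Ab s)
include D

theorem E_le_cy : E ≤ cy y := D.axis.le.trans hc_le_cy

theorem ord {x : G} (hx : x ∈ E) (hne : x ∉ zpowers y) : orderOf x = 3 :=
  orderOf_eq_prime (hp := ⟨Nat.prime_three⟩) (D.axis.exp x hx) fun e => hne (e ▸ one_mem _)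

theorem s_ord (i : Fin 10) : orderOf (s i) = 3 :=
  orderOf_eq_prime (hp := ⟨Nat.prime_three⟩) (D.line.cube _ (D.line.s_mem i)) (D.line.s_ne i)

theorem z_mem : z ∈ cy y := mem_centralizer_singleton_iff.2 hy.yz.symm

theorem E_le_pre : E ≤ pre y Ab := fun x hx =>
  (coe_mem_pre ⟨x, D.E_le_cy hx⟩).2 ((D.fixed _).1 hx).1

/-- `E` is central in the preimage. -/
theorem E_comm {e w : G} (he : e ∈ E) (hw : w ∈ pre y Ab) : e * w = w * e := by
  have hey : e * y = y * e := mem_centralizer_singleton_iff.1 (D.E_le_cy he)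
  obtain ⟨c, hc, rfl⟩ := hw
  set ec : ↥(cy y) := ⟨e, D.E_le_cy he⟩
  obtain ⟨he1, he2⟩ := (D.fixed ec).1 he
  set zc' := zc S hy with hzc
  have hzz : zc' * zc' = 1 := Subtype.ext S.extra.z_sq
  have hzi : zc'⁻¹ = zc' := inv_eq_of_mul_eq_one_right hzz
  set c' : ↥(cy y) := zc' * c * zc'⁻¹ with hc'
  have hc'Ab : toQ y c' ∈ Ab := by
    rw [hc', map_mul, map_mul, map_inv]
    exact D.line.t_norm _ hc
  have hcomm := D.line.comm
  -- products with fixed and with inverted image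
  have hfix : ((c * c' : ↥(cy y)) : G) ∈ E := by
    refine (D.fixed _).2 ⟨by rw [map_mul]; exact mul_mem hc hc'Ab, ?_⟩
    have h1 : toQ y c' = zbar S hy * toQ y c * zbar S hy := by
      rw [hc', hzi, map_mul, map_mul]; rfl
    rw [map_mul]
    calc zbar S hy * (toQ y c * toQ y c') = (zbar S hy * toQ y c * zbar S hy) * toQ y c * zbar S hy := by
          rw [h1]; group
      _ = toQ y c' * toQ y c * zbar S hy := by rw [← h1]
      _ = toQ y c * toQ y c' * zbar S hy := by rw [hcomm _ hc'Ab _ hc]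
  set w : ↥(cy y) := c * c'⁻¹ with hw'
  have hwAb : toQ y w ∈ Ab := by rw [hw', map_mul, map_inv]; exact mul_mem hc (inv_mem hc'Ab)
  set δ := ec * w * ec⁻¹ * w⁻¹ with hδ
  have hδ1 : toQ y δ = 1 := by
    rw [hδ, map_mul, map_mul, map_mul, map_inv, map_inv, hcomm _ he1 _ hwAb, mul_inv_cancel_right,
      mul_inv_cancel]
  have hδy := toQ_eq_one.1 hδ1
  have hcent : ∀ v : ↥(cy y), ∀ {u : ↥(cy y)}, (u : G) ∈ zpowers y → v * u = u * v := by
    intro v u hu
    obtain ⟨m, hm⟩ := mem_zpowers_iff.1 hu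
    refine Subtype.ext ?_
    show (v : G) * u = u * v
    rw [← hm]
    exact ((show Commute (v : G) y from mem_centralizer_singleton_iff.1 v.2).zpow_right m).eq
  have hze : zc' * ec * zc'⁻¹ = ec := Subtype.ext (by
    show z * e * z⁻¹ = e
    rw [← (mem_hc.1 (D.axis.le he)).1, mul_inv_cancel_right])
  obtain ⟨η, hη, hηy⟩ : ∃ η : ↥(cy y), zc' * w * zc'⁻¹ = η * w⁻¹ ∧ (η : G) ∈ zpowers y := by
    refine ⟨zc' * w * zc'⁻¹ * w, by rw [mul_inv_cancel_right], toQ_eq_one.1 ?_⟩
    have e1 : zc' * w * zc'⁻¹ = c' * c⁻¹ := by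
      rw [hw', hc', hzi, mul_inv_rev, mul_inv_rev, hzi]
      simp [mul_assoc, hzz]
    rw [e1, hw', show c' * c⁻¹ * (c * c'⁻¹) = 1 by group, map_one]
  have hδz : zc' * δ * zc'⁻¹ = δ := by rw [hcent zc' hδy, mul_inv_cancel_right]
  have hδinv : zc' * δ * zc'⁻¹ = δ⁻¹ := by
    have hηc : ∀ v : ↥(cy y), v * η = η * v := fun v => hcent v hηy
    calc zc' * δ * zc'⁻¹ = (zc' * ec * zc'⁻¹) * (zc' * w * zc'⁻¹) * (zc' * ec * zc'⁻¹)⁻¹ *
          (zc' * w * zc'⁻¹)⁻¹ := by rw [hδ]; group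
      _ = ec * (η * w⁻¹) * ec⁻¹ * (η * w⁻¹)⁻¹ := by rw [hze, hη]
      _ = η * (ec * w⁻¹ * ec⁻¹ * w) * η⁻¹ := by rw [← mul_assoc ec η, hηc ec]; group
      _ = ec * w⁻¹ * ec⁻¹ * w := by rw [← hηc, mul_inv_cancel_right]
      _ = w⁻¹ * (w * (ec * w⁻¹ * ec⁻¹)) * w := by group
      _ = w⁻¹ * δ⁻¹ * w := by rw [hδ]; group
      _ = δ⁻¹ := by rw [hcent w⁻¹ (inv_mem hδy), inv_mul_cancel_right]
  have hδe : δ = 1 := by
    rw [hδz] at hδinv
    refine Subtype.ext (eq_one_of_pow S hy hδy (n := 2) (by norm_num) ?_)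
    have := congrArg (fun u : ↥(cy y) => (u : G)) hδinv
    simp only [Subgroup.coe_inv] at this
    rw [pow_two]; nth_rewrite 1 [this]; exact inv_mul_cancel _
  have h1 : Commute e (w : G) := by
    have h := congrArg Subtype.val hδe
    rw [hδ] at h
    exact mul_inv_eq_iff_eq_mul.1 (mul_inv_eq_one.1 h)
  have h2 : Commute e ((c * c' : ↥(cy y)) : G) := D.axis.comm e he _ hfix
  -- their product is `c ^ 2` modulo `⟨y⟩`
  obtain ⟨θ, hθ, hθy⟩ : ∃ θ : ↥(cy y), c * c' * w = θ * (c * c) ∧ (θ : G) ∈ zpowers y := by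
    refine ⟨c * c' * w * (c * c)⁻¹, by rw [inv_mul_cancel_right], toQ_eq_one.1 ?_⟩
    have := hcomm _ hc _ hc'Ab
    rw [hw']
    simp only [map_mul, map_inv]
    rw [show toQ y c * toQ y c' * (toQ y c * (toQ y c')⁻¹) * (toQ y c * toQ y c)⁻¹ =
      toQ y c * (toQ y c' * toQ y c) * (toQ y c')⁻¹ * (toQ y c * toQ y c)⁻¹ by group, ← this]
    group
  have heθ : Commute e (θ : G) := congrArg Subtype.val (hcent ec hθy)
  have h3 : Commute e ((c : G) * c) := by
    have h := h2.mul_right h1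
    have e' : ((c * c' : ↥(cy y)) : G) * (w : G) = (θ : G) * ((c : G) * c) := congrArg Subtype.val hθ
    rw [e'] at h
    simpa using heθ.inv_right.mul_right h
  have hc3 : ((c : G) ^ 3) ∈ zpowers y := by
    refine toQ_eq_one.1 (show toQ y (c ^ 3) = 1 from ?_)
    rw [map_pow, D.line.cube _ hc]
  have h4 : Commute e ((c : G) ^ 3) := by
    obtain ⟨m, hm⟩ := mem_zpowers_iff.1 hc3
    rw [← hm]
    exact (show Commute e y from hey).zpow_right m
  have h5 : Commute e (((c : G) * c) * ((c : G) * c)) := h3.mul_right h3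
  have : (c : G) = ((c : G) ^ 3)⁻¹ * (((c : G) * c) * ((c : G) * c)) := by
    simp [pow_succ, mul_assoc]
  show e * (c : G) = (c : G) * e
  rw [this]
  exact (h4.inv_right.mul_right h5).eq

/-- Every line is the image of a conjugate of `a` under `C(y) ∩ N(A)`. -/
theorem exists_mover (i : Fin 10) : ∃ g : ↥(cy y), toQ y g ∈ normalizer (Ab : Set (CQ y)) ∧
    ∀ c : ↥(cy y), toQ y c ∈ zpowers (s i) → toQ y (g⁻¹ * c * g) ∈ zpowers (s 0) := by
  obtain ⟨j, hj⟩ := exists_ne i
  obtain ⟨gb, hgb, h0, -⟩ := D.line.pairs i j hj.symm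
  obtain ⟨g, rfl⟩ := toQ_surjective y gb
  refine ⟨g, hgb, fun c hc => ?_⟩
  have hsi : s i ∈ zpowers (toQ y g * s 0 * (toQ y g)⁻¹) := by
    rcases h0 with e | e <;> rw [e]
    · exact mem_zpowers _
    · exact zpowers_inv (g := s i) ▸ mem_zpowers _
  have h := conj_mem_zpowers (toQ y g)⁻¹ (zpowers_le.2 hsi hc)
  rw [map_mul, map_mul, map_inv]
  rw [show (toQ y g)⁻¹ * (toQ y g * s 0 * (toQ y g)⁻¹) * (toQ y g)⁻¹⁻¹ = s 0 by group, inv_inv] at h
  exact h

theorem mem_E_of_line {c : ↥(cy y)} (h : toQ y c ∈ zpowers (s 0)) : (c : G) ∈ E := by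
  refine (D.fixed c).2 ⟨zpowers_le.2 (D.line.s_mem 0) h, ?_⟩
  obtain ⟨m, hm⟩ := mem_zpowers_iff.1 h
  rw [← hm]
  exact ((show Commute (zbar S hy) (s 0) from D.line.t_comm.1).zpow_right m).eq

theorem central_line {w : G} (hw : w ∈ pre y Ab) {i : Fin 10} {c : ↥(cy y)} (hc : toQ y c ∈ zpowers (s i)) :
    (c : G) * w = w * (c : G) := by
  obtain ⟨g, hg, hgc⟩ := D.exists_mover i
  have he := D.mem_E_of_line (hgc c hc)
  have hw' : ((g⁻¹ : ↥(cy y)) : G) * w * ((g⁻¹ : ↥(cy y)) : G)⁻¹ ∈ pre y Ab :=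
    conj_mem_pre (by rw [map_inv]; exact inv_mem hg) hw
  have h := D.E_comm he hw'
  simp only [Subgroup.coe_mul, Subgroup.coe_inv, inv_inv] at h
  calc (c : G) * w = (g : G) * (((g : G)⁻¹ * c * g) * ((g : G)⁻¹ * w * g)) * (g : G)⁻¹ := by group
    _ = w * c := by rw [h]; group

theorem cube_line {i : Fin 10} {c : ↥(cy y)} (hc : toQ y c ∈ zpowers (s i)) : (c : G) ^ 3 = 1 := by
  obtain ⟨g, -, hgc⟩ := D.exists_mover i
  have h := D.axis.exp _ (D.mem_E_of_line (hgc c hc))
  simp only [Subgroup.coe_mul, Subgroup.coe_inv] at h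
  have h' : ((g : G)⁻¹ * c * g) ^ 3 = (g : G)⁻¹ * (c : G) ^ 3 * g := by simp [pow_succ, mul_assoc]
  rw [h'] at h
  calc (c : G) ^ 3 = g * ((g : G)⁻¹ * (c : G) ^ 3 * g) * (g : G)⁻¹ := by group
    _ = 1 := by rw [h]; group

theorem decompose {x : G} (hx : x ∈ pre y Ab) : ∃ (u v : ↥(cy y)) (i j : Fin 10), toQ y u ∈ zpowers (s i) ∧
    toQ y v ∈ zpowers (s j) ∧ x = (u : G) * v := by
  obtain ⟨c, hc, rfl⟩ := hx
  obtain ⟨i, j, -, m, n, e⟩ := D.line.cover _ hc
  obtain ⟨v, hv⟩ := toQ_surjective y (s j ^ n)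
  refine ⟨c * v⁻¹, v, i, j, ?_, hv ▸ pow_mem (mem_zpowers _) n, ?_⟩
  · rw [map_mul, map_inv, hv, e, mul_inv_cancel_right]; exact pow_mem (mem_zpowers _) m
  · show (c : G) = ((c : G) * (v : G)⁻¹) * v
    rw [inv_mul_cancel_right]

theorem A_comm : ∀ u ∈ pre y Ab, ∀ w ∈ pre y Ab, u * w = w * u := by
  intro u hu w hw
  obtain ⟨p, q, i, j, hp, hq, rfl⟩ := D.decompose hu
  exact ((show Commute (p : G) w from D.central_line hw hp).mul_left (D.central_line hw hq)).eq

theorem A_exp : ∀ u ∈ pre y Ab, u ^ 3 = 1 := by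
  intro u hu
  obtain ⟨p, q, i, j, hp, hq, rfl⟩ := D.decompose hu
  have hq' : (q : G) ∈ pre y Ab := (coe_mem_pre q).2 (zpowers_le.2 (D.line.s_mem j) hq)
  rw [(show Commute (p : G) q from D.central_line hq' hp).mul_pow, D.cube_line hp, D.cube_line hq, one_mul]

theorem card_pre_Ab : Nat.card ↥(pre y Ab) = 243 := by rw [card_pre hy.ord, D.line.card_Ab]

theorem a_pre : a ∈ pre y Ab := D.E_le_pre D.axis.a_mem

theorem b_pre : b ∈ pre y Ab := D.E_le_pre D.axis.b_mem

theorem toQ_zpowers_eq {c : ↥(cy y)} {i : Fin 10} (h : toQ y c ∈ zpowers (s i)) (hc : (c : G) ∉ zpowers y) :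
    zpowers (toQ y c) = zpowers (s i) := by
  rcases eq_or_eq_inv_of_mem (D.s_ord i) h (fun e => hc (toQ_eq_one.1 e)) with e | e <;> rw [e]
  exact zpowers_inv

/-- The part of `C(y)` normalising the lines of `a` and `b`. -/
theorem card_stab_cy :
    Nat.card ↥(cy y ⊓ normalizer (zpowers a : Set G) ⊓ normalizer (zpowers b : Set G)) ≤ 972 := by
  set M := normalizer (zpowers (s 0) : Set (CQ y)) ⊓ normalizer (zpowers (s 1) : Set (CQ y)) with hM
  have hle : cy y ⊓ normalizer (zpowers a : Set G) ⊓ normalizer (zpowers b : Set G) ≤ pre y M := by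
    rintro g ⟨⟨hgy, hga⟩, hgb⟩
    refine (coe_mem_pre (⟨g, hgy⟩ : ↥(cy y))).2 ⟨?_, ?_⟩
    · obtain ⟨e, he⟩ := exists_signAt (D.ord D.axis.a_mem D.axis.a_ne) hga
      rw [← D.toQ_zpowers_eq (c := ⟨a, D.E_le_cy D.axis.a_mem⟩) (D.a_line _ rfl) D.axis.a_ne]
      refine mem_normalizer_of_signAt (e := e) ?_
      show toQ y ⟨g, hgy⟩ * toQ y _ * (toQ y ⟨g, hgy⟩)⁻¹ = _
      rw [← map_inv, ← map_mul, ← map_mul]
      cases e
      · exact congrArg (toQ y) (Subtype.ext he)
      · simp only [cond_true]; rw [← map_inv]; exact congrArg (toQ y) (Subtype.ext he)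
    · obtain ⟨e, he⟩ := exists_signAt (D.ord D.axis.b_mem D.axis.b_ne) hgb
      rw [← D.toQ_zpowers_eq (c := ⟨b, D.E_le_cy D.axis.b_mem⟩) (D.b_line _ rfl) D.axis.b_ne]
      refine mem_normalizer_of_signAt (e := e) ?_
      show toQ y ⟨g, hgy⟩ * toQ y _ * (toQ y ⟨g, hgy⟩)⁻¹ = _
      rw [← map_inv, ← map_mul, ← map_mul]
      cases e
      · exact congrArg (toQ y) (Subtype.ext he)
      · simp only [cond_true]; rw [← map_inv]; exact congrArg (toQ y) (Subtype.ext he)
  refine (Subgroup.card_le_of_le hle).trans ?_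
  rw [card_pre hy.ord]
  have := D.line.pair_stab
  rw [← hM] at this
  omega

theorem cent_E_le : centralizer (E : Set G) ≤
    cy y ⊓ normalizer (zpowers a : Set G) ⊓ normalizer (zpowers b : Set G) := fun g hg =>
  have h := fun x hx => (mem_centralizer_iff.1 hg x hx).symm
  ⟨⟨mem_centralizer_singleton_iff.2 (h y D.axis.y_mem),
    mem_normalizer_of_signAt (signAt_false.2 (h a D.axis.a_mem))⟩,
    mem_normalizer_of_signAt (signAt_false.2 (h b D.axis.b_mem))⟩

theorem z_notMem : z ∉ pre y Ab := fun h =>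
  S.extra.z_ne (by
    have h3 := D.A_exp z h
    rwa [pow_succ, pow_two, S.extra.z_sq, one_mul] at h3)

theorem A_le_centE : pre y Ab ≤ centralizer (E : Set G) := fun w hw =>
  mem_centralizer_iff.2 fun e he => D.E_comm he hw

theorem card_centE : Nat.card ↥(centralizer (E : Set G)) = 486 ∧
    Nat.card ↥(cy y ⊓ normalizer (zpowers a : Set G) ⊓ normalizer (zpowers b : Set G)) = 972 := by
  obtain ⟨u, huy, -, hua, hub⟩ := D.axis.inverting
  set M := cy y ⊓ normalizer (zpowers a : Set G) ⊓ normalizer (zpowers b : Set G) with hM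
  set K := centralizer (E : Set G)
  have huM : u ∈ M := ⟨⟨mem_centralizer_singleton_iff.2 huy,
    mem_normalizer_of_signAt (e := true) hua⟩, mem_normalizer_of_signAt (e := true) hub⟩
  have huK : u ∉ K := fun h => by
    have hc := mem_centralizer_iff.1 h a D.axis.a_mem
    have h' : SignAt u a false := signAt_false.2 hc.symm
    exact Bool.noConfusion (signAt_unique (D.ord D.axis.a_mem D.axis.a_ne) h' (e' := true) hua)
  have hzK : z ∈ K := mem_centralizer_iff.2 fun e he => (mem_hc.1 (D.axis.le he)).1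
  have h1 : 243 ∣ Nat.card K := D.card_pre_Ab ▸ card_dvd_of_le D.A_le_centE
  have h2 : Nat.card K ∣ Nat.card M := card_dvd_of_le D.cent_E_le
  have hAK : 243 < Nat.card K := by
    refine lt_of_le_of_ne (Nat.le_of_dvd Nat.card_pos h1) fun e => D.z_notMem ?_
    rw [eq_of_le_of_card_ge D.A_le_centE (by rw [D.card_pre_Ab]; exact e.ge)]
    exact hzK
  have hKM : Nat.card K < Nat.card M := by
    refine lt_of_le_of_ne (Subgroup.card_le_of_le D.cent_E_le) fun e => huK ?_
    show u ∈ centralizer (E : Set G)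
    rw [eq_of_le_of_card_ge D.cent_E_le e.ge]
    exact huM
  have hle := D.card_stab_cy
  rw [← hM] at hle
  obtain ⟨k, hk⟩ := h1
  obtain ⟨m, hm⟩ := h2
  have hk2 : 2 ≤ k := by rw [hk] at hAK; omega
  have hm2 : 2 ≤ m := by
    by_contra hc
    have : m = 0 ∨ m = 1 := by omega
    rcases this with rfl | rfl <;> omega
  have h4 : 243 * k * m ≤ 972 := by rw [← hk, ← hm]; exact hle
  have h5 : k * 2 ≤ k * m := Nat.mul_le_mul_left _ hm2
  have h6 : 2 * m ≤ k * m := Nat.mul_le_mul_right _ hk2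
  have h7 : k * m ≤ 4 := by
    rw [mul_assoc] at h4; omega
  have hk' : k = 2 := by omega
  have hm' : m = 2 := by omega
  subst hk' hm'
  constructor <;> omega

theorem mem_A_of_cube {x : G} (hx : x ∈ centralizer (E : Set G)) (h3 : x ^ 3 = 1) : x ∈ pre y Ab := by
  have hi : ((pre y Ab).subgroupOf (centralizer (E : Set G))).index = 2 := by
    have h := ((pre y Ab).subgroupOf (centralizer (E : Set G))).card_mul_index
    rw [Nat.card_congr (subgroupOfEquivOfLe D.A_le_centE).toEquiv, D.card_pre_Ab, D.card_centE.1] at h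
    omega
  have h2 := sq_mem_of_index_two hi ⟨x, hx⟩
  rw [mem_subgroupOf, Subgroup.coe_pow] at h2
  have h4 := pow_mem h2 2
  rwa [← pow_mul, show 2 * 2 = 3 + 1 from rfl, pow_add, h3, one_mul, pow_one] at h4

/-- The normaliser of `E` normalises the preimage. -/
theorem normE {g : G} (hg : g ∈ normalizer (E : Set G)) : g ∈ normalizer (pre y Ab : Set G) := by
  refine mem_normalizer_fintype fun x hx => D.mem_A_of_cube (mem_centralizer_iff.2 fun e he => ?_) ?_
  · have hge : g⁻¹ * e * g ∈ E := by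
      simpa using (mem_normalizer_iff.1 (inv_mem hg) e).1 he
    have h := D.E_comm hge hx
    calc e * (g * x * g⁻¹) = g * ((g⁻¹ * e * g) * x) * g⁻¹ := by group
      _ = g * x * g⁻¹ * e := by rw [h]; group
  · rw [conj_pow, D.A_exp x hx, mul_one, mul_inv_cancel]

theorem cent_A : centralizer (pre y Ab : Set G) = pre y Ab := by
  refine le_antisymm (fun c hc => ?_) fun x hx => mem_centralizer_iff.2 fun w hw => D.A_comm w hw x hx
  have hcE : c ∈ centralizer (E : Set G) := centralizer_le (SetLike.coe_subset_coe.2 D.E_le_pre) hc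
  by_contra hcA
  have hi : ((pre y Ab).subgroupOf (centralizer (E : Set G))).index = 2 := by
    have h := ((pre y Ab).subgroupOf (centralizer (E : Set G))).card_mul_index
    rw [Nat.card_congr (subgroupOfEquivOfLe D.A_le_centE).toEquiv, D.card_pre_Ab, D.card_centE.1] at h
    omega
  have hzK : z ∈ centralizer (E : Set G) := mem_centralizer_iff.2 fun e he => (mem_hc.1 (D.axis.le he)).1
  have hprod : z * c ∈ pre y Ab := by
    have h := (mul_mem_iff_of_index_two hi (a := ⟨z, hzK⟩) (b := ⟨c, hcE⟩)).2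
      (by simp [mem_subgroupOf, hcA, D.z_notMem])
    exact h
  have hzA : ∀ w ∈ pre y Ab, z * w = w * z := fun w hw => by
    have h1 := D.A_comm _ hprod w hw
    have h2 := mem_centralizer_iff.1 hc w hw
    calc z * w = z * c * w * c⁻¹ := by rw [mul_assoc z c w, ← h2]; group
      _ = w * z := by rw [h1]; group
  have hall : Ab ≤ centralizer ({zbar S hy} : Set (CQ y)) := fun u hu => by
    obtain ⟨w, rfl⟩ := toQ_surjective y u
    rw [mem_centralizer_singleton_iff, zbar, ← map_mul, ← map_mul]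
    exact congrArg (toQ y) (Subtype.ext (hzA _ ((coe_mem_pre w).2 hu)).symm)
  have h9 := card_fixed S hy D.line
  rw [inf_eq_left.2 hall, D.line.card_Ab] at h9
  omega

theorem move_A : ∃ k, k * z = z * k ∧ k ∈ normalizer (E : Set G) ∧ k ∈ normalizer (pre y Ab : Set G) ∧
    k * a * k⁻¹ ∈ zpowers y := by
  obtain ⟨k, hkz, hkE, hka⟩ := D.axis.move
  exact ⟨k, hkz, hkE, D.normE hkE, hka⟩

/-- Conjugates of `y` over a line. -/
theorem over_zero {c : ↥(cy y)} (hc : toQ y c ∈ zpowers (s 0)) (hcy : IsConj y (c : G)) :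
    (c : G) ∈ zpowers y ∨ (c : G) ∈ zpowers a := by
  rcases D.axis.fusion _ (D.mem_E_of_line hc) hcy with h | h | h
  · exact Or.inl h
  · exact Or.inr h
  · refine Or.inl (by_contra fun hne => ?_)
    have hb1 : zpowers (toQ y c) = zpowers (s 1) := by
      refine D.toQ_zpowers_eq ?_ hne
      obtain ⟨m, hm⟩ := mem_zpowers_iff.1 h
      rw [show c = (⟨b, D.E_le_cy D.axis.b_mem⟩ : ↥(cy y)) ^ m from Subtype.ext (by simp [hm]), map_zpow]
      exact zpow_mem (D.b_line _ rfl) m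
    have h01 : s 1 ∈ zpowers (s 0) := zpowers_le.2 hc (hb1 ▸ mem_zpowers _)
    rcases eq_or_eq_inv_of_mem (D.s_ord 0) h01 (D.line.s_ne 1) with e | e
    · exact absurd (D.line.s_line 1 0 (Or.inl e)) (by decide)
    · exact absurd (D.line.s_line 1 0 (Or.inr e)) (by decide)

/-- A choice of the ten lines. -/
theorem exists_lines : ∃ L : Fin 10 → G, L 0 = a ∧ L 1 = b ∧ (∀ i, L i ∈ pre y Ab ∧ L i ∉ zpowers y ∧
    (∀ c : ↥(cy y), (c : G) = L i → toQ y c ∈ zpowers (s i)) ∧ (IsConj y (L i) ∨ IsConj y (L i)⁻¹) ∧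
    ∀ c : ↥(cy y), toQ y c ∈ zpowers (s i) → (IsConj y (c : G) ∨ IsConj y (c : G)⁻¹) →
      (c : G) ∈ zpowers y ∨ (c : G) ∈ zpowers (L i)) := by
  classical
  obtain ⟨k, -, -, -, hka⟩ := D.move_A
  have hca : IsConj y a ∨ IsConj y a⁻¹ := by
    rcases eq_or_eq_inv_of_mem hy.ord hka (fun e => D.axis.a_ne (by rw [conj_eq_one_iff.1 e]; exact one_mem _))
      with e | e
    · exact Or.inl (isConj_iff.2 ⟨k⁻¹, by rw [← e]; group⟩)
    · exact Or.inr (isConj_iff.2 ⟨k⁻¹, by rw [← inv_inv y, ← e]; group⟩)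
  choose g hg hgc using D.exists_mover
  let R : Fin 10 → G := fun i => (g i : G) * a * (g i : G)⁻¹
  have hgy : ∀ i, (g i : G) * y = y * (g i : G) := fun i => mem_centralizer_singleton_iff.1 (g i).2
  have hRy : ∀ i, R i ∉ zpowers y := fun i h => D.axis.a_ne (by
    have h' := conj_mem_zpowers (g i : G)⁻¹ h
    rw [show (g i : G)⁻¹ * y * (g i : G)⁻¹⁻¹ = y by rw [inv_inv, mul_assoc, ← hgy i, inv_mul_cancel_left]] at h'
    simpa [R, mul_assoc] using h')
  have huniq : ∀ i (c : ↥(cy y)), toQ y c ∈ zpowers (s i) → (IsConj y (c : G) ∨ IsConj y (c : G)⁻¹) →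
      (c : G) ∈ zpowers y ∨ (c : G) ∈ zpowers (R i) := by
    intro i c hc hcy
    set d : ↥(cy y) := (g i)⁻¹ * c * g i with hd
    have hd' : (c : G) = (g i : G) * (d : G) * (g i : G)⁻¹ := by simp [hd, mul_assoc]
    have hdd : (d : G) ∈ zpowers y ∨ (d : G) ∈ zpowers a := by
      rcases hcy with h | h
      · exact D.over_zero (hgc i c hc) (h.trans (isConj_iff.2 ⟨(g i : G)⁻¹, by rw [hd]; simp⟩))
      · have := D.over_zero (c := d⁻¹) (by rw [map_inv]; exact inv_mem (hgc i c hc))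
          (h.trans (isConj_iff.2 ⟨(g i : G)⁻¹, by rw [hd]; simp [mul_assoc]⟩))
        simpa using this
    rcases hdd with h | h
    · left
      have h' := conj_mem_zpowers (g i : G) h
      rwa [← hd', hgy i, mul_inv_cancel_right] at h'
    · exact Or.inr (hd' ▸ conj_mem_zpowers (g i : G) h)
  obtain ⟨k', -, -, hkb⟩ := D.axis.move_b
  have hcb : IsConj y b ∨ IsConj y b⁻¹ := by
    rcases eq_or_eq_inv_of_mem hy.ord hkb (fun e => D.axis.b_ne (by rw [conj_eq_one_iff.1 e]; exact one_mem _))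
      with e | e
    · exact Or.inl (isConj_iff.2 ⟨k'⁻¹, by rw [← e]; group⟩)
    · exact Or.inr (isConj_iff.2 ⟨k'⁻¹, by rw [← inv_inv y, ← e]; group⟩)
  have hb1 : R 1 ∈ zpowers b := by
    have h := (huniq 1 ⟨b, D.E_le_cy D.axis.b_mem⟩ (D.b_line _ rfl) hcb).resolve_left D.axis.b_ne
    have hbo := D.ord D.axis.b_mem D.axis.b_ne
    have hRo : orderOf (R 1) = 3 := by
      show orderOf (MulAut.conj (g 1 : G) a) = 3
      rw [MulEquiv.orderOf_eq, D.ord D.axis.a_mem D.axis.a_ne]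
    rcases eq_or_eq_inv_of_mem hRo h (fun e => by simp [show b = 1 from e] at hbo) with e | e
    · exact e ▸ mem_zpowers _
    · rw [← inv_inv (R 1), ← e]; exact inv_mem (mem_zpowers b)
  have hRmem : ∀ i, R i ∈ pre y Ab := fun i => conj_mem_pre (hg i) D.a_pre
  have hRline : ∀ i (c : ↥(cy y)), (c : G) = R i → toQ y c ∈ zpowers (s i) := by
    intro i c hc
    set d : ↥(cy y) := (g i)⁻¹ * c * g i with hd
    have hda : (d : G) = a := by simp [hd, hc, R, mul_assoc]
    have h0 := D.a_line d hda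
    have hcd : toQ y c = toQ y (g i) * toQ y d * (toQ y (g i))⁻¹ := by
      rw [hd, map_mul, map_mul, map_inv]; group
    obtain ⟨w, hw⟩ := toQ_surjective y (s i)
    have h2 := hgc i w (by rw [hw]; exact mem_zpowers _)
    rw [map_mul, map_mul, map_inv, hw] at h2
    have h2' : zpowers ((toQ y (g i))⁻¹ * s i * toQ y (g i)) = zpowers (s 0) := by
      rcases eq_or_eq_inv_of_mem (D.s_ord 0) h2 (fun e => D.line.s_ne i (by
        calc s i = toQ y (g i) * ((toQ y (g i))⁻¹ * s i * toQ y (g i)) * (toQ y (g i))⁻¹ := by group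
          _ = 1 := by rw [e]; group)) with e | e <;> rw [e]
      exact zpowers_inv
    rw [hcd]
    have h3 := conj_mem_zpowers (toQ y (g i)) (h2' ▸ h0 : toQ y d ∈ zpowers ((toQ y (g i))⁻¹ * s i * toQ y (g i)))
    rwa [show toQ y (g i) * ((toQ y (g i))⁻¹ * s i * toQ y (g i)) * (toQ y (g i))⁻¹ = s i by group] at h3
  have hRconj : ∀ i, IsConj y (R i) ∨ IsConj y (R i)⁻¹ := fun i => by
    rcases hca with h | h
    · exact Or.inl (h.trans (isConj_iff.2 ⟨g i, rfl⟩))
    · exact Or.inr (h.trans (isConj_iff.2 ⟨g i, by simp [R, mul_assoc]⟩))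
  refine ⟨fun i => if i = 0 then a else if i = 1 then b else R i, if_pos rfl,
    (if_neg (by decide)).trans (if_pos rfl), fun i => ?_⟩
  by_cases h0 : i = 0
  · subst h0
    simp only [if_pos]
    refine ⟨D.a_pre, D.axis.a_ne, fun c hc => D.a_line c hc, hca, fun c hc hcy => ?_⟩
    rcases hcy with h | h
    · exact D.over_zero hc h
    · have h' := D.over_zero (c := c⁻¹) (by rw [map_inv]; exact inv_mem hc) h
      simpa using h'
  by_cases h1 : i = 1
  · subst h1
    simp only [if_neg h0, if_pos]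
    exact ⟨D.b_pre, D.axis.b_ne, fun c hc => D.b_line c hc, hcb, fun c hc hcy =>
      (huniq 1 c hc hcy).imp_right fun h => zpowers_le.2 hb1 h⟩
  simp only [if_neg h0, if_neg h1]
  exact ⟨hRmem i, hRy i, hRline i, hRconj i, huniq i⟩

theorem line_conj {g : CQ y} {i k : Fin 10} (h : g * s k * g⁻¹ = s i ∨ g * s k * g⁻¹ = (s i)⁻¹) {u : CQ y}
    (hu : u ∈ zpowers (s i)) : g⁻¹ * u * g ∈ zpowers (s k) := by
  have hsi : s i ∈ zpowers (g * s k * g⁻¹) := by
    rcases h with e | e <;> rw [e]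
    · exact mem_zpowers _
    · exact zpowers_inv (g := s i) ▸ mem_zpowers _
  have h' := conj_mem_zpowers g⁻¹ (zpowers_le.2 hsi hu)
  rw [show g⁻¹ * (g * s k * g⁻¹) * g⁻¹⁻¹ = s k by group, inv_inv] at h'
  exact h'

theorem exists_cover : ∃ L : Fin 10 → G, Cover y a b (pre y Ab) L := by
  classical
  obtain ⟨L, hL0, hL1, hL⟩ := D.exists_lines
  refine ⟨L, ?_⟩
  have hLmem := fun i => (hL i).1
  have hLne := fun i => (hL i).2.1
  have hLc : ∀ i, L i ∈ cy y := fun i => pre_le Ab (hLmem i)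
  have hLord : ∀ i, orderOf (L i) = 3 := fun i =>
    orderOf_eq_prime (hp := ⟨Nat.prime_three⟩) (D.A_exp _ (hLmem i)) fun e => hLne i (e ▸ one_mem _)
  have hline : ∀ i, zpowers (toQ y ⟨L i, hLc i⟩) = zpowers (s i) := fun i =>
    D.toQ_zpowers_eq ((hL i).2.2.1 _ rfl) (hLne i)
  have huniq := fun i => (hL i).2.2.2.2
  obtain ⟨u, huy, huE, hua, hub⟩ := D.axis.inverting
  obtain ⟨k, hkz, hkE, hkA, hka⟩ := D.move_A
  set K := centralizer (E : Set G) with hK
  set M := cy y ⊓ normalizer (zpowers a : Set G) ⊓ normalizer (zpowers b : Set G) with hM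
  set T := normalizer (pre y Ab : Set G) ⊓ normalizer (zpowers y : Set G) ⊓
    normalizer (zpowers a : Set G) ⊓ normalizer (zpowers b : Set G) with hT
  have hy3 : orderOf y = 3 := hy.ord
  have ha3 := D.ord D.axis.a_mem D.axis.a_ne
  have hb3 := D.ord D.axis.b_mem D.axis.b_ne
  have hsy : ∀ {g : G}, g ∈ cy y → SignAt g y false := fun hg => signAt_false.2 (mem_centralizer_singleton_iff.1 hg)
  have huM : u ∈ M := ⟨⟨mem_centralizer_singleton_iff.2 huy,
    mem_normalizer_of_signAt (e := true) hua⟩, mem_normalizer_of_signAt (e := true) hub⟩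
  have huK : u ∉ K := fun h => Bool.noConfusion (signAt_unique ha3
    (signAt_false.2 (mem_centralizer_iff.1 h a D.axis.a_mem).symm) (e' := true) hua)
  have hKM : K ≤ M := D.cent_E_le
  have hiK : (K.subgroupOf M).index = 2 := by
    have h := (K.subgroupOf M).card_mul_index
    rw [Nat.card_congr (subgroupOfEquivOfLe hKM).toEquiv, D.card_centE.1, D.card_centE.2] at h
    omega
  have hKsign : ∀ g ∈ K, SignAt g a false ∧ SignAt g b false := fun g hg =>
    ⟨signAt_false.2 (mem_centralizer_iff.1 hg a D.axis.a_mem).symm,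
      signAt_false.2 (mem_centralizer_iff.1 hg b D.axis.b_mem).symm⟩
  have hKA : K ≤ normalizer (pre y Ab : Set G) := fun g hg => D.normE (mem_normalizer_fintype fun e he => by
    have h : g * e * g⁻¹ = e := by rw [← mem_centralizer_iff.1 hg e he, mul_inv_cancel_right]
    rw [h]; exact he)
  have hcases : ∀ g ∈ M, g ∈ normalizer (pre y Ab : Set G) ∧ ∃ e, SignAt g a e ∧ SignAt g b e := by
    intro g hg
    by_cases hgK : g ∈ K
    · exact ⟨hKA hgK, false, hKsign g hgK⟩
    · have h : u⁻¹ * g ∈ K := (mul_mem_iff_of_index_two hiK (a := (⟨u, huM⟩ : ↥M)⁻¹) (b := ⟨g, hg⟩)).2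
        (by simp [mem_subgroupOf, hgK, huK])
      refine ⟨?_, true, ?_, ?_⟩
      · rw [← mul_inv_cancel_left u g]; exact mul_mem (D.normE huE) (hKA h)
      · rw [← mul_inv_cancel_left u g]; exact signAt_mul (e := true) hua (hKsign _ h).1
      · rw [← mul_inv_cancel_left u g]; exact signAt_mul (e := true) hub (hKsign _ h).2
  -- the conjugate of the inverting element
  set v := k * u * k⁻¹ with hv
  have hvE : v ∈ normalizer (E : Set G) := mul_mem (mul_mem hkE huE) (inv_mem hkE)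
  have hkmem : ∀ {r : G}, r ∈ E → k * r * k⁻¹ ∈ E := fun hr => (mem_normalizer_iff.1 hkE _).1 hr
  have hkne : ∀ {r : G}, r ≠ 1 → k * r * k⁻¹ ≠ 1 := fun h e => h (conj_eq_one_iff.1 e)
  have hka1 : k * a * k⁻¹ ≠ 1 := hkne fun e => D.axis.a_ne (e ▸ one_mem _)
  have hvy : SignAt v y true := by
    refine signAt_of_mem ?_ (signAt_conj k (e := true) hua)
    rcases eq_or_eq_inv_of_mem hy3 hka hka1 with e | e <;> rw [e]
    · exact mem_zpowers y
    · rw [zpowers_inv]; exact mem_zpowers y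
  have hyk : ∀ {r : G}, r ∈ E → orderOf r = 3 → r ∉ zpowers a → k * r * k⁻¹ ∉ zpowers y := by
    intro r hr hr3 hra hmem
    have h1 : y ∈ zpowers (k * a * k⁻¹) := by
      rcases eq_or_eq_inv_of_mem hy3 hka hka1 with e | e <;> rw [e]
      · exact mem_zpowers y
      · rw [zpowers_inv]; exact mem_zpowers y
    have h2 := conj_mem_zpowers k⁻¹ (zpowers_le.2 h1 hmem)
    simp only [inv_inv] at h2
    rw [show k⁻¹ * (k * r * k⁻¹) * k = r by group, show k⁻¹ * (k * a * k⁻¹) * k = a by group] at h2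
    exact hra h2
  have hconj : ∀ {r : G}, r ∈ E → orderOf r = 3 → r ∉ zpowers a → (IsConj y r ∨ IsConj y r⁻¹) →
      k * r * k⁻¹ ∈ zpowers a ∨ k * r * k⁻¹ ∈ zpowers b := by
    intro r hr hr3 hra hc
    rcases hc with hc | hc
    · exact (D.axis.fusion _ (hkmem hr) (hc.trans (isConj_iff.2 ⟨k, rfl⟩))).resolve_left (hyk hr hr3 hra)
    · have h := D.axis.fusion _ (inv_mem (hkmem hr)) (hc.trans (isConj_iff.2 ⟨k, by group⟩))
      simp only [inv_mem_iff] at h
      exact h.resolve_left (hyk hr hr3 hra)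
  have hya : y ∉ zpowers a := fun h => by
    rcases eq_or_eq_inv_of_mem ha3 h (fun e => by simp [e] at hy3) with e | e
    · exact D.axis.a_ne (e ▸ mem_zpowers y)
    · exact D.axis.a_ne (by rw [← inv_inv a, ← e]; exact inv_mem (mem_zpowers y))
  have hkb := hconj D.axis.b_mem hb3 D.axis.ab_ne (hL1 ▸ (hL 1).2.2.2.1)
  have hky := hconj D.axis.y_mem hy3 hya (Or.inl (IsConj.refl y))
  have hvb : SignAt v (k * b * k⁻¹) true := signAt_conj k (e := true) hub
  have hvk : SignAt v (k * y * k⁻¹) false := signAt_conj k (signAt_false.2 huy)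
  have hb1 : k * b * k⁻¹ ≠ 1 := hkne fun e => D.axis.b_ne (e ▸ one_mem _)
  have hy1 : k * y * k⁻¹ ≠ 1 := hkne fun e => by simp [e] at hy3
  have hgen : ∀ {r w : G}, orderOf r = 3 → w ∈ zpowers r → w ≠ 1 → r ∈ zpowers w := by
    intro r w hr hw hw1
    rcases eq_or_eq_inv_of_mem hr hw hw1 with e | e <;> rw [e]
    · exact mem_zpowers r
    · rw [zpowers_inv]; exact mem_zpowers r
  obtain ⟨p, hva, hvb'⟩ : ∃ p, SignAt v a p ∧ SignAt v b (!p) := by
    have hno : ∀ {r : G}, orderOf r = 3 → k * b * k⁻¹ ∈ zpowers r → k * y * k⁻¹ ∈ zpowers r → False :=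
      fun hr h1 h2 => Bool.noConfusion (signAt_unique hr
        (signAt_of_mem (hgen hr h2 hy1) hvk) (signAt_of_mem (hgen hr h1 hb1) hvb))
    rcases hkb with h1 | h1 <;> rcases hky with h2 | h2
    · exact (hno ha3 h1 h2).elim
    · exact ⟨true, signAt_of_mem (hgen ha3 h1 hb1) hvb, signAt_of_mem (hgen hb3 h2 hy1) hvk⟩
    · exact ⟨false, signAt_of_mem (hgen ha3 h2 hy1) hvk, signAt_of_mem (hgen hb3 h1 hb1) hvb⟩
    · exact (hno hb3 h1 h2).elim
  have hvT : v ∈ T := ⟨⟨⟨D.normE hvE, mem_normalizer_of_signAt hvy⟩, mem_normalizer_of_signAt hva⟩,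
    mem_normalizer_of_signAt hvb'⟩
  have hMT : M ≤ T := fun g hg => ⟨⟨⟨(hcases g hg).1, mem_normalizer_of_signAt (hsy hg.1.1)⟩, hg.1.2⟩, hg.2⟩
  have hTM : ∀ g ∈ T, SignAt g y false → g ∈ M := fun g hg h =>
    ⟨⟨mem_centralizer_singleton_iff.2 (signAt_false.1 h), hg.1.2⟩, hg.2⟩
  refine
    { card_A := D.card_pre_Ab
      comm := D.A_comm
      exp := D.A_exp
      cent := D.cent_A
      y_mem := y_mem_pre Ab
      y_ord := hy3
      L_mem := hLmem
      L_ord := hLord
      L_zero := hL0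
      L_one := hL1
      L_ne := hLne
      L_inj := ?_
      point := ?_
      pairs := ?_
      move := ⟨k, hkA, hka⟩
      card_stab := ?_
      signs := ?_
      kernel := ?_ }
  · intro i j h
    obtain ⟨m, hm⟩ := mem_zpowers_iff.1 h
    have h' : s i ∈ zpowers (s j) := by
      rw [← zpowers_le, ← hline i, ← hline j, zpowers_le]
      rw [show (⟨L i, hLc i⟩ : ↥(cy y)) = ⟨L j, hLc j⟩ ^ m from Subtype.ext (by simp [hm]), map_zpow]
      exact zpow_mem (mem_zpowers _) m
    exact D.line.s_line i j (eq_or_eq_inv_of_mem (D.s_ord j) h' (D.line.s_ne i))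
  · intro x hx hxy
    by_cases hxy' : x ∈ zpowers y
    · exact Or.inl hxy'
    refine Or.inr ?_
    obtain ⟨c, hc, rfl⟩ := hx
    obtain ⟨i, j, hij, m, n, e⟩ := D.line.cover _ hc
    obtain ⟨gb, -, h0, h1⟩ := D.line.pairs i j hij
    obtain ⟨g, rfl⟩ := toQ_surjective y gb
    set d : ↥(cy y) := g⁻¹ * c * g with hd
    have hdq : toQ y d = ((toQ y g)⁻¹ * s i ^ m * toQ y g) * ((toQ y g)⁻¹ * s j ^ n * toQ y g) := by
      rw [hd, map_mul, map_mul, map_inv, e]; group
    have h0' := D.line_conj h0 (pow_mem (mem_zpowers (s i)) m)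
    have h1' := D.line_conj h1 (pow_mem (mem_zpowers (s j)) n)
    have hfix : ∀ {r : CQ y}, r ∈ zpowers (s 0) ∨ r ∈ zpowers (s 1) → Commute (zbar S hy) r := by
      rintro r (hr | hr) <;> obtain ⟨l, rfl⟩ := mem_zpowers_iff.1 hr
      · exact (show Commute (zbar S hy) (s 0) from D.line.t_comm.1).zpow_right l
      · exact (show Commute (zbar S hy) (s 1) from D.line.t_comm.2).zpow_right l
    have hdE : (d : G) ∈ E := (D.fixed d).2 ⟨hdq ▸ mul_mem (zpowers_le.2 (D.line.s_mem 0) h0')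
      (zpowers_le.2 (D.line.s_mem 1) h1'), by rw [hdq]; exact ((hfix (Or.inl h0')).mul_right (hfix (Or.inr h1'))).eq⟩
    have hdy : IsConj y (d : G) := hxy.trans (isConj_iff.2 ⟨(g : G)⁻¹, by simp [hd]⟩)
    have hback : ∀ {l w : Fin 10}, (toQ y g * s w * (toQ y g)⁻¹ = s l ∨ toQ y g * s w * (toQ y g)⁻¹ = (s l)⁻¹) →
        toQ y d ∈ zpowers (s w) → ∃ i, (c : G) ∈ zpowers (L i) := by
      intro l w hw hdw
      have h' := conj_mem_zpowers (toQ y g) hdw
      rw [show toQ y g * toQ y d * (toQ y g)⁻¹ = toQ y c by rw [hd, map_mul, map_mul, map_inv]; group] at h'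
      have hl : toQ y c ∈ zpowers (s l) := by
        rcases hw with e | e <;> rw [e] at h'
        · exact h'
        · rwa [zpowers_inv] at h'
      exact ⟨l, (huniq l c hl (Or.inl hxy)).resolve_left hxy'⟩
    rcases D.axis.fusion _ hdE hdy with h | h | h
    · exfalso
      refine hxy' ?_
      have h' := conj_mem_zpowers (g : G) h
      rw [mem_centralizer_singleton_iff.1 g.2, mul_inv_cancel_right] at h'
      simpa [hd, mul_assoc] using h'
    · obtain ⟨l, hl⟩ := mem_zpowers_iff.1 h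
      refine hback h0 ?_
      rw [show d = (⟨a, D.E_le_cy D.axis.a_mem⟩ : ↥(cy y)) ^ l from Subtype.ext (by simp [hl]), map_zpow]
      exact zpow_mem (D.a_line _ rfl) l
    · obtain ⟨l, hl⟩ := mem_zpowers_iff.1 h
      refine hback h1 ?_
      rw [show d = (⟨b, D.E_le_cy D.axis.b_mem⟩ : ↥(cy y)) ^ l from Subtype.ext (by simp [hl]), map_zpow]
      exact zpow_mem (D.b_line _ rfl) l
  · intro i j hij
    obtain ⟨gb, hgn, h0, h1⟩ := D.line.pairs i j hij
    obtain ⟨g, rfl⟩ := toQ_surjective y gb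
    have hn : toQ y g⁻¹ ∈ normalizer (Ab : Set (CQ y)) := by rw [map_inv]; exact inv_mem hgn
    have hgy : ((g⁻¹ : ↥(cy y)) : G) * y = y * ((g⁻¹ : ↥(cy y)) : G) := mem_centralizer_singleton_iff.1 (g⁻¹).2
    refine ⟨((g⁻¹ : ↥(cy y)) : G), mem_normalizer_fintype fun x hx => conj_mem_pre hn hx, hgy, ?_, ?_⟩
    · have hmem : toQ y (g⁻¹ * ⟨L i, hLc i⟩ * g) ∈ zpowers (s 0) := by
        rw [map_mul, map_mul, map_inv]
        exact D.line_conj h0 ((hL i).2.2.1 _ rfl)
      have hc' : IsConj y ((g⁻¹ * ⟨L i, hLc i⟩ * g : ↥(cy y)) : G) ∨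
          IsConj y ((g⁻¹ * ⟨L i, hLc i⟩ * g : ↥(cy y)) : G)⁻¹ :=
        (hL i).2.2.2.1.imp (fun h => h.trans (isConj_iff.2 ⟨(g : G)⁻¹, by simp⟩))
          (fun h => h.trans (isConj_iff.2 ⟨(g : G)⁻¹, by simp [mul_assoc]⟩))
      have hr := huniq 0 _ hmem hc'
      rw [hL0] at hr
      simp only [Subgroup.coe_mul, Subgroup.coe_inv, inv_inv] at hr ⊢
      refine hr.resolve_left fun h => hLne i ?_
      have h' := conj_mem_zpowers (g : G) h
      rw [mem_centralizer_singleton_iff.1 g.2, mul_inv_cancel_right] at h'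
      simpa [mul_assoc] using h'
    · have hmem : toQ y (g⁻¹ * ⟨L j, hLc j⟩ * g) ∈ zpowers (s 1) := by
        rw [map_mul, map_mul, map_inv]
        exact D.line_conj h1 ((hL j).2.2.1 _ rfl)
      have hc' : IsConj y ((g⁻¹ * ⟨L j, hLc j⟩ * g : ↥(cy y)) : G) ∨
          IsConj y ((g⁻¹ * ⟨L j, hLc j⟩ * g : ↥(cy y)) : G)⁻¹ :=
        (hL j).2.2.2.1.imp (fun h => h.trans (isConj_iff.2 ⟨(g : G)⁻¹, by simp⟩))
          (fun h => h.trans (isConj_iff.2 ⟨(g : G)⁻¹, by simp [mul_assoc]⟩))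
      have hr := huniq 1 _ hmem hc'
      rw [hL1] at hr
      simp only [Subgroup.coe_mul, Subgroup.coe_inv, inv_inv] at hr ⊢
      refine hr.resolve_left fun h => hLne j ?_
      have h' := conj_mem_zpowers (g : G) h
      rw [mem_centralizer_singleton_iff.1 g.2, mul_inv_cancel_right] at h'
      simpa [mul_assoc] using h'
  · let f : Bool × ↥M → ↥T := fun q => ⟨cond q.1 v 1 * q.2, mul_mem (by cases q.1 <;> [exact one_mem _; exact hvT])
      (hMT q.2.2)⟩
    have hsf : ∀ q : Bool × ↥M, SignAt (f q : G) y q.1 := fun q => by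
      have h : SignAt (cond q.1 v 1) y q.1 := by
        cases q.1
        · exact signAt_false.2 (by simp)
        · exact hvy
      simpa [f] using signAt_mul h (hsy q.2.2.1.1)
    have hbij : Function.Bijective f := by
      refine ⟨fun q q' e => ?_, fun g => ?_⟩
      · have h1 : q.1 = q'.1 := signAt_unique hy3 (hsf q) (e ▸ hsf q')
        have e' : cond q.1 v 1 * (q.2 : G) = cond q'.1 v 1 * (q'.2 : G) := congrArg Subtype.val e
        rw [h1] at e'
        exact Prod.ext h1 (Subtype.ext (mul_left_cancel e'))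
      · obtain ⟨e, he⟩ := exists_signAt hy3 g.2.1.1.2
        cases e
        · exact ⟨(false, ⟨g, hTM g g.2 he⟩), Subtype.ext (one_mul _)⟩
        · have hm : v⁻¹ * g ∈ T := mul_mem (inv_mem hvT) g.2
          exact ⟨(true, ⟨_, hTM _ hm (signAt_mul (signAt_inv_left hvy) he)⟩), Subtype.ext (mul_inv_cancel_left v g)⟩
    rw [← Nat.card_eq_of_bijective f hbij, Nat.card_prod, D.card_centE.2]
    simp
  · intro g hg e₀ e₁ e₂ h₀ h₁ h₂
    have hgT : g ∈ T := ⟨⟨⟨hg, mem_normalizer_of_signAt h₀⟩, mem_normalizer_of_signAt h₁⟩,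
      mem_normalizer_of_signAt h₂⟩
    have main : ∀ w ∈ T, ∀ d₁ d₂, SignAt w y false → SignAt w a d₁ → SignAt w b d₂ → d₁ = d₂ := by
      intro w hw d₁ d₂ hw0 hw1 hw2
      obtain ⟨-, e, he1, he2⟩ := hcases w (hTM w hw hw0)
      rw [signAt_unique ha3 hw1 he1, signAt_unique hb3 hw2 he2]
    cases e₀
    · rw [main g hgT e₁ e₂ h₀ h₁ h₂, Bool.false_xor]
    · have h := main (v⁻¹ * g) (mul_mem (inv_mem hvT) hgT) _ _ (signAt_mul (signAt_inv_left hvy) h₀)
        (signAt_mul (signAt_inv_left hva) h₁) (signAt_mul (signAt_inv_left hvb') h₂)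
      revert h
      cases p <;> cases e₁ <;> cases e₂ <;> simp
  · intro g hg hgy hgL
    rw [← D.cent_A]
    have hone : ∀ (i : Fin 10) (c : ↥(cy y)), toQ y c ∈ zpowers (s i) → Commute g (c : G) := by
      intro i c hc
      rw [← hline i] at hc
      obtain ⟨m, hm⟩ := mem_zpowers_iff.1 hc
      have hy' : ((c * ((⟨L i, hLc i⟩ : ↥(cy y)) ^ m)⁻¹ : ↥(cy y)) : G) ∈ zpowers y :=
        toQ_eq_one.1 (by rw [map_mul, map_inv, map_zpow, hm, mul_inv_cancel])
      obtain ⟨n, hn⟩ := mem_zpowers_iff.1 hy'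
      have e : (c : G) = y ^ n * L i ^ m := by rw [hn]; simp
      rw [e]
      exact ((show Commute g y from hgy).zpow_right n).mul_right ((show Commute g (L i) from hgL i).zpow_right m)
    refine mem_centralizer_iff.2 fun x hx => ?_
    obtain ⟨p, q, i, j, hp, hq, rfl⟩ := D.decompose hx
    exact ((hone i p hp).mul_right (hone j q hq)).eq.symm

/-- A Sylow 3-subgroup of the normaliser of `⟨y⟩` over the preimage is one of the whole group. -/
theorem exists_sylow : ∃ P : Sylow 3 ↥(normalizer (zpowers y : Set G)),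
    pre y Ab ≤ (P : Subgroup ↥(normalizer (zpowers y : Set G))).map (normalizer (zpowers y : Set G)).subtype ∧
      ¬ 3 ∣ ((P : Subgroup ↥(normalizer (zpowers y : Set G))).map
        (normalizer (zpowers y : Set G)).subtype).index := by
  classical
  haveI : Fact (Nat.Prime 3) := ⟨Nat.prime_three⟩
  set N := normalizer (zpowers y : Set G) with hN
  obtain ⟨R, hR, hRn, hRc, -⟩ := D.line.sylow
  have hAb : IsPGroup 3 ↥Ab := IsPGroup.of_card (n := 4) (by rw [D.line.card_Ab]; norm_num)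
  have hP3 := isPGroup_pre (y := y) hy.ord (hAb.to_sup_of_normal_left' hR hRn)
  have hle : pre y (Ab ⊔ R) ≤ N := fun g hg =>
    mem_normalizer_of_signAt (signAt_false.2 (mem_centralizer_singleton_iff.1 (pre_le _ hg)))
  obtain ⟨P, hP⟩ := (hP3.of_equiv (subgroupOfEquivOfLe hle).symm).exists_le_sylow
  set H := (P : Subgroup ↥N).map N.subtype with hH
  have hsub : pre y (Ab ⊔ R) ≤ H := fun g hg => ⟨⟨g, hle hg⟩, hP hg, rfl⟩
  have hAH : pre y Ab ≤ H := fun g hg => hsub (map_mono (comap_mono le_sup_left) hg)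
  refine ⟨P, hAH, fun h3 => ?_⟩
  have hH3 : IsPGroup 3 ↥H := P.isPGroup'.map _
  have hHy : ∀ g ∈ H, g * y = y * g := by
    rintro _ ⟨g, hg, rfl⟩
    obtain ⟨e, he⟩ := exists_signAt hy.ord g.2
    obtain ⟨m, hm⟩ := P.isPGroup' ⟨g, hg⟩
    have hm' : (g : G) ^ 3 ^ m = 1 := congrArg (fun x : ↥(P : Subgroup ↥N) => ((x : ↥N) : G)) hm
    cases e
    · exact signAt_false.1 he
    · exfalso
      have key : ∀ n : ℕ, SignAt ((g : G) ^ n) y (decide (n % 2 = 1)) := by
        intro n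
        induction n with
        | zero => exact signAt_false.2 (by simp)
        | succ n ih =>
          rw [pow_succ]
          have h := signAt_mul ih he
          rcases Nat.mod_two_eq_zero_or_one n with h' | h' <;>
            simpa [h', Nat.add_mod] using h
      have h1 := key (3 ^ m)
      rw [hm', decide_eq_true (show 3 ^ m % 2 = 1 by rw [Nat.pow_mod]; simp)] at h1
      exact Bool.noConfusion (signAt_unique hy.ord (signAt_false.2 (by simp : (1 : G) * y = y * 1)) h1)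
  obtain ⟨n, hn⟩ := IsPGroup.iff_card.1 hH3
  have hdvd : 3 ^ (n + 1) ∣ Nat.card G := by
    rw [← H.card_mul_index, hn, pow_succ]
    exact mul_dvd_mul_left _ h3
  obtain ⟨K', hK', hHK'⟩ := Sylow.exists_subgroup_card_pow_succ hdvd hn
  have hlt : H < K' := lt_of_le_of_ne hHK' fun e => by
    rw [e, hK'] at hn
    have := Nat.pow_right_injective (le_refl 2 |>.trans (by norm_num : 2 ≤ 3)) hn
    omega
  haveI : Finite ↥K' := inferInstance
  have hKp : IsPGroup 3 ↥K' := IsPGroup.of_card hK'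
  haveI := hKp.isNilpotent
  have hproper : H.subgroupOf K' < ⊤ := lt_top_iff_ne_top.2 fun e => hlt.not_ge (subgroupOf_eq_top.1 e)
  have hnc := normalizerCondition_of_isNilpotent (G := ↥K') _ hproper
  obtain ⟨g, hgn, hgH⟩ := SetLike.exists_of_lt hnc
  have hgN : ∀ x ∈ H, (g : G) * x * (g : G)⁻¹ ∈ H := fun x hx => (mem_normalizer_iff.1 hgn ⟨x, hHK' hx⟩).1 hx
  -- the central conjugates of `y`
  have hcentral : ∀ x ∈ H, (∀ w ∈ H, x * w = w * x) → (IsConj y x ∨ IsConj y x⁻¹) →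
      x ∈ zpowers y ∨ x ∈ zpowers a := by
    intro x hx hxc hcy
    have hxA : x ∈ pre y Ab := by
      rw [← D.cent_A]
      exact mem_centralizer_iff.2 fun w hw => (hxc w (hAH hw)).symm
    set c : ↥(cy y) := ⟨x, pre_le Ab hxA⟩
    have hcR : ∀ r ∈ R, r * toQ y c = toQ y c * r := by
      intro r hr
      obtain ⟨w, rfl⟩ := toQ_surjective y r
      rw [← map_mul, ← map_mul]
      exact congrArg (toQ y) (Subtype.ext (hxc _ (hsub ((coe_mem_pre w).2 (mem_sup_right hr)))).symm)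
    have hc0 := hRc _ ((coe_mem_pre c).1 hxA) hcR
    rcases hcy with h | h
    · exact D.over_zero hc0 h
    · have := D.over_zero (c := c⁻¹) (by rw [map_inv]; exact inv_mem hc0) h
      simpa [c] using this
  have hyH : y ∈ H := hAH (y_mem_pre Ab)
  have himg : ∀ x ∈ H, (∀ w ∈ H, x * w = w * x) → ∀ w ∈ H, ((g : G) * x * (g : G)⁻¹) * w = w * ((g : G) * x * (g : G)⁻¹) := by
    intro x hx hxc w hw
    have hw' : (g : G)⁻¹ * w * g ∈ H := by
      have h := (mem_normalizer_iff.1 (inv_mem hgn) ⟨w, hHK' hw⟩).1 hw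
      simpa [mem_subgroupOf] using h
    have h := hxc _ hw'
    calc (g : G) * x * (g : G)⁻¹ * w = g * (x * ((g : G)⁻¹ * w * g)) * (g : G)⁻¹ := by group
      _ = _ := by rw [h]; group
  have hy1 : y ≠ 1 := fun e => by have := hy.ord; simp [e] at this
  have hycen : ∀ w ∈ H, y * w = w * y := fun w hw => (hHy w hw).symm
  set y₁ := (g : G) * y * (g : G)⁻¹ with hy₁
  have hy₁c := himg y hyH hycen
  have hy₁y : IsConj y y₁ := isConj_iff.2 ⟨g, rfl⟩
  have hgy : y₁ ∈ zpowers y := by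
    rcases hcentral y₁ (hgN y hyH) hy₁c (Or.inl hy₁y) with h | h
    · exact h
    exfalso
    set y₂ := (g : G) * y₁ * (g : G)⁻¹ with hy₂
    have hy₂y : IsConj y y₂ := hy₁y.trans (isConj_iff.2 ⟨g, rfl⟩)
    have hy₁1 : y₁ ≠ 1 := fun e => hy1 (conj_eq_one_iff.1 e)
    have ha3 := D.ord D.axis.a_mem D.axis.a_ne
    have h2 : y₂ ∈ zpowers y := by
      rcases hcentral y₂ (hgN _ (hgN y hyH)) (himg y₁ (hgN y hyH) hy₁c) (Or.inl hy₂y) with h' | h'
      · exact h'
      exfalso
      -- `g` would fix the line of `a`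
      have h'' : y₂ ∈ zpowers y₁ := by
        rcases eq_or_eq_inv_of_mem ha3 h hy₁1 with e | e <;> rw [e]
        · exact h'
        · rwa [zpowers_inv]
      have h3' := conj_mem_zpowers (g : G)⁻¹ h''
      simp only [inv_inv] at h3'
      rw [show (g : G)⁻¹ * y₂ * g = y₁ by rw [hy₂]; group, show (g : G)⁻¹ * y₁ * g = y by rw [hy₁]; group] at h3'
      rcases eq_or_eq_inv_of_mem ha3 h hy₁1 with e | e <;> rw [e] at h3'
      · exact D.axis.a_ne h3'
      · exact D.axis.a_ne (inv_mem_iff.1 h3')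
    -- `g ^ 2` fixes `⟨y⟩`, so `g` does
    have h2' : SignAt ((g : G) * g) y (decide (y₂ = y⁻¹)) := by
      have e : (g : G) * g * y * ((g : G) * g)⁻¹ = y₂ := by rw [hy₂, hy₁]; group
      rcases eq_or_eq_inv_of_mem hy.ord h2 (fun e => hy₁1 (conj_eq_one_iff.1 e)) with e' | e'
      · rw [show decide (y₂ = y⁻¹) = false from decide_eq_false fun e'' => by
          have := signAt_unique (g := (1 : G)) hy.ord (signAt_false.2 (by simp)) (e' := true)
            (show (1 : G) * y * 1⁻¹ = y⁻¹ by simp; exact e'.symm.trans e'')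
          exact Bool.noConfusion this]
        exact e.trans e'
      · rw [decide_eq_true e']
        exact e.trans e'
    obtain ⟨m, hm⟩ := hKp g
    have hm' : (g : G) ^ 3 ^ m = 1 := congrArg Subtype.val hm
    obtain ⟨l, hl⟩ : ∃ l, 3 ^ m + 1 = 2 * l := ⟨(3 ^ m + 1) / 2, by
      have : 3 ^ m % 2 = 1 := by rw [Nat.pow_mod]; simp
      omega⟩
    have hgg : (g : G) = ((g : G) * g) ^ l := by rw [← pow_two, ← pow_mul, ← hl, pow_succ, hm', one_mul]
    have hnorm := pow_mem (mem_normalizer_of_signAt h2') l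
    rw [← hgg] at hnorm
    have hy₁z : y₁ ∈ zpowers y := (mem_normalizer_iff.1 hnorm y).1 (mem_zpowers y)
    rcases eq_or_eq_inv_of_mem ha3 h hy₁1 with e | e <;> rw [e] at hy₁z
    · exact D.axis.a_ne hy₁z
    · exact D.axis.a_ne (inv_mem_iff.1 hy₁z)
  have hgNy : (g : G) ∈ N := mem_normalizer_fintype fun x hx => by
    obtain ⟨l, rfl⟩ := mem_zpowers_iff.1 hx
    rw [← conj_zpow]
    exact zpow_mem hgy l
  have hKN : H ⊔ zpowers (g : G) ≤ N := sup_le (map_subtype_le _) (zpowers_le.2 hgNy)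
  have hK3 : IsPGroup 3 ↥((H ⊔ zpowers (g : G)).subgroupOf N) :=
    (hKp.to_le (sup_le hHK' (zpowers_le.2 g.2))).of_equiv (subgroupOfEquivOfLe hKN).symm
  have hPle : (P : Subgroup ↥N) ≤ (H ⊔ zpowers (g : G)).subgroupOf N := fun x hx =>
    mem_subgroupOf.2 (mem_sup_left ⟨x, hx, rfl⟩)
  have heq := P.is_maximal' hK3 hPle
  refine hgH ?_
  have : (⟨g, hgNy⟩ : ↥N) ∈ (P : Subgroup ↥N) := by
    rw [← heq]
    exact mem_subgroupOf.2 (mem_sup_right (mem_zpowers _))
  exact ⟨_, this, rfl⟩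

end Aligned

end

end CfsgLib.Characterizations.SuzType.Three
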