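import Cfsg.Agent.Lib.Characterizations.SuzType.Three.Quot

/-!
# The stabiliser of a totally isotropic line in a group of type `U₄(3)`, as abstract data
-/

set_option autoImplicit false

namespace CfsgLib.Characterizations.SuzType.Three

/-- An involution `t` normalising an elementary group `Ab` of order 81, with ten distinguished
subgroups `⟨s i⟩` of order three (the root groups of the isotropic points of a line). -/
structure LineData {U : Type*} [Group U] (t : U) (Ab : Subgroup U) (s : Fin 10 → U) : Prop where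
  t_sq : t * t = 1
  t_norm : ∀ a ∈ Ab, t * a * t⁻¹ ∈ Ab
  card_Ab : Nat.card Ab = 81
  comm : ∀ a ∈ Ab, ∀ b ∈ Ab, a * b = b * a
  cube : ∀ a ∈ Ab, a ^ 3 = 1
  s_mem : ∀ i, s i ∈ Ab
  s_ne : ∀ i, s i ≠ 1
  s_line : ∀ i j, s i = s j ∨ s i = (s j)⁻¹ → i = j
  t_comm : t * s 0 = s 0 * t ∧ t * s 1 = s 1 * t
  t_fix : ∀ a ∈ Ab, t * a = a * t → ∃ m n : ℕ, a = s 0 ^ m * s 1 ^ n
  cover : ∀ a ∈ Ab, ∃ i j, i ≠ j ∧ ∃ m n : ℕ, a = s i ^ m * s j ^ n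
  conj_s : ∀ g : U, g * s 0 * g⁻¹ ∈ Ab → ∃ i, g * s 0 * g⁻¹ = s i ∨ g * s 0 * g⁻¹ = (s i)⁻¹
  pairs : ∀ i j, i ≠ j → ∃ g ∈ Subgroup.normalizer (Ab : Set U),
    (g * s 0 * g⁻¹ = s i ∨ g * s 0 * g⁻¹ = (s i)⁻¹) ∧ (g * s 1 * g⁻¹ = s j ∨ g * s 1 * g⁻¹ = (s j)⁻¹)
  pair_stab : Nat.card ↥(Subgroup.normalizer (Subgroup.zpowers (s 0) : Set U) ⊓
    Subgroup.normalizer (Subgroup.zpowers (s 1) : Set U)) ≤ 324
  quat : (∃ L : Subgroup U, Nat.card L = 8 ∧ ∀ c ∈ L, c * t = t * c ∧ c * s 0 = s 0 * c) ∧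
    ∃ L : Subgroup U, Nat.card L = 8 ∧ ∀ c ∈ L, c * t = t * c ∧ c * s 1 = s 1 * c
  sylow : ∃ R : Subgroup U, IsPGroup 3 R ∧ R ≤ Subgroup.normalizer (Ab : Set U) ∧
    (∀ a ∈ Ab, (∀ r ∈ R, r * a = a * r) → a ∈ Subgroup.zpowers (s 0)) ∧ 3 ^ 6 ∣ Nat.card ↥(Ab ⊔ R)

end CfsgLib.Characterizations.SuzType.Three
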