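import Cfsg.Agent.Lib.Characterizations.SuzType.Three.LineModel

/-!
# The stabiliser of two points of the line
-/

set_option autoImplicit false
set_option maxRecDepth 100000

namespace CfsgLib.Characterizations.SuzType.Three.Line

open Matrix CfsgLib.Chevalley.G2Two Subgroup

theorem nb_base_zero : nb (base 0) = !![0, 0, io, 0; 0, 0, 0, 0; 0, 0, 0, 0; 0, 0, 0, 0] ∧
    nb (-base 0) = !![0, 0, -io, 0; 0, 0, 0, 0; 0, 0, 0, 0; 0, 0, 0, 0] := by decide +kernel

theorem nb_base_one : nb (base 1) = !![0, 0, 0, 0; 0, 0, 0, io; 0, 0, 0, 0; 0, 0, 0, 0] ∧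
    nb (-base 1) = !![0, 0, 0, 0; 0, 0, 0, -io; 0, 0, 0, 0; 0, 0, 0, 0] := by decide +kernel

theorem io_ne : (io : F9) ≠ 0 := by decide +kernel

theorem real_sign : ∀ x : F9, x = F9.conj x → x ≠ 0 → x = 1 ∨ x = -1 := by decide +kernel

theorem re_zero : ∀ x y : F9, x + F9.conj x = 0 → y + F9.conj y = 0 → x.im = y.im → x = y := by
  decide +kernel

theorem conj_mul_nine : ∀ x y : F9, F9.conj (x * y) = F9.conj x * F9.conj y := by decide +kernel

theorem conj_conj_nine : ∀ x : F9, F9.conj (F9.conj x) = x := by decide +kernel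

theorem sign_of_mem (g : SU4) (i : Fin 10)
    (h : pr g ∈ normalizer (zpowers (sPt i) : Set PU)) :
    wm g * nb (hs i) = nb (hs i) * wm g ∨ wm g * nb (hs i) = nb (-hs i) * wm g := by
  have h1 : pr g * sPt i * (pr g)⁻¹ ∈ zpowers (sPt i) := (mem_normalizer_iff.1 h _).1 (mem_zpowers _)
  obtain ⟨k, hk⟩ := mem_zpowers_iff.1 h1
  have h3 : sPt i ^ 3 = 1 := by rw [sPt, img, ← map_pow, tr_cube, map_one]
  have hne : sPt i ≠ 1 := fun e => point_facts.2.2 i (img_inj (by rw [img_zero]; exact e))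
  rw [← zpow_mod_orderOf, orderOf_eq_prime h3 hne] at hk
  obtain h0 | h1 | h2 : k % ((3 : ℕ) : ℤ) = 0 ∨ k % ((3 : ℕ) : ℤ) = 1 ∨ k % ((3 : ℕ) : ℤ) = 2 := by omega
  · rw [h0, zpow_zero] at hk
    exact absurd (conj_eq_one_iff.1 hk.symm) hne
  · rw [h1, zpow_one] at hk
    exact Or.inl ((conj_img g _ _).1 hk.symm)
  · rw [h2, show (2 : ℤ) = ((2 : ℕ) : ℤ) from rfl, zpow_natCast] at hk
    refine Or.inr ((conj_img g _ _).1 (hk.symm.trans ?_))
    rw [img_neg]
    exact eq_inv_of_mul_eq_one_left ((pow_succ _ 2).symm.trans h3)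

/-- The entries of an element fixing both points. -/
structure Tri (M : M4) : Prop where
  a : M 0 0 * F9.conj (M 2 2) = 1
  b : M 1 1 * F9.conj (M 3 3) = 1
  real : M 2 2 * M 3 3 = F9.conj (M 2 2 * M 3 3)
  x : M 0 2 * F9.conj (M 2 2) + F9.conj (M 0 2 * F9.conj (M 2 2)) = 0
  y : M 1 3 * F9.conj (M 3 3) + F9.conj (M 1 3 * F9.conj (M 3 3)) = 0
  z : M 2 2 * F9.conj (M 0 3) + M 1 2 * F9.conj (M 3 3) = 0
  zero : M 0 1 = 0 ∧ M 1 0 = 0 ∧ M 2 0 = 0 ∧ M 2 1 = 0 ∧ M 2 3 = 0 ∧ M 3 0 = 0 ∧ M 3 1 = 0 ∧ M 3 2 = 0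

theorem column_two {M : M4} {c : F9} (hc : c ≠ 0)
    (h : M * !![0, 0, io, 0; 0, 0, 0, 0; 0, 0, 0, 0; 0, 0, 0, 0] =
      !![0, 0, c, 0; 0, 0, 0, 0; 0, 0, 0, 0; 0, 0, 0, 0] * M) :
    M 1 0 = 0 ∧ M 2 0 = 0 ∧ M 3 0 = 0 ∧ M 2 1 = 0 ∧ M 2 3 = 0 := by
  have e := fun a b => congrFun (congrFun h a) b
  have e12 := e 1 2
  have e22 := e 2 2
  have e32 := e 3 2
  have e01 := e 0 1
  have e03 := e 0 3
  simp [Matrix.mul_apply, Fin.sum_univ_four, io_ne, hc] at e12 e22 e32 e01 e03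
  exact ⟨e12, e22, e32, e01, e03⟩

theorem column_three {M : M4} {c : F9} (hc : c ≠ 0)
    (h : M * !![0, 0, 0, 0; 0, 0, 0, io; 0, 0, 0, 0; 0, 0, 0, 0] =
      !![0, 0, 0, 0; 0, 0, 0, c; 0, 0, 0, 0; 0, 0, 0, 0] * M) :
    M 0 1 = 0 ∧ M 2 1 = 0 ∧ M 3 1 = 0 ∧ M 3 0 = 0 ∧ M 3 2 = 0 := by
  have e := fun a b => congrFun (congrFun h a) b
  have e03 := e 0 3
  have e23 := e 2 3
  have e33 := e 3 3
  have e10 := e 1 0
  have e12 := e 1 2
  simp [Matrix.mul_apply, Fin.sum_univ_four, io_ne, hc] at e03 e23 e33 e10 e12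
  exact ⟨e03, e23, e33, e10, e12⟩

theorem tri_of_mem (g : SU4) (h0 : pr g ∈ normalizer (zpowers (sPt 0) : Set PU))
    (h1 : pr g ∈ normalizer (zpowers (sPt 1) : Set PU)) : Tri (wm g) := by
  obtain ⟨z10, z20, z30, z21, z23⟩ :
      wm g 1 0 = 0 ∧ wm g 2 0 = 0 ∧ wm g 3 0 = 0 ∧ wm g 2 1 = 0 ∧ wm g 2 3 = 0 := by
    rcases sign_of_mem g 0 h0 with e | e
    · rw [point_facts.1, nb_base_zero.1] at e; exact column_two io_ne e
    · rw [point_facts.1, nb_base_zero.1, nb_base_zero.2] at e; exact column_two (neg_ne_zero.2 io_ne) e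
  obtain ⟨z01, -, z31, -, z32⟩ :
      wm g 0 1 = 0 ∧ wm g 2 1 = 0 ∧ wm g 3 1 = 0 ∧ wm g 3 0 = 0 ∧ wm g 3 2 = 0 := by
    rcases sign_of_mem g 1 h1 with e | e
    · rw [point_facts.2.1, nb_base_one.1] at e; exact column_three io_ne e
    · rw [point_facts.2.1, nb_base_one.1, nb_base_one.2] at e; exact column_three (neg_ne_zero.2 io_ne) e
  have hu := fun i j => congrFun (congrFun (wm_unitary g) i) j
  have u02 := hu 0 2
  have u13 := hu 1 3
  have u22 := hu 2 2
  have u33 := hu 3 3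
  have u23 := hu 2 3
  have c0 : F9.conj 0 = 0 := by decide +kernel
  simp [Matrix.mul_apply, Fin.sum_univ_four, gram, z10, z20, z30, z21, z23, z01, z31, z32, c0]
    at u02 u13 u22 u33 u23
  have hdet : wm g 0 0 * wm g 1 1 * wm g 2 2 * wm g 3 3 = 1 := by
    have h := wm_det g
    rw [Matrix.det_of_upperTriangular, Fin.prod_univ_four] at h
    · exact h
    · intro i j hij
      fin_cases i <;> fin_cases j <;> simp_all
  refine ⟨u02, u13, ?_, ?_, ?_, ?_, z01, z10, z20, z21, z23, z30, z31, z32⟩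
  · rw [conj_mul_nine]
    calc wm g 2 2 * wm g 3 3
        = (wm g 0 0 * F9.conj (wm g 2 2)) * (wm g 1 1 * F9.conj (wm g 3 3)) * (wm g 2 2 * wm g 3 3) := by
          rw [u02, u13, one_mul, one_mul]
      _ = (wm g 0 0 * wm g 1 1 * wm g 2 2 * wm g 3 3) *
            (F9.conj (wm g 2 2) * F9.conj (wm g 3 3)) := by ring
      _ = _ := by rw [hdet, one_mul]
  · rw [conj_mul_nine, conj_conj_nine]; linear_combination u22
  · rw [conj_mul_nine, conj_conj_nine]; linear_combination u33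
  · linear_combination u23

/-- The data determining an element fixing both points. -/
noncomputable def triData (M : {M : M4 // Tri M}) :
    {e : F9 // e ≠ 0} × Bool × ZMod 3 × ZMod 3 × F9 :=
  (⟨M.1 2 2, fun h => by
      have := M.2.a
      rw [h, show F9.conj 0 = 0 by decide +kernel, mul_zero] at this
      exact zero_ne_one this⟩,
    decide (M.1 2 2 * M.1 3 3 = 1), (M.1 0 2 * F9.conj (M.1 2 2)).im,
    (M.1 1 3 * F9.conj (M.1 3 3)).im, M.1 0 3)

theorem triData_injective : Function.Injective triData := by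
  rintro ⟨M, hM⟩ ⟨N, hN⟩ h
  simp only [triData, Prod.mk.injEq, Subtype.mk.injEq] at h
  obtain ⟨he, hs, hx, hy, hz⟩ := h
  have ne3 : ∀ {P : M4}, Tri P → F9.conj (P 2 2) ≠ 0 ∧ F9.conj (P 3 3) ≠ 0 ∧ P 2 2 ≠ 0 ∧ P 3 3 ≠ 0 := by
    intro P hP
    have c0 : F9.conj 0 = 0 := by decide +kernel
    refine ⟨fun e => ?_, fun e => ?_, fun e => ?_, fun e => ?_⟩
    · have := hP.a; rw [e, mul_zero] at this; exact zero_ne_one this
    · have := hP.b; rw [e, mul_zero] at this; exact zero_ne_one this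
    · have := hP.a; rw [e, c0, mul_zero] at this; exact zero_ne_one this
    · have := hP.b; rw [e, c0, mul_zero] at this; exact zero_ne_one this
  obtain ⟨hcM, hdM, heM, hfM⟩ := ne3 hM
  obtain ⟨hcN, hdN, heN, hfN⟩ := ne3 hN
  have hsig : M 2 2 * M 3 3 = N 2 2 * N 3 3 := by
    rw [decide_eq_decide] at hs
    rcases real_sign _ hM.real (mul_ne_zero heM hfM) with e | e
    · rw [e, hs.1 e]
    · rcases real_sign _ hN.real (mul_ne_zero heN hfN) with e' | e'
      · rw [hs.2 e', e']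
      · rw [e, e']
  have h33 : M 3 3 = N 3 3 := mul_left_cancel₀ heM (by rw [hsig, he])
  have h00 : M 0 0 = N 0 0 := mul_right_cancel₀ hcM (hM.a.trans (by rw [he]; exact hN.a.symm))
  have h11 : M 1 1 = N 1 1 := mul_right_cancel₀ hdM (hM.b.trans (by rw [h33]; exact hN.b.symm))
  have h02 : M 0 2 = N 0 2 := mul_right_cancel₀ hcM (by
    rw [re_zero _ _ hM.x hN.x hx, he])
  have h13 : M 1 3 = N 1 3 := mul_right_cancel₀ hdM (by
    rw [re_zero _ _ hM.y hN.y hy, h33])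
  have h12 : M 1 2 = N 1 2 := mul_right_cancel₀ hdM (by
    have e1 := hM.z
    have e2 := hN.z
    rw [← he, ← h33, ← hz] at e2
    linear_combination e1 - e2)
  obtain ⟨a1, a2, a3, a4, a5, a6, a7, a8⟩ := hM.zero
  obtain ⟨b1, b2, b3, b4, b5, b6, b7, b8⟩ := hN.zero
  refine Subtype.ext (Matrix.ext fun i j => ?_)
  fin_cases i <;> fin_cases j <;> simp_all

theorem card_center_SU4 : Nat.card (center SU4) = 4 := by
  rw [CfsgLib.Classical.card_center_SU (by rw [F9.card_F9]; norm_num) (by norm_num)]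
  rfl

theorem pair_stab_le : Nat.card ↥(Subgroup.normalizer (Subgroup.zpowers (sPt 0) : Set PU) ⊓
    Subgroup.normalizer (Subgroup.zpowers (sPt 1) : Set PU)) ≤ 324 := by
  set N := Subgroup.normalizer (Subgroup.zpowers (sPt 0) : Set PU) ⊓
    Subgroup.normalizer (Subgroup.zpowers (sPt 1) : Set PU)
  have hK : Nat.card ↥(N.comap pr) ≤ 1296 := by
    let f : ↥(N.comap pr) → {M : M4 // Tri M} := fun g => ⟨wm g.1, tri_of_mem g.1 g.2.1 g.2.2⟩
    have hf : Function.Injective f := fun g g' e => Subtype.ext (wm_injective (congrArg Subtype.val e))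
    refine (Nat.card_le_card_of_injective (triData ∘ f) (triData_injective.comp hf)).trans (le_of_eq ?_)
    classical
    simp [Nat.card_eq_fintype_card, Fintype.card_subtype_compl, F9.card_F9]
  have h1 := Subgroup.card_mul_index (N.comap pr)
  have h2 := Subgroup.card_mul_index N
  have h3 := Subgroup.card_mul_index (center SU4)
  rw [Subgroup.index_comap_of_surjective N pr_surjective] at h1
  rw [card_center_SU4, show (center SU4).index = Nat.card PU from rfl, ← h2, ← h1] at h3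
  have hpos : 0 < N.index := Nat.pos_of_ne_zero Subgroup.index_ne_zero_of_finite
  have h4 : 4 * Nat.card N = Nat.card ↥(N.comap pr) :=
    Nat.eq_of_mul_eq_mul_right hpos (by rw [mul_assoc]; exact h3)
  omega

end CfsgLib.Characterizations.SuzType.Three.Line
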