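import Cfsg.Agent.Lib.Characterizations.SuzType.Three.LineData

/-!
# Transporting the line stabiliser data along isomorphisms
-/

set_option autoImplicit false

namespace CfsgLib.Characterizations.SuzType.Three

open Subgroup

theorem map_zpowers_normalizer {U U' : Type*} [Group U] [Group U'] (f : U ≃* U') (x : U) :
    (normalizer (zpowers x : Set U)).map f.toMonoidHom = normalizer (zpowers (f x) : Set U') := by
  rw [Subgroup.map_equiv_normalizer_eq, MonoidHom.map_zpowers]
  rfl

/-- The data transfer along an isomorphism. -/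
theorem LineData.map {U U' : Type*} [Group U] [Group U'] {t : U} {Ab : Subgroup U} {s : Fin 10 → U}
    (h : LineData t Ab s) (f : U ≃* U') : LineData (f t) (Ab.map f.toMonoidHom) (fun i => f (s i)) := by
  have hm : ∀ {a : U}, a ∈ Ab → f a ∈ Ab.map f.toMonoidHom := fun ha => ⟨_, ha, rfl⟩
  have hinv : ∀ {a : U}, f a ∈ Ab.map f.toMonoidHom → a ∈ Ab := fun {a} ha => by
    obtain ⟨b, hb, e⟩ := ha
    rwa [← f.injective e]
  have hn : ∀ {g : U}, g ∈ normalizer (Ab : Set U) → f g ∈ normalizer (Ab.map f.toMonoidHom : Set U') := by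
    intro g hg
    rw [← Subgroup.map_equiv_normalizer_eq]
    exact ⟨g, hg, rfl⟩
  refine
    { t_sq := by rw [← map_mul, h.t_sq, map_one]
      t_norm := ?_
      card_Ab := by rw [Subgroup.card_map_of_injective f.injective, h.card_Ab]
      comm := ?_
      cube := ?_
      s_mem := fun i => hm (h.s_mem i)
      s_ne := fun i e => h.s_ne i (f.injective (e.trans f.map_one.symm))
      s_line := fun i j e => h.s_line i j (e.imp (fun e => f.injective e)
        fun e => f.injective (e.trans (map_inv f _).symm))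
      t_comm := ⟨by simp only [← map_mul, h.t_comm.1], by simp only [← map_mul, h.t_comm.2]⟩
      t_fix := ?_
      cover := ?_
      conj_s := ?_
      pairs := ?_
      pair_stab := ?_
      quat := ?_
      sylow := ?_ }
  · rintro _ ⟨a, ha, rfl⟩
    exact ⟨t * a * t⁻¹, h.t_norm a ha, by simp⟩
  · rintro _ ⟨a, ha, rfl⟩ _ ⟨b, hb, rfl⟩
    show f a * f b = f b * f a
    rw [← map_mul, ← map_mul, h.comm a ha b hb]
  · rintro _ ⟨a, ha, rfl⟩
    show f a ^ 3 = 1
    rw [← map_pow, h.cube a ha, map_one]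
  · rintro _ ⟨a, ha, rfl⟩ e
    obtain ⟨m, n, e'⟩ := h.t_fix a ha (f.injective (by rw [map_mul, map_mul]; exact e))
    exact ⟨m, n, by show f a = _; rw [e', map_mul, map_pow, map_pow]⟩
  · rintro _ ⟨a, ha, rfl⟩
    obtain ⟨i, j, hij, m, n, e'⟩ := h.cover a ha
    exact ⟨i, j, hij, m, n, by show f a = _; rw [e', map_mul, map_pow, map_pow]⟩
  · intro g hg
    obtain ⟨g, rfl⟩ := f.surjective g
    rw [← map_inv, ← map_mul, ← map_mul] at hg ⊢
    obtain ⟨i, e | e⟩ := h.conj_s g (hinv hg)
    · exact ⟨i, Or.inl (by rw [e])⟩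
    · exact ⟨i, Or.inr (by rw [e, map_inv])⟩
  · intro i j hij
    obtain ⟨g, hg, h0, h1⟩ := h.pairs i j hij
    refine ⟨f g, hn hg, ?_, ?_⟩ <;> simp only [← map_inv, ← map_mul]
    · exact h0.imp (fun e => congrArg f e) fun e => congrArg f e
    · exact h1.imp (fun e => congrArg f e) fun e => congrArg f e
  · rw [← map_zpowers_normalizer f, ← map_zpowers_normalizer f, ← Subgroup.map_inf _ _ _ f.injective,
      Subgroup.card_map_of_injective f.injective]
    exact h.pair_stab
  · obtain ⟨⟨L, hL, hc⟩, L', hL', hc'⟩ := h.quat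
    refine ⟨⟨L.map f.toMonoidHom, by rw [Subgroup.card_map_of_injective f.injective, hL], ?_⟩,
      L'.map f.toMonoidHom, by rw [Subgroup.card_map_of_injective f.injective, hL'], ?_⟩
    · rintro _ ⟨c, hcm, rfl⟩
      obtain ⟨e0, e1⟩ := hc c hcm
      exact ⟨by show f c * f t = _; rw [← map_mul, e0, map_mul]; rfl,
        by show f c * f (s 0) = _; rw [← map_mul, e1, map_mul]; rfl⟩
    · rintro _ ⟨c, hcm, rfl⟩
      obtain ⟨e0, e1⟩ := hc' c hcm
      exact ⟨by show f c * f t = _; rw [← map_mul, e0, map_mul]; rfl,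
        by show f c * f (s 1) = _; rw [← map_mul, e1, map_mul]; rfl⟩
  · obtain ⟨R, hR, hRn, hcR, hdvd⟩ := h.sylow
    refine ⟨R.map f.toMonoidHom, hR.map _, ?_, ?_, ?_⟩
    · rintro _ ⟨r, hr, rfl⟩
      exact hn (hRn hr)
    · rintro _ ⟨a, ha, rfl⟩ hc
      have e := hcR a ha fun r hr => f.injective (by
        rw [map_mul, map_mul]
        exact hc _ ⟨r, hr, rfl⟩)
      rw [← MonoidHom.coe_coe, ← MonoidHom.map_zpowers]
      exact ⟨a, e, rfl⟩
    · rwa [← Subgroup.map_sup, Subgroup.card_map_of_injective f.injective]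

/-- The data transfer along an inner automorphism fixing the involution. -/
theorem LineData.conj {U : Type*} [Group U] {t : U} {Ab : Subgroup U} {s : Fin 10 → U}
    (h : LineData t Ab s) {g : U} (hg : g * t = t * g) :
    LineData t (Ab.map (MulAut.conj g).toMonoidHom) (fun i => g * s i * g⁻¹) := by
  have h' := h.map (MulAut.conj g)
  rwa [MulAut.conj_apply, mul_inv_eq_iff_eq_mul.2 hg] at h'

end CfsgLib.Characterizations.SuzType.Three
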