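import Cfsg.Agent.Lib.Characterizations.SuzType.Three.LineModel
import Cfsg.Agent.Lib.Characterizations.SuzType.Three.LineStab
import Cfsg.Agent.Lib.Characterizations.SuzType.Three.LineTransfer

/-!
# The line stabiliser data exist at every involution of a group of type `U₄(3)`
-/

set_option autoImplicit false

namespace CfsgLib.Characterizations.SuzType.Three

open CfsgLib.Chevalley.G2Two Subgroup

namespace Line

/-- The model data. -/
theorem lineData : LineData tU Ab sPt where
  t_sq := by
    show pr I * pr I = 1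
    rw [← map_mul, rels.2.2.1, map_one]
  t_norm a ha := by
    obtain ⟨h, rfl⟩ := mem_Ab.1 ha
    rw [t_conj]
    exact img_mem _
  card_Ab := card_Ab
  comm a ha b hb := by
    obtain ⟨h, rfl⟩ := mem_Ab.1 ha
    obtain ⟨k, rfl⟩ := mem_Ab.1 hb
    rw [← img_add, ← img_add, add_comm]
  cube a ha := by
    obtain ⟨h, rfl⟩ := mem_Ab.1 ha
    rw [img, ← map_pow, tr_cube, map_one]
  s_mem i := img_mem _
  s_ne i e := point_facts.2.2 i (img_inj (e.trans img_zero.symm))
  s_line i j e := point_lines i j (e.imp img_inj fun e => img_inj (e.trans (img_neg _).symm))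
  t_comm := ⟨(comm_t_iff _).2 (by decide +kernel), (comm_t_iff _).2 (by decide +kernel)⟩
  t_fix a ha e := by
    obtain ⟨h, rfl⟩ := mem_Ab.1 ha
    obtain ⟨m, n, e'⟩ := t_fixed h ((comm_t_iff h).1 e)
    exact ⟨m.val, n.val, by rw [e', img_add, img_nsmul, img_nsmul]; rfl⟩
  cover a ha := by
    obtain ⟨h, rfl⟩ := mem_Ab.1 ha
    obtain ⟨i, j, hij, m, n, e'⟩ := point_cover h
    exact ⟨i, j, hij, m.val, n.val, by rw [e', img_add, img_nsmul, img_nsmul]; rfl⟩
  conj_s g hg := conj_s g hg
  pairs i j hij := ⟨_, pair_mem i j hij, pair_move i j hij⟩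
  pair_stab := pair_stab_le
  quat := ⟨quat_zero, quat_one⟩
  sylow := ⟨RU, isPGroup_RU, u_normal, u_cent, dvd_sup⟩

theorem tU_ne : tU ≠ 1 := fun e => by
  have hc : I ∈ center SU4 := by
    have := mem_center_of_eq (u := 1) (v := I) ((map_one pr).trans e.symm)
    rwa [inv_one, one_mul] at this
  exact rels.2.2.2.1 (Subgroup.mem_center_iff.1 hc W).symm

end Line

/-- Every involution of a group isomorphic to `PSU₄(3)` with one class of involutions has line data. -/
theorem exists_lineData {U : Type*} [Group U] (K : Type) [Field K] [Fintype K] (hK : Fintype.card K = 9)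
    (f : Cfsg.PSU 4 K 3 ≃* U) (hconj : ∀ x y : U, orderOf x = 2 → orderOf y = 2 → IsConj x y)
    {t : U} (ht : orderOf t = 2) : ∃ (Ab : Subgroup U) (s : Fin 10 → U), LineData t Ab s := by
  obtain ⟨g⟩ := psu_congr (FiniteField.ringEquivOfCardEq (F9.card_F9.trans hK.symm) : F9 ≃+* K)
  have h := Line.lineData.map (g.trans f)
  have h0 : orderOf Line.tU = 2 := orderOf_eq_prime (by rw [pow_two]; exact Line.lineData.t_sq) Line.tU_ne
  obtain ⟨c, hc⟩ := isConj_iff.1 (hconj ((g.trans f) Line.tU) t ((MulEquiv.orderOf_eq _ _).trans h0) ht)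
  have h' := h.map (MulAut.conj c)
  rw [MulAut.conj_apply, hc] at h'
  exact ⟨_, _, h'⟩

end CfsgLib.Characterizations.SuzType.Three
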