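import Cfsg.Agent.Lib.Characterizations.SuzType.Three.RotE
import Cfsg.Agent.Lib.Characterizations.SuzType.Three.LineData
import Cfsg.Agent.Lib.Characterizations.SuzType.Three.CoverM11

/-!
# Lifting the line data of `C(y)/⟨y⟩` to `C(y)`, aligned with the rotations
-/

set_option autoImplicit false
set_option linter.unusedSectionVars false
set_option linter.style.haveILetI false

namespace CfsgLib.Characterizations.SuzType.Three

open Suz Subgroup

variable {G : Type*} [Group G] [Finite G]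

theorem fin3_sq : ∀ i : Fin 3, i ≠ 0 → i.val • i = 1 := by decide

/-- The preimage in `G` of a subgroup of `C(y)/⟨y⟩`. -/
def pre (y : G) (A : Subgroup (CQ y)) : Subgroup G := (A.comap (toQ y)).map (cy y).subtype

theorem coe_mem_pre {y : G} {A : Subgroup (CQ y)} (c : ↥(cy y)) : (c : G) ∈ pre y A ↔ toQ y c ∈ A :=
  ⟨fun ⟨d, hd, e⟩ => (show d = c from Subtype.ext e) ▸ hd, fun h => ⟨c, h, rfl⟩⟩

theorem pre_le {y : G} (A : Subgroup (CQ y)) : pre y A ≤ cy y := map_subtype_le _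

theorem y_mem_pre {y : G} (A : Subgroup (CQ y)) : y ∈ pre y A := by
  refine (coe_mem_pre (⟨y, mem_centralizer_singleton_iff.2 rfl⟩ : ↥(cy y))).2 ?_
  rw [toQ_eq_one.2 (mem_zpowers y)]
  exact one_mem A

theorem toQ_y {y : G} (h : y ∈ cy y) : toQ y ⟨y, h⟩ = 1 := toQ_eq_one.2 (mem_zpowers y)

theorem ker_toQ (y : G) : (toQ y).ker = yn y := QuotientGroup.ker_mk' _

theorem isPGroup_pre {y : G} (hy3 : orderOf y = 3) {A : Subgroup (CQ y)} (hA : IsPGroup 3 A) :
    IsPGroup 3 ↥(pre y A) := by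
  refine (hA.comap_of_ker_isPGroup (toQ y) ?_).map _
  rw [ker_toQ]
  exact IsPGroup.of_card (n := 1) (by
    rw [yn, Nat.card_congr (subgroupOfEquivOfLe (zpowers_le.2 (mem_centralizer_singleton_iff.2 rfl))).toEquiv,
      Nat.card_zpowers, hy3, pow_one])

theorem card_pre {y : G} (hy3 : orderOf y = 3) (A : Subgroup (CQ y)) :
    Nat.card ↥(pre y A) = 3 * Nat.card A := by
  rw [pre, card_map_of_injective (subtype_injective _)]
  let f : ↥(A.comap (toQ y)) →* ↥A := (toQ y).subgroupComap A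
  have hf : Function.Surjective f := fun u => by
    obtain ⟨c, hc⟩ := toQ_surjective y (u : CQ y)
    exact ⟨⟨c, show toQ y c ∈ A from hc ▸ u.2⟩, Subtype.ext hc⟩
  rw [← f.ker.card_mul_index, index_ker, MonoidHom.range_eq_top.2 hf, card_top]
  congr 1
  rw [← hy3, ← Nat.card_zpowers, ← card_map_of_injective
    (f := (cy y).subtype.comp (A.comap (toQ y)).subtype) (Subtype.val_injective.comp Subtype.val_injective)]
  congr 2
  ext x
  constructor
  · rintro ⟨c, hc, rfl⟩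
    exact toQ_eq_one.1 (congrArg Subtype.val (MonoidHom.mem_ker.1 hc))
  · intro hx
    have hxc : x ∈ cy y := zpowers_le.2 (mem_centralizer_singleton_iff.2 rfl) hx
    exact ⟨⟨⟨x, hxc⟩, show toQ y ⟨x, hxc⟩ ∈ A by rw [toQ_eq_one.2 hx]; exact one_mem A⟩,
      MonoidHom.mem_ker.2 (Subtype.ext (toQ_eq_one.2 hx)), rfl⟩

theorem conj_mem_pre {y : G} {A : Subgroup (CQ y)} {g : ↥(cy y)}
    (hg : toQ y g ∈ normalizer (A : Set (CQ y))) {x : G} (hx : x ∈ pre y A) :
    (g : G) * x * (g : G)⁻¹ ∈ pre y A := by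
  obtain ⟨c, hc, rfl⟩ := hx
  refine (coe_mem_pre (g * c * g⁻¹)).2 ?_
  rw [map_mul, map_mul, map_inv]
  exact (mem_normalizer_iff.1 hg _).1 hc

/-- Line data can be moved by an element centralising the involution. -/
theorem lineData_conj {U : Type*} [Group U] {t : U} {Ab : Subgroup U} {s : Fin 10 → U} (h : LineData t Ab s)
    {d : U} (hd : d * t = t * d) :
    LineData t (Ab.map (MulAut.conj d).toMonoidHom) (fun i => d * s i * d⁻¹) := by
  have ht : ∀ u, t * (d * u * d⁻¹) * t⁻¹ = d * (t * u * t⁻¹) * d⁻¹ := fun u => by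
    have h1 : d⁻¹ * t⁻¹ = t⁻¹ * d⁻¹ := by rw [← mul_inv_rev, ← mul_inv_rev, hd]
    calc t * (d * u * d⁻¹) * t⁻¹ = (t * d) * u * (d⁻¹ * t⁻¹) := by group
      _ = (d * t) * u * (t⁻¹ * d⁻¹) := by rw [hd, h1]
      _ = _ := by group
  have hcm : ∀ u, t * u = u * t → t * (d * u * d⁻¹) = d * u * d⁻¹ * t := fun u hu => by
    have := ht u
    rwa [hu, mul_inv_cancel_right, mul_inv_eq_iff_eq_mul] at this
  have hcm' : ∀ u, u * t = t * u → d * u * d⁻¹ * t = t * (d * u * d⁻¹) := fun u hu => (hcm u hu.symm).symm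
  have hN : ∀ g ∈ normalizer (Ab : Set U),
      d * g * d⁻¹ ∈ normalizer ((Ab.map (MulAut.conj d).toMonoidHom : Subgroup U) : Set U) := fun g hg => by
    rw [show ((Ab.map (MulAut.conj d).toMonoidHom : Subgroup U) : Set U) = ↑(Ab.map (MulAut.conj d).toMonoidHom) from rfl,
      ← map_equiv_normalizer_eq Ab (MulAut.conj d)]
    exact mem_map_of_mem _ hg
  have hinv : ∀ u, d * u⁻¹ * d⁻¹ = (d * u * d⁻¹)⁻¹ := fun u => by group
  have hconj : ∀ g u w, g * u * g⁻¹ = w →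
      d * g * d⁻¹ * (d * u * d⁻¹) * (d * g * d⁻¹)⁻¹ = d * w * d⁻¹ := fun g u w e => by rw [← e]; group
  have hzp : ∀ u, zpowers (d * u * d⁻¹) = (zpowers u).map (MulAut.conj d).toMonoidHom := fun u => by
    rw [MonoidHom.map_zpowers]; rfl
  refine
    { t_sq := h.t_sq
      t_norm := ?_
      card_Ab := by rw [card_map_of_injective (MulAut.conj d).injective, h.card_Ab]
      comm := ?_
      cube := ?_
      s_mem := fun i => ⟨s i, h.s_mem i, rfl⟩
      s_ne := fun i e => h.s_ne i (conj_eq_one_iff.1 e)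
      s_line := fun i j e => h.s_line i j ?_
      t_comm := ⟨hcm _ h.t_comm.1, hcm _ h.t_comm.2⟩
      t_fix := ?_
      cover := ?_
      conj_s := ?_
      pairs := ?_
      pair_stab := ?_
      quat := ?_
      sylow := ?_ }
  · rintro _ ⟨u, hu, rfl⟩
    exact ⟨t * u * t⁻¹, h.t_norm u hu, (ht u).symm⟩
  · rintro _ ⟨u, hu, rfl⟩ _ ⟨w, hw, rfl⟩
    rw [← map_mul, ← map_mul, h.comm u hu w hw]
  · rintro _ ⟨u, hu, rfl⟩
    rw [← map_pow, h.cube u hu, map_one]
  · rcases e with e | e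
    · exact Or.inl ((MulAut.conj d).injective e)
    · rw [← hinv] at e; exact Or.inr ((MulAut.conj d).injective e)
  · rintro _ ⟨u, hu, rfl⟩ hcomm
    obtain ⟨m, n, rfl⟩ := h.t_fix u hu (by
      have h1 := ht u
      change t * (d * u * d⁻¹) = d * u * d⁻¹ * t at hcomm
      rw [hcomm, mul_inv_cancel_right] at h1
      exact mul_inv_eq_iff_eq_mul.1 ((MulAut.conj d).injective h1.symm))
    exact ⟨m, n, by rw [map_mul, map_pow, map_pow]; rfl⟩
  · rintro _ ⟨u, hu, rfl⟩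
    obtain ⟨i, j, hij, m, n, rfl⟩ := h.cover u hu
    exact ⟨i, j, hij, m, n, by rw [map_mul, map_pow, map_pow]; rfl⟩
  · rintro g ⟨u, hu, hue⟩
    change d * u * d⁻¹ = g * (d * s 0 * d⁻¹) * g⁻¹ at hue
    have hu' : u = d⁻¹ * g * d * s 0 * (d⁻¹ * g * d)⁻¹ := by
      calc u = d⁻¹ * (d * u * d⁻¹) * d := by group
        _ = _ := by rw [hue]; group
    obtain ⟨i, e | e⟩ := h.conj_s _ (hu' ▸ hu)
    · exact ⟨i, Or.inl (by rw [← hue, hu', e])⟩
    · exact ⟨i, Or.inr (by rw [← hue, hu', e, hinv])⟩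
  · intro i j hij
    obtain ⟨g, hg, h0, h1⟩ := h.pairs i j hij
    refine ⟨d * g * d⁻¹, hN g hg, ?_, ?_⟩
    · rcases h0 with e | e
      · exact Or.inl (hconj _ _ _ e)
      · exact Or.inr ((hconj _ _ _ e).trans (hinv _))
    · rcases h1 with e | e
      · exact Or.inl (hconj _ _ _ e)
      · exact Or.inr ((hconj _ _ _ e).trans (hinv _))
  · rw [hzp, hzp, ← map_equiv_normalizer_eq _ (MulAut.conj d), ← map_equiv_normalizer_eq _ (MulAut.conj d),
      ← map_inf _ _ _ (MulAut.conj d).injective, card_map_of_injective (MulAut.conj d).injective]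
    exact h.pair_stab
  · constructor
    · obtain ⟨L, hL, hLc⟩ := h.quat.1
      refine ⟨L.map (MulAut.conj d).toMonoidHom, by rw [card_map_of_injective (MulAut.conj d).injective, hL], ?_⟩
      rintro _ ⟨c, hc, rfl⟩
      refine ⟨hcm' c (hLc c hc).1, ?_⟩
      show MulAut.conj d c * MulAut.conj d (s 0) = MulAut.conj d (s 0) * MulAut.conj d c
      rw [← map_mul, ← map_mul, (hLc c hc).2]
    · obtain ⟨L, hL, hLc⟩ := h.quat.2
      refine ⟨L.map (MulAut.conj d).toMonoidHom, by rw [card_map_of_injective (MulAut.conj d).injective, hL], ?_⟩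
      rintro _ ⟨c, hc, rfl⟩
      refine ⟨hcm' c (hLc c hc).1, ?_⟩
      show MulAut.conj d c * MulAut.conj d (s 1) = MulAut.conj d (s 1) * MulAut.conj d c
      rw [← map_mul, ← map_mul, (hLc c hc).2]
  · obtain ⟨R, hR, hRn, hRc, hR6⟩ := h.sylow
    refine ⟨R.map (MulAut.conj d).toMonoidHom, hR.map _, ?_, ?_, ?_⟩
    · rintro _ ⟨r, hr, rfl⟩
      exact hN r (hRn hr)
    · rintro _ ⟨u, hu, rfl⟩ hc
      show MulAut.conj d u ∈ zpowers (d * s 0 * d⁻¹)
      rw [hzp]
      refine mem_map_of_mem _ (hRc u hu fun r hr => (MulAut.conj d).injective ?_)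
      rw [map_mul, map_mul]
      exact hc _ (mem_map_of_mem _ hr)
    · rw [← Subgroup.map_sup, card_map_of_injective (MulAut.conj d).injective]
      exact hR6

/-- What the rotations give about the three axes. -/
structure Axis (z y : G) (E : Subgroup G) (a b : G) : Prop where
  le : E ≤ hc z y
  card : Nat.card E = 27
  comm : ∀ u ∈ E, ∀ v ∈ E, u * v = v * u
  exp : ∀ u ∈ E, u ^ 3 = 1
  y_mem : y ∈ E
  a_mem : a ∈ E
  b_mem : b ∈ E
  fusion : ∀ x ∈ E, IsConj y x → x ∈ zpowers y ∨ x ∈ zpowers a ∨ x ∈ zpowers b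
  move : ∃ k, k * z = z * k ∧ k ∈ normalizer (E : Set G) ∧ k * a * k⁻¹ ∈ zpowers y
  move_b : ∃ k, k * z = z * k ∧ k ∈ normalizer (E : Set G) ∧ k * b * k⁻¹ ∈ zpowers y
  inverting : ∃ s, s * y = y * s ∧ s ∈ normalizer (E : Set G) ∧ s * a * s⁻¹ = a⁻¹ ∧ s * b * s⁻¹ = b⁻¹
  a_ne : a ∉ zpowers y
  b_ne : b ∉ zpowers y
  ab_ne : b ∉ zpowers a

section

variable {z : G} {Q : Subgroup G} {π : G → V} (S : Suz z Q π) {y : G} (hy : IsStd S y)
include S hy

theorem RotE.axes {E : Subgroup G} {a b : G} (D : RotE S y E a b)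
    (hconj : ∀ u v : CQ y, orderOf u = 2 → orderOf v = 2 → IsConj u v) :
    Axis z y E a b ∧ Axis z y E b a := by
  obtain ⟨s, hs, hsE, hsa, hsb⟩ := D.exists_inverting S hy
  have hne : ∀ {r w : G}, r ∈ E → w ∈ E → ∀ {i j i' j' k' : Fin 3}, RotAct (S.act r) i j 0 →
      RotAct (S.act w) i' j' k' → r ∈ zpowers w → ∃ n : ℕ, n • i' = i ∧ n • j' = j ∧ n • k' = 0 := by
    intro r w _ hw i j i' j' k' h h' hrw
    obtain ⟨n, rfl⟩ := Submonoid.mem_powers_iff _ _ |>.1 ((isOfFinOrder_of_finite w).mem_powers_iff_mem_zpowers.2 hrw)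
    exact ⟨n, (rotAct_pow S (D.cz hw) h' n).unique h⟩
  have h1 : a ∉ zpowers y := fun h => by
    obtain ⟨n, e, -, -⟩ := hne D.a_mem D.y_mem D.a_rot (rotAct_y S hy) h
    rw [smul_zero] at e; exact zero_ne_one e
  have h2 : b ∉ zpowers y := fun h => by
    obtain ⟨n, -, e, -⟩ := hne D.b_mem D.y_mem D.b_rot (rotAct_y S hy) h
    rw [smul_zero] at e; exact zero_ne_one e
  have h3 : b ∉ zpowers a := fun h => by
    obtain ⟨n, -, e, -⟩ := hne D.b_mem D.a_mem D.b_rot D.a_rot h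
    rw [smul_zero] at e; exact zero_ne_one e
  have h4 : a ∉ zpowers b := fun h => by
    obtain ⟨n, e, -, -⟩ := hne D.a_mem D.b_mem D.a_rot D.b_rot h
    rw [smul_zero] at e; exact zero_ne_one e
  exact ⟨⟨D.le, D.card, D.comm, D.exp, D.y_mem, D.a_mem, D.b_mem, fun x => D.fusion S hy hconj, D.move_a S hy, D.move_b S hy,
      ⟨s, (mem_hc.1 hs).2, hsE, hsa, hsb⟩, h1, h2, h3⟩,
    ⟨D.le, D.card, D.comm, D.exp, D.y_mem, D.b_mem, D.a_mem,
      fun x hx h => (D.fusion S hy hconj hx h).imp_right Or.symm, D.move_b S hy, D.move_a S hy,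
      ⟨s, (mem_hc.1 hs).2, hsE, hsb, hsa⟩, h2, h1, h4⟩⟩

/-- Axes and line data in step with each other. -/
structure Aligned (E : Subgroup G) (a b : G) (Ab : Subgroup (CQ y)) (s : Fin 10 → CQ y) : Prop where
  axis : Axis z y E a b
  line : LineData (zbar S hy) Ab s
  fixed : ∀ c : ↥(cy y), (c : G) ∈ E ↔ toQ y c ∈ Ab ∧ zbar S hy * toQ y c = toQ y c * zbar S hy
  a_line : ∀ c : ↥(cy y), (c : G) = a → toQ y c ∈ zpowers (s 0)
  b_line : ∀ c : ↥(cy y), (c : G) = b → toQ y c ∈ zpowers (s 1)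

theorem card_fixed {Ab : Subgroup (CQ y)} {s : Fin 10 → CQ y} (h : LineData (zbar S hy) Ab s) :
    Nat.card ↥(Ab ⊓ centralizer ({zbar S hy} : Set (CQ y))) = 9 := by
  classical
  set W := Ab ⊓ centralizer ({zbar S hy} : Set (CQ y)) with hW
  have hs0 : s 0 ∈ W := ⟨h.s_mem 0, mem_centralizer_singleton_iff.2 h.t_comm.1.symm⟩
  have hs1 : s 1 ∈ W := ⟨h.s_mem 1, mem_centralizer_singleton_iff.2 h.t_comm.2.symm⟩
  have hord : orderOf (s 0) = 3 :=
    orderOf_eq_prime (hp := ⟨Nat.prime_three⟩) (h.cube _ (h.s_mem 0)) (h.s_ne 0)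
  have hle : Nat.card W ≤ 9 := by
    have hsurj : Function.Surjective (fun p : Fin 3 × Fin 3 =>
        (⟨s 0 ^ p.1.val * s 1 ^ p.2.val, mul_mem (pow_mem hs0 _) (pow_mem hs1 _)⟩ : ↥W)) := by
      rintro ⟨u, hu, huc⟩
      obtain ⟨m, n, rfl⟩ := h.t_fix u hu (mem_centralizer_singleton_iff.1 huc).symm
      refine ⟨(⟨m % 3, Nat.mod_lt _ (by norm_num)⟩, ⟨n % 3, Nat.mod_lt _ (by norm_num)⟩), Subtype.ext ?_⟩
      show s 0 ^ (m % 3) * s 1 ^ (n % 3) = _
      rw [← pow_eq_pow_mod m (h.cube _ (h.s_mem 0)), ← pow_eq_pow_mod n (h.cube _ (h.s_mem 1))]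
    exact (Nat.card_le_card_of_surjective _ hsurj).trans (by simp)
  have hdvd : Nat.card W ∣ 3 ^ 4 := by
    rw [show 3 ^ 4 = Nat.card Ab by rw [h.card_Ab]; norm_num]
    exact card_dvd_of_le inf_le_left
  have hlt : 3 < Nat.card W := by
    have hlt' : zpowers (s 0) < W := by
      refine lt_of_le_of_ne (zpowers_le.2 hs0) fun e => ?_
      rcases eq_or_eq_inv_of_mem hord (e ▸ hs1) (h.s_ne 1) with e' | e'
      · exact absurd (h.s_line 1 0 (Or.inl e')) (by decide)
      · exact absurd (h.s_line 1 0 (Or.inr e')) (by decide)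
    by_contra hc'
    exact hlt'.ne (eq_of_le_of_card_ge hlt'.le (by rw [Nat.card_zpowers, hord]; omega))
  obtain ⟨k, hk4, hk⟩ := (Nat.dvd_prime_pow Nat.prime_three).1 hdvd
  rw [hk] at hle hlt ⊢
  interval_cases k <;> omega

/-- Alignment of line data with a Sylow 3-subgroup of `C(z) ∩ C(y)`. -/
theorem exists_aligned (hconj : ∀ u v : CQ y, orderOf u = 2 → orderOf v = 2 → IsConj u v)
    {Ab₀ : Subgroup (CQ y)} {s₀ : Fin 10 → CQ y} (h₀ : LineData (zbar S hy) Ab₀ s₀) :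
    ∃ E a b Ab s, Aligned S hy E a b Ab s := by
  classical
  obtain ⟨E, a, b, D⟩ := exists_rotE S hy
  set W := Ab₀ ⊓ centralizer ({zbar S hy} : Set (CQ y)) with hW
  have hB : pre y W ≤ hc z y := by
    rintro x ⟨c, hc, rfl⟩
    exact mem_hc_of_commute S hy (mem_centralizer_singleton_iff.1 hc.2)
  obtain ⟨d, hd, hdE⟩ := D.conj_into S hy le_rfl hB D.le (by rw [card_pre hy.ord, card_fixed S hy h₀])
  set dc : ↥(cy y) := ⟨d, hc_le_cy hd⟩
  have hdz : toQ y dc * zbar S hy = zbar S hy * toQ y dc := by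
    rw [zbar, ← map_mul, ← map_mul]
    exact congrArg (toQ y) (Subtype.ext (mem_hc.1 hd).1)
  have h := lineData_conj h₀ hdz
  set Ab := Ab₀.map (MulAut.conj (toQ y dc)).toMonoidHom
  set s := fun i => toQ y dc * s₀ i * (toQ y dc)⁻¹
  set W' := Ab ⊓ centralizer ({zbar S hy} : Set (CQ y)) with hW'
  have hEW : pre y W' = E := by
    refine eq_of_le_of_card_ge ?_ (by rw [D.card, card_pre hy.ord, card_fixed S hy h])
    rintro x ⟨c, ⟨⟨u, hu, hue⟩, hcc⟩, rfl⟩
    change toQ y dc * u * (toQ y dc)⁻¹ = toQ y c at hue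
    have hu' : toQ y (dc⁻¹ * c * dc) = u := by rw [map_mul, map_mul, map_inv, ← hue]; group
    have hum : (((dc⁻¹ * c * dc : ↥(cy y))) : G) ∈ pre y W := (coe_mem_pre _).2 (by
      rw [hu']
      refine ⟨hu, mem_centralizer_singleton_iff.2 ?_⟩
      have hc' := mem_centralizer_singleton_iff.1 hcc
      rw [← hu', map_mul, map_mul, map_inv]
      exact (((Commute.inv_left hdz).mul_left hc').mul_left hdz).eq)
    have h2 := hdE _ hum
    simpa [dc, mul_assoc] using h2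
  have hfixed : ∀ c : ↥(cy y), (c : G) ∈ E ↔ toQ y c ∈ Ab ∧ zbar S hy * toQ y c = toQ y c * zbar S hy := by
    intro c
    rw [← hEW, coe_mem_pre, hW', mem_inf, mem_centralizer_singleton_iff]
    exact and_congr_right fun _ => eq_comm
  have ha : a ∈ cy y := hc_le_cy (D.le D.a_mem)
  have hb : b ∈ cy y := hc_le_cy (D.le D.b_mem)
  -- a transvection lies on an axis
  have key : ∀ j, zbar S hy * s j = s j * zbar S hy →
      (∃ L : Subgroup (CQ y), Nat.card L = 8 ∧ ∀ c ∈ L, c * zbar S hy = zbar S hy * c ∧ c * s j = s j * c) →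
      toQ y ⟨a, ha⟩ ∈ zpowers (s j) ∨ toQ y ⟨b, hb⟩ ∈ zpowers (s j) := by
    intro j hjt hquat
    obtain ⟨e, hej⟩ := toQ_surjective y (s j)
    have heE : (e : G) ∈ E := (hfixed e).2 ⟨hej ▸ h.s_mem j, by rw [hej]; exact hjt⟩
    obtain ⟨i₁, i₂, i₃, hrot⟩ := D.coord _ heE
    have hyk : y ^ i₃.val ∈ E := pow_mem D.y_mem _
    set w := (e : G) * (y ^ i₃.val)⁻¹ with hw
    have hwE : w ∈ E := mul_mem heE (inv_mem hyk)
    have hwr : RotAct (S.act w) i₁ i₂ 0 := by
      have hp := rotAct_pow S hy.yz (rotAct_y S hy) i₃.val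
      rw [(fin3_nsmul i₃).1, smul_zero] at hp
      have h' := RotAct.mul S (D.cz heE) (cz_inv (D.cz hyk)) hrot (RotAct.inv S (D.cz hyk) hp)
      rwa [neg_zero, add_zero, add_zero, add_neg_cancel] at h'
    set wc : ↥(cy y) := ⟨w, hc_le_cy (D.le hwE)⟩
    have hwj : toQ y wc = s j := by
      rw [← hej, show wc = e * (⟨y ^ i₃.val, hc_le_cy (D.le hyk)⟩ : ↥(cy y))⁻¹ from Subtype.ext rfl, map_mul,
        map_inv, toQ_eq_one.2 (show ((⟨y ^ i₃.val, hc_le_cy (D.le hyk)⟩ : ↥(cy y)) : G) ∈ zpowers y from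
          pow_mem (mem_zpowers y) _), inv_one, mul_one]
    by_cases h1 : i₁ = 0
    · right
      have h2 : i₂ ≠ 0 := fun h2 => h.s_ne j (by
        subst h1 h2
        rw [← hwj]
        exact toQ_eq_one.2 (by rw [show (wc : G) = w from rfl, D.uniq w hwE hwr]; exact one_mem _))
      obtain ⟨n, hn⟩ : ∃ n : ℕ, n • i₂ = 1 := ⟨i₂.val, fin3_sq i₂ h2⟩
      have hp := rotAct_pow S (D.cz hwE) hwr n
      rw [h1, hn, smul_zero] at hp
      rw [← hwj, show (⟨b, hb⟩ : ↥(cy y)) = wc ^ n from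
        Subtype.ext (D.eq_of_rot D.b_mem (pow_mem hwE n) D.b_rot hp), map_pow]
      exact pow_mem (mem_zpowers _) n
    by_cases h2 : i₂ = 0
    · left
      obtain ⟨n, hn⟩ : ∃ n : ℕ, n • i₁ = 1 := ⟨i₁.val, fin3_sq i₁ h1⟩
      have hp := rotAct_pow S (D.cz hwE) hwr n
      rw [h2, hn, smul_zero] at hp
      rw [← hwj, show (⟨a, ha⟩ : ↥(cy y)) = wc ^ n from
        Subtype.ext (D.eq_of_rot D.a_mem (pow_mem hwE n) D.a_rot hp), map_pow]
      exact pow_mem (mem_zpowers _) n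
    exfalso
    haveI : Fact (Nat.Prime 2) := ⟨Nat.prime_two⟩
    obtain ⟨L, hL8, hLc⟩ := hquat
    have hdvd : 2 ^ 3 ∣ Nat.card ↥(pre y L) := by rw [card_pre hy.ord, hL8]; norm_num
    obtain ⟨P, hP⟩ := Sylow.exists_subgroup_card_pow_prime 2 hdvd
    set T := P.map (pre y L).subtype with hT
    have hT8 : Nat.card T = 8 := by rw [hT, card_map_of_injective (subtype_injective _), hP]; norm_num
    have hTz : T ≤ hc z y := fun x hx => by
      obtain ⟨c, hc, rfl⟩ := map_subtype_le P hx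
      exact mem_hc_of_commute S hy (hLc _ hc).1
    have hTc : ∀ x ∈ T, x * w = w * x := by
      intro x hx
      obtain ⟨c, hc, rfl⟩ := map_subtype_le P hx
      have hm : toQ y (c * wc * c⁻¹ * wc⁻¹) = 1 := by
        rw [map_mul, map_mul, map_mul, map_inv, map_inv, hwj, (hLc _ hc).2, mul_inv_cancel_right, mul_inv_cancel]
      have hm' := toQ_eq_one.1 hm
      set δ := (c : G) * w * (c : G)⁻¹ * w⁻¹ with hδ
      have hδw : ∀ v : G, v * y = y * v → v * δ = δ * v := fun v hv => by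
        obtain ⟨k, hk⟩ := mem_zpowers_iff.1 (show δ ∈ zpowers y from hm')
        rw [← hk]; exact ((show Commute v y from hv).zpow_right k).eq
      have hcy : (c : G) * y = y * (c : G) := mem_centralizer_singleton_iff.1 c.2
      have hpow : ∀ n : ℕ, (c : G) ^ n * w * ((c : G) ^ n)⁻¹ = δ ^ n * w := by
        intro n
        induction n with
        | zero => simp
        | succ n ih =>
          rw [pow_succ', show (c : G) * (c : G) ^ n * w * ((c : G) * (c : G) ^ n)⁻¹ =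
            (c : G) * ((c : G) ^ n * w * ((c : G) ^ n)⁻¹) * (c : G)⁻¹ by group, ih,
            show (c : G) * (δ ^ n * w) * (c : G)⁻¹ = ((c : G) * δ ^ n) * w * (c : G)⁻¹ by group,
            ((show Commute (c : G) δ from hδw _ hcy).pow_right n).eq,
            show δ ^ n * (c : G) * w * (c : G)⁻¹ = δ ^ n * ((c : G) * w * (c : G)⁻¹ * w⁻¹) * w by group,
            ← hδ, ← pow_succ]
      have h8 := hpow 8
      have hc8 : (c : G) ^ 8 = 1 := by
        have := congrArg Subtype.val (pow_card_eq_one' (x := (⟨(c : G), hx⟩ : ↥T)))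
        rwa [hT8] at this
      rw [hc8, one_mul, inv_one, mul_one, eq_comm, mul_eq_right] at h8
      exact mul_inv_eq_iff_eq_mul.1 (mul_inv_eq_one.1 (eq_one_of_pow S hy hm' (by norm_num) h8))
    have := card_two_le S hy hTz (IsPGroup.of_card (n := 3) (by rw [hT8]; norm_num)) (D.cz hwE) h1 h2 hwr hTc
    omega
  have huniq : ∀ x : ↥(cy y), (x : G) ∉ zpowers y → toQ y x ∈ zpowers (s 0) → toQ y x ∈ zpowers (s 1) → False := by
    intro x hx h0 h1
    have hx1 : toQ y x ≠ 1 := fun e => hx (toQ_eq_one.1 e)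
    have ho : ∀ j, orderOf (s j) = 3 := fun j =>
      orderOf_eq_prime (hp := ⟨Nat.prime_three⟩) (h.cube _ (h.s_mem j)) (h.s_ne j)
    rcases eq_or_eq_inv_of_mem (ho 0) h0 hx1 with e | e <;>
      rcases eq_or_eq_inv_of_mem (ho 1) h1 hx1 with e' | e' <;> rw [e] at e'
    · exact absurd (h.s_line 0 1 (Or.inl e')) (by decide)
    · exact absurd (h.s_line 0 1 (Or.inr e')) (by decide)
    · exact absurd (h.s_line 0 1 (Or.inr (inv_eq_iff_eq_inv.1 e'))) (by decide)
    · exact absurd (h.s_line 0 1 (Or.inl (inv_injective e'))) (by decide)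
  obtain ⟨A₁, A₂⟩ := D.axes S hy hconj
  rcases key 0 h.t_comm.1 h.quat.1 with ha0 | hb0
  · refine ⟨E, a, b, Ab, s, A₁, h, hfixed, fun c hc' => ?_, fun c hc' => ?_⟩
    · rwa [show c = ⟨a, ha⟩ from Subtype.ext hc']
    · rw [show c = ⟨b, hb⟩ from Subtype.ext hc']
      exact (key 1 h.t_comm.2 h.quat.2).resolve_left fun ha1 => huniq _ A₁.a_ne ha0 ha1
  · refine ⟨E, b, a, Ab, s, A₂, h, hfixed, fun c hc' => ?_, fun c hc' => ?_⟩
    · rwa [show c = ⟨b, hb⟩ from Subtype.ext hc']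
    · rw [show c = ⟨a, ha⟩ from Subtype.ext hc']
      exact (key 1 h.t_comm.2 h.quat.2).resolve_right fun hb1 => huniq _ A₁.b_ne hb0 hb1

end

end CfsgLib.Characterizations.SuzType.Three
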