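import Cfsg.Agent.Lib.Characterizations.SuzType.Three.PSUModel

/-!
# The stabiliser of a totally isotropic line of `SU₄(3)` in a hyperbolic frame

The columns of `frame` are `p, q, p', q'` with `⟨p, q⟩` isotropic and `(p, p') = (q, q') = 1`.
-/

set_option autoImplicit false
set_option maxRecDepth 100000

namespace CfsgLib.Characterizations.SuzType.Three.Line

open Matrix CfsgLib.Chevalley.G2Two

/-- Four by four matrices over the field with nine elements. -/
abbrev M4 : Type := Matrix (Fin 4) (Fin 4) F9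

/-- The parameters: two trace-zero elements and one field element. -/
abbrev P4 : Type := Fin 4 → ZMod 3

/-- The hyperbolic frame. -/
def frame : M4 := !![1, 0, -1, 0; ep, 0, ep, 0; 0, 1, 0, -1; 0, ep, 0, ep]
/-- Its inverse. -/
def frameInv : M4 := !![-1, F9.conj ep, 0, 0; 0, 0, -1, F9.conj ep; 1, F9.conj ep, 0, 0; 0, 0, 1, F9.conj ep]
/-- The form in the frame. -/
def gram : M4 := !![0, 0, 1, 0; 0, 0, 0, 1; 1, 0, 0, 0; 0, 1, 0, 0]

theorem frame_facts : frame * frameInv = 1 ∧ frameInv * frame = 1 ∧ frame.det * frameInv.det = 1 ∧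
    frameᵀ * frame.map F9.conj = gram ∧ frameInvᵀ * gram * frameInv.map F9.conj = 1 := by
  decide +kernel

/-- Membership in the unitary group, in matrix form. -/
theorem unitary (g : SU4) :
    (g.1 : M4)ᵀ * (g.1 : M4).map F9.conj = 1 := by
  refine Matrix.ext fun i j => ?_
  have h := g.2 (Pi.single i 1) (Pi.single j 1)
  have hp : ∀ x : F9, x ^ 3 = F9.conj x := fun x => by
    rw [← F9.conj_eq x, pow_succ, pow_succ, pow_one]
  change (∑ k, ((g.1 : M4) *ᵥ Pi.single i 1) k * ((g.1 : M4) *ᵥ Pi.single j 1) k ^ 3) =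
    ∑ k, (Pi.single i 1 : Fin 4 → F9) k * (Pi.single j 1 : Fin 4 → F9) k ^ 3 at h
  simp only [mulVec_single_one, hp, Matrix.col_apply] at h
  rw [Matrix.mul_apply]
  simp only [transpose_apply, map_apply]
  rw [h, Finset.sum_eq_single i (fun k _ hk => by rw [Pi.single_eq_of_ne hk, zero_mul]) (by simp),
    Pi.single_eq_same, one_mul]
  by_cases e : i = j
  · subst e; simp
  · simp [e]

/-- The matrix of `g` in the frame. -/
def wm (g : SU4) : M4 := frameInv * (g.1 : M4) * frame

theorem wm_unitary (g : SU4) : (wm g)ᵀ * gram * (wm g).map F9.conj = gram := by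
  have h := frame_facts
  calc (wm g)ᵀ * gram * (wm g).map F9.conj
      = frameᵀ * ((g.1 : M4)ᵀ * (frameInvᵀ * gram * frameInv.map F9.conj) * (g.1 : M4).map F9.conj) *
        frame.map F9.conj := by
        simp only [wm, transpose_mul, Matrix.map_mul, Matrix.mul_assoc]
    _ = gram := by rw [h.2.2.2.2, Matrix.mul_one, unitary, Matrix.mul_one, h.2.2.2.1]

theorem wm_mul (g h : SU4) : wm (g * h) = wm g * wm h := by
  show frameInv * ((g.1 : M4) * (h.1 : M4)) * frame = _
  simp only [wm, Matrix.mul_assoc]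
  rw [← Matrix.mul_assoc frame frameInv, frame_facts.1, Matrix.one_mul]

theorem wm_one : wm 1 = 1 := by
  show frameInv * (1 : M4) * frame = 1
  rw [Matrix.mul_one, frame_facts.2.1]

theorem wm_det (g : SU4) : (wm g).det = 1 := by
  rw [wm, det_mul, det_mul, g.1.2, mul_one, mul_comm, frame_facts.2.2.1]

theorem wm_injective : Function.Injective wm := fun g h e => by
  have e' := congrArg (fun W => frame * W * frameInv) e
  simp only [wm, Matrix.mul_assoc, frame_facts.1, Matrix.mul_one] at e'
  simp only [← Matrix.mul_assoc, frame_facts.1, Matrix.one_mul] at e'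
  exact Subtype.ext (Subtype.ext e')

/-- The element with a given matrix in the frame. -/
def ofW (W : M4) (hd : W.det = 1) (hu : Wᵀ * gram * W.map F9.conj = gram) : SU4 :=
  ⟨⟨frame * W * frameInv, by rw [det_mul, det_mul, hd, mul_one, frame_facts.2.2.1]⟩, mem_su_of _ (by
    show (frame * W * frameInv)ᵀ * (frame * W * frameInv).map F9.conj = 1
    calc (frame * W * frameInv)ᵀ * (frame * W * frameInv).map F9.conj
        = frameInvᵀ * (Wᵀ * (frameᵀ * frame.map F9.conj) * W.map F9.conj) * frameInv.map F9.conj := by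
          simp only [transpose_mul, Matrix.map_mul, Matrix.mul_assoc]
      _ = 1 := by rw [frame_facts.2.2.2.1, hu, frame_facts.2.2.2.2])⟩

theorem wm_ofW (W : M4) (hd : W.det = 1) (hu : Wᵀ * gram * W.map F9.conj = gram) : wm (ofW W hd hu) = W := by
  show frameInv * (frame * W * frameInv) * frame = W
  simp only [← Matrix.mul_assoc, frame_facts.2.1, Matrix.one_mul]
  rw [Matrix.mul_assoc, frame_facts.2.1, Matrix.mul_one]

/-- The nilpotent part of a radical element. -/
def nb (h : P4) : M4 :=
  !![0, 0, ⟨0, h 0⟩, ⟨h 2, h 3⟩; 0, 0, ⟨-h 2, h 3⟩, ⟨0, h 1⟩; 0, 0, 0, 0; 0, 0, 0, 0]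

theorem nb_add (h k : P4) : nb (h + k) = nb h + nb k := by
  refine Matrix.ext fun i j => ?_
  fin_cases i <;> fin_cases j <;> ext <;> simp [nb] <;> ring

theorem nb_mul (h k : P4) : nb h * nb k = 0 := by
  refine Matrix.ext fun i j => ?_
  rw [Matrix.mul_apply, Fin.sum_univ_four]
  fin_cases i <;> fin_cases j <;> simp [nb]

theorem nb_zero : nb 0 = 0 := by decide +kernel

theorem nb_scalar : ∀ h : P4, nb h 0 2 = 0 → nb h 0 3 = 0 → nb h 1 3 = 0 → h = 0 := by decide +kernel

theorem nb_facts : ∀ h : P4, (1 + nb h).det = 1 ∧ (1 + nb h)ᵀ * gram * (1 + nb h).map F9.conj = gram := by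
  decide +kernel

/-- The radical element with parameter `h`. -/
def tr (h : P4) : SU4 := ofW (1 + nb h) (nb_facts h).1 (nb_facts h).2

theorem wm_tr (h : P4) : wm (tr h) = 1 + nb h := wm_ofW _ _ _

theorem tr_add (h k : P4) : tr (h + k) = tr h * tr k := wm_injective (by
  rw [wm_mul, wm_tr, wm_tr, wm_tr, nb_add, Matrix.add_mul, Matrix.one_mul, Matrix.mul_add, nb_mul,
    Matrix.mul_one, add_zero]
  abel)

theorem tr_zero : tr 0 = 1 := wm_injective (by rw [wm_tr, nb_zero, add_zero, wm_one])

/-- Conjugation in the radical is conjugation of the nilpotent parts. -/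
theorem conj_tr_iff (g : SU4) (h k : P4) : g * tr h * g⁻¹ = tr k ↔ wm g * nb h = nb k * wm g := by
  rw [mul_inv_eq_iff_eq_mul, ← wm_injective.eq_iff, wm_mul, wm_mul, wm_tr, wm_tr, Matrix.mul_add,
    Matrix.add_mul, Matrix.one_mul, Matrix.mul_one, add_right_inj]

/-- The parameter of the root group at the point with coordinates `c`. -/
def hsOf (c0 c1 : F9) : P4 :=
  ![(c0 * F9.conj c0).re, (c1 * F9.conj c1).re, (io * c0 * F9.conj c1).re, (io * c0 * F9.conj c1).im]

/-- The ten points of the line. -/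
def pc (i : Fin 10) : F9 × F9 :=
  if i.val = 0 then (1, 0) else if i.val = 1 then (0, 1) else (1, F9.ofNat9 (i.val - 1))

/-- The ten parameters. -/
def hs (i : Fin 10) : P4 := hsOf (pc i).1 (pc i).2

/-- The frame matrix of a unimodular transformation of the line. -/
def levi (a b c d : F9) : M4 :=
  !![a, b, 0, 0; c, d, 0, 0; 0, 0, F9.conj d, -F9.conj c; 0, 0, -F9.conj b, F9.conj a]

/-- The frame matrix moving the first two points to the points `i` and `j`. -/
def pairMat (i j : Fin 10) : M4 :=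
  let m := ((pc i).1 * (pc j).2 - (pc i).2 * (pc j).1)⁻¹
  levi (m * (pc i).1) (pc j).1 (m * (pc i).2) (pc j).2

/-- A parameter with its image under the transformation of the line. -/
def leviImg (a b c d : F9) (h : P4) : P4 :=
  let x : F9 := ⟨0, h 0⟩
  let y : F9 := ⟨h 2, h 3⟩
  let y' : F9 := ⟨-h 2, h 3⟩
  let w : F9 := ⟨0, h 1⟩
  let e00 := (a * x + b * y') * F9.conj a + (a * y + b * w) * F9.conj b
  let e11 := (c * x + d * y') * F9.conj c + (c * y + d * w) * F9.conj d
  let e01 := (a * x + b * y') * F9.conj c + (a * y + b * w) * F9.conj d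
  ![e00.im, e11.im, e01.re, e01.im]

/-- The image of a parameter under `pairMat`. -/
def pairImg (i j : Fin 10) (h : P4) : P4 :=
  let m := ((pc i).1 * (pc j).2 - (pc i).2 * (pc j).1)⁻¹
  leviImg (m * (pc i).1) (pc j).1 (m * (pc i).2) (pc j).2 h

/-- The standard basis of the parameters. -/
def base (l : Fin 4) : P4 := Pi.single l 1

theorem base_span : ∀ h : P4, h = ∑ l : Fin 4, (h l).val • base l := by decide +kernel

theorem pair_facts : ∀ i j : Fin 10, i ≠ j → (pairMat i j).det = 1 ∧
    (pairMat i j)ᵀ * gram * (pairMat i j).map F9.conj = gram := by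
  decide +kernel

theorem pair_basis : ∀ i j : Fin 10, i ≠ j → ∀ l : Fin 4,
    pairMat i j * nb (base l) = nb (pairImg i j (base l)) * pairMat i j := by
  decide +kernel

theorem pair_points : ∀ i j : Fin 10, i ≠ j →
    (pairMat i j * nb (hs 0) = nb (hs i) * pairMat i j ∨ pairMat i j * nb (hs 0) = nb (-hs i) * pairMat i j) ∧
    (pairMat i j * nb (hs 1) = nb (hs j) * pairMat i j ∨ pairMat i j * nb (hs 1) = nb (-hs j) * pairMat i j) := by
  decide +kernel

/-- The unipotent transformations fixing the first point. -/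
def uMat (l : F9) : M4 := levi 1 l 0 1

theorem u_facts : ∀ l : F9, (uMat l).det = 1 ∧ (uMat l)ᵀ * gram * (uMat l).map F9.conj = gram ∧
    uMat l * (uMat l * uMat l) = 1 ∧
    ∀ k : Fin 4, uMat l * nb (base k) = nb (leviImg 1 l 0 1 (base k)) * uMat l := by
  decide +kernel

theorem u_add (l m : F9) : uMat (l + m) = uMat l * uMat m := by
  refine Matrix.ext fun i j => ?_
  rw [Matrix.mul_apply, Fin.sum_univ_four]
  fin_cases i <;> fin_cases j <;> simp [uMat, levi] <;> ring

theorem u_fixed : ∀ h : P4, uMat 1 * nb h = nb h * uMat 1 → uMat io * nb h = nb h * uMat io →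
    h = 0 ∨ h = hs 0 ∨ h = hs 0 + hs 0 := by decide +kernel

/-- The involution in the frame. -/
def tMat : M4 := !![-1, 0, 0, 0; 0, 1, 0, 0; 0, 0, -1, 0; 0, 0, 0, 1]

/-- The action of the involution on parameters. -/
def tImg (h : P4) : P4 := ![h 0, h 1, -h 2, -h 3]

theorem t_facts : frame * tMat * frameInv = invMat ∧ frame * (1 + nb (hs 0)) * frameInv = transMat ∧
    pairMat 1 0 * tMat = -(tMat * pairMat 1 0) := by decide +kernel

theorem t_action : ∀ h : P4, tMat * nb h = nb (tImg h) * tMat := by decide +kernel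

theorem t_fixed : ∀ h : P4, tImg h = h → ∃ m n : Fin 3, h = m.val • hs 0 + n.val • hs 1 := by decide +kernel

theorem point_facts : hs 0 = base 0 ∧ hs 1 = base 1 ∧ ∀ i : Fin 10, hs i ≠ 0 := by decide +kernel

theorem point_lines : ∀ i j : Fin 10, hs i = hs j ∨ hs i = -hs j → i = j := by decide +kernel

theorem point_cover : ∀ h : P4, ∃ i j : Fin 10, i ≠ j ∧ ∃ m n : Fin 3, h = m.val • hs i + n.val • hs j := by
  decide +kernel

theorem minor_zero : ∀ h : P4, nb h 0 2 * nb h 1 3 = nb h 0 3 * nb h 1 2 → h = 0 ∨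
    ∃ i : Fin 10, h = hs i ∨ h = -hs i := by decide +kernel

end CfsgLib.Characterizations.SuzType.Three.Line
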