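import Cfsg.Agent.Lib.Characterizations.SuzType.Three.LineData
import Cfsg.Agent.Lib.Characterizations.SuzType.Three.LineMatrices
import Cfsg.Agent.Lib.Classical.HermMatrix

/-!
# The line stabiliser data in groups isomorphic to `PSU₄(3)`
-/

set_option autoImplicit false
set_option linter.unusedSectionVars false

namespace CfsgLib.Characterizations.SuzType.Three.Line

open Matrix CfsgLib.Chevalley.G2Two Subgroup

/-- The projective group. -/
abbrev PU : Type := Cfsg.PSU 4 F9 3

/-- The quotient map. -/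
def pr : SU4 →* PU := QuotientGroup.mk' _

theorem pr_surjective : Function.Surjective pr := QuotientGroup.mk'_surjective _

theorem ker_pr : pr.ker = center SU4 := QuotientGroup.ker_mk' _

/-- The centre consists of scalars. -/
theorem center_scalar {F : Type*} [Field F] [Fintype F] (hF : Fintype.card F = 3 ^ 2) {g : Cfsg.SU 4 F 3}
    (hg : g ∈ Subgroup.center (Cfsg.SU 4 F 3)) : ∃ c : F, (g.1 : Matrix (Fin 4) (Fin 4) F) = c • 1 :=
  CfsgLib.Classical.scalar_of_commute hF (by norm_num) _ fun x hx hx1 =>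
    congrArg (fun B : Cfsg.SU 4 F 3 => (B.1 : Matrix (Fin 4) (Fin 4) F))
      (Subgroup.mem_center_iff.1 hg ⟨⟨(x : Matrix (Fin 4) (Fin 4) F), congrArg Units.val hx1⟩, hx⟩).symm

theorem mem_center_of_eq {u v : SU4} (h : pr u = pr v) : u⁻¹ * v ∈ center SU4 := by
  rw [← ker_pr, MonoidHom.mem_ker, map_mul, map_inv, h, inv_mul_cancel]

theorem eq_of_central {u v : SU4} (h : u⁻¹ * v ∈ center SU4) : pr u = pr v := by
  rw [← ker_pr, MonoidHom.mem_ker, map_mul, map_inv, inv_mul_eq_one] at h
  exact h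

theorem exists_scalar {u v : SU4} (h : pr u = pr v) : ∃ x : F9, wm v = x • wm u := by
  have hc := mem_center_of_eq h
  obtain ⟨x, hx⟩ := center_scalar (F := F9) (by rw [F9.card_F9]; norm_num) hc
  refine ⟨x, ?_⟩
  have e : v = u * (u⁻¹ * v) := (mul_inv_cancel_left u v).symm
  rw [e, wm_mul]
  have hw : wm (u⁻¹ * v) = x • 1 := by
    show frameInv * ((u⁻¹ * v).1 : M4) * frame = _
    rw [hx, Matrix.mul_smul, Matrix.mul_one, Matrix.smul_mul, frame_facts.2.1]
  rw [hw, Matrix.mul_smul, Matrix.mul_one]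

theorem cube_root : ∀ x : F9, x * (x * x) = 1 → x = 1 := by decide +kernel

/-- Elements of order dividing three are determined by their images. -/
theorem lift_eq {u v : SU4} (hu : u ^ 3 = 1) (hv : v ^ 3 = 1) (h : pr u = pr v) : u = v := by
  obtain ⟨x, hx⟩ := exists_scalar h
  have h3 : ∀ w : SU4, w ^ 3 = 1 → wm w * (wm w * wm w) = 1 := fun w hw => by
    rw [← wm_mul, ← wm_mul, show w * (w * w) = w ^ 3 from by simp [pow_succ, mul_assoc], hw, wm_one]
  have e := h3 v hv
  simp only [hx, Matrix.smul_mul, Matrix.mul_smul, smul_smul, h3 u hu] at e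
  have ex : x = 1 := cube_root x (by simpa [mul_assoc] using congrFun (congrFun e 0) 0)
  exact wm_injective (by rw [hx, ex, one_smul])

theorem tr_cube (h : P4) : tr h ^ 3 = 1 := by
  rw [pow_succ, pow_two, ← tr_add, ← tr_add, show h + h + h = 0 from funext fun i => ?_, tr_zero]
  show h i + h i + h i = 0
  have h3 : ∀ x : ZMod 3, x + x + x = 0 := by decide
  exact h3 _

/-- The radical. -/
def trHom : Multiplicative P4 →* SU4 where
  toFun h := tr (Multiplicative.toAdd h)
  map_one' := tr_zero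
  map_mul' h k := tr_add _ _

/-- The radical in the projective group. -/
def Ab : Subgroup PU := (pr.comp trHom).range

/-- The image of a parameter. -/
def img (h : P4) : PU := pr (tr h)

theorem img_mem (h : P4) : img h ∈ Ab := ⟨Multiplicative.ofAdd h, rfl⟩

theorem mem_Ab {a : PU} : a ∈ Ab ↔ ∃ h, a = img h :=
  ⟨fun ⟨h, e⟩ => ⟨Multiplicative.toAdd h, e.symm⟩, fun ⟨h, e⟩ => e ▸ img_mem h⟩

theorem img_add (h k : P4) : img (h + k) = img h * img k := by rw [img, img, img, tr_add, map_mul]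

theorem img_zero : img 0 = 1 := by rw [img, tr_zero, map_one]

theorem img_neg (h : P4) : img (-h) = (img h)⁻¹ :=
  eq_inv_of_mul_eq_one_left (by rw [← img_add, neg_add_cancel, img_zero])

theorem img_nsmul (h : P4) : ∀ n : ℕ, img (n • h) = img h ^ n := by
  intro n
  induction n with
  | zero => rw [zero_smul, img_zero, pow_zero]
  | succ n ih => rw [succ_nsmul, img_add, ih, pow_succ]

theorem img_inj {h k : P4} (e : img h = img k) : h = k := by
  have e' := congrArg wm (lift_eq (tr_cube h) (tr_cube k) e)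
  rw [wm_tr, wm_tr, add_right_inj] at e'
  refine sub_eq_zero.1 (nb_scalar _ ?_ ?_ ?_)
  all_goals
    rw [sub_eq_add_neg, nb_add]
    have hn : nb (-k) = -nb k := eq_neg_of_add_eq_zero_left (by rw [← nb_add, neg_add_cancel, nb_zero])
    rw [hn, e', add_neg_cancel]
    rfl

/-- The ten root elements. -/
def sPt (i : Fin 10) : PU := img (hs i)

/-- The involution. -/
def tU : PU := pr I

theorem conj_img (g : SU4) (h k : P4) : pr g * img h * (pr g)⁻¹ = img k ↔ wm g * nb h = nb k * wm g := by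
  rw [← conj_tr_iff]
  refine ⟨fun e => lift_eq ?_ (tr_cube k) (by rw [map_mul, map_mul, map_inv]; exact e), fun e => ?_⟩
  · rw [conj_pow, tr_cube, mul_one, mul_inv_cancel]
  · rw [img, img, ← map_inv, ← map_mul, ← map_mul, e]

theorem mem_normalizer_of_basis (g : SU4) (φ : P4 → P4)
    (hb : ∀ l : Fin 4, wm g * nb (base l) = nb (φ (base l)) * wm g) : pr g ∈ normalizer (Ab : Set PU) := by
  have hmem : ∀ h, pr g * img h * (pr g)⁻¹ ∈ Ab := by
    intro h
    rw [base_span h]
    refine Finset.sum_induction _ (fun k => pr g * img k * (pr g)⁻¹ ∈ Ab) (fun a b ha hb' => ?_) ?_ fun l _ => ?_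
    · show pr g * img (a + b) * (pr g)⁻¹ ∈ Ab
      rw [img_add, ← conj_mul]
      exact mul_mem ha hb'
    · show pr g * img 0 * (pr g)⁻¹ ∈ Ab
      rw [img_zero, mul_one, mul_inv_cancel]
      exact one_mem _
    · show pr g * img ((h l).val • base l) * (pr g)⁻¹ ∈ Ab
      rw [img_nsmul, ← conj_pow, (conj_img g _ _).2 (hb l)]
      exact pow_mem (img_mem _) _
  refine Subgroup.mem_normalizer_fintype fun a ha => ?_
  obtain ⟨h, rfl⟩ := mem_Ab.1 ha
  exact hmem h

theorem wm_I : wm I = tMat := by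
  show frameInv * invMat * frame = tMat
  rw [← t_facts.1]
  simp only [← Matrix.mul_assoc, frame_facts.2.1, Matrix.one_mul]
  rw [Matrix.mul_assoc, frame_facts.2.1, Matrix.mul_one]

theorem T_eq : T = tr (hs 0) := wm_injective (by
  rw [wm_tr]
  show frameInv * transMat * frame = _
  rw [← t_facts.2.1]
  simp only [← Matrix.mul_assoc, frame_facts.2.1, Matrix.one_mul]
  rw [Matrix.mul_assoc, frame_facts.2.1, Matrix.mul_one])

theorem t_conj (h : P4) : tU * img h * tU⁻¹ = img (tImg h) :=
  (conj_img I h (tImg h)).2 (by rw [wm_I]; exact t_action h)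

theorem comm_t_iff (h : P4) : tU * img h = img h * tU ↔ tImg h = h := by
  rw [← mul_inv_eq_iff_eq_mul, t_conj]
  exact ⟨fun e => img_inj e, fun e => by rw [e]⟩

/-- The element moving the first two points to the `i`th and `j`th. -/
def pairEl (i j : Fin 10) (h : i ≠ j) : SU4 := ofW (pairMat i j) (pair_facts i j h).1 (pair_facts i j h).2

theorem wm_pairEl (i j : Fin 10) (h : i ≠ j) : wm (pairEl i j h) = pairMat i j := wm_ofW _ _ _

theorem pair_mem (i j : Fin 10) (h : i ≠ j) : pr (pairEl i j h) ∈ normalizer (Ab : Set PU) :=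
  mem_normalizer_of_basis _ (pairImg i j) fun l => by rw [wm_pairEl]; exact pair_basis i j h l

theorem pair_move (i j : Fin 10) (h : i ≠ j) :
    (pr (pairEl i j h) * sPt 0 * (pr (pairEl i j h))⁻¹ = sPt i ∨
      pr (pairEl i j h) * sPt 0 * (pr (pairEl i j h))⁻¹ = (sPt i)⁻¹) ∧
    (pr (pairEl i j h) * sPt 1 * (pr (pairEl i j h))⁻¹ = sPt j ∨
      pr (pairEl i j h) * sPt 1 * (pr (pairEl i j h))⁻¹ = (sPt j)⁻¹) := by
  simp only [sPt, ← img_neg, conj_img, wm_pairEl]
  exact pair_points i j h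

/-- The unipotent elements fixing the first point. -/
def uHom : Multiplicative F9 →* SU4 where
  toFun l := ofW (uMat (Multiplicative.toAdd l)) (u_facts _).1 (u_facts _).2.1
  map_one' := wm_injective (by rw [wm_ofW, wm_one]; decide +kernel)
  map_mul' l m := wm_injective (by rw [wm_mul, wm_ofW, wm_ofW, wm_ofW]; exact u_add _ _)

/-- Their images. -/
def RU : Subgroup PU := (pr.comp uHom).range

theorem wm_uHom (l : Multiplicative F9) : wm (uHom l) = uMat (Multiplicative.toAdd l) :=
  wm_ofW (uMat (Multiplicative.toAdd l)) (u_facts _).1 (u_facts _).2.1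

theorem uHom_cube (l : Multiplicative F9) : uHom l ^ 3 = 1 := by
  rw [← map_pow, show l ^ 3 = 1 from ?_, map_one]
  have h3 : ∀ x : F9, x + x + x = 0 := by decide
  exact Multiplicative.toAdd.injective (by
    rw [pow_succ, pow_two, toAdd_mul, toAdd_mul, toAdd_one]
    exact h3 _)

theorem conj_s (g : PU) (hg : g * sPt 0 * g⁻¹ ∈ Ab) :
    ∃ i, g * sPt 0 * g⁻¹ = sPt i ∨ g * sPt 0 * g⁻¹ = (sPt i)⁻¹ := by
  obtain ⟨g, rfl⟩ := pr_surjective g
  obtain ⟨k, hk⟩ := mem_Ab.1 hg
  have e := (conj_img g (hs 0) k).1 hk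
  have e' : nb k = wm g * nb (hs 0) * wm g⁻¹ := by
    rw [e, Matrix.mul_assoc, ← wm_mul, mul_inv_cancel, wm_one, Matrix.mul_one]
  have hk0 : k ≠ 0 := fun h0 => point_facts.2.2 0 (img_inj (k := 0) (by
    rw [h0, img_zero, conj_eq_one_iff] at hk
    rw [img_zero]
    exact hk))
  have hen : ∀ a b, nb k a b = wm g a 0 * (io * wm g⁻¹ 2 b) := fun a b => by
    rw [e']
    simp only [Matrix.mul_apply, Fin.sum_univ_four, point_facts.1]
    simp [nb, base, io, show (⟨0, 0⟩ : F9) = 0 from rfl]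
    ring
  rcases minor_zero k (by rw [hen, hen, hen, hen]; ring) with rfl | ⟨i, rfl | rfl⟩
  · exact absurd rfl hk0
  · exact ⟨i, Or.inl hk⟩
  · exact ⟨i, Or.inr (by rw [hk, img_neg]; rfl)⟩

/-- The eight elements of the quaternion group. -/
def quatSub : Subgroup SU4 where
  carrier := {x | x ∈ qList}
  one_mem' := List.mem_cons_self ..
  mul_mem' := fun ha hb => qList_facts.2.1 _ ha _ hb
  inv_mem' := fun {x} hx => by
    show x⁻¹ ∈ qList
    have h4 : ∀ y ∈ qList, ∃ w ∈ qList, y * w = 1 := by decide +kernel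
    obtain ⟨w, hw, e⟩ := h4 x hx
    rwa [inv_eq_of_mul_eq_one_right e]

theorem quat_zero : ∃ L : Subgroup PU, Nat.card L = 8 ∧ ∀ c ∈ L, c * tU = tU * c ∧ c * sPt 0 = sPt 0 * c := by
  classical
  have hinj : Function.Injective (pr.comp quatSub.subtype) := (injective_iff_map_eq_one _).2 fun x hx =>
    Subtype.ext ((qList_facts.2.2 x x.2).2.2
      ((Subgroup.mem_center_iff.1 ((QuotientGroup.eq_one_iff (x : SU4)).1 hx) W).symm))
  refine ⟨(pr.comp quatSub.subtype).range, ?_, ?_⟩
  · rw [← Nat.card_congr (MonoidHom.ofInjective hinj).toEquiv,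
      show Nat.card ↥quatSub = Nat.card {x // x ∈ qList.toFinset} from
        Nat.card_congr (Equiv.subtypeEquivRight fun x => List.mem_toFinset.symm),
      Nat.card_eq_fintype_card, Fintype.card_coe, List.toFinset_card_of_nodup qList_facts.1]
    rfl
  · rintro _ ⟨x, rfl⟩
    refine ⟨((show Commute (x : SU4) I from (qList_facts.2.2 x x.2).2.1).map pr).eq, ?_⟩
    have h := ((show Commute (x : SU4) T from (qList_facts.2.2 x x.2).1).map pr).eq
    rw [T_eq] at h
    exact h

theorem quat_one : ∃ L : Subgroup PU, Nat.card L = 8 ∧ ∀ c ∈ L, c * tU = tU * c ∧ c * sPt 1 = sPt 1 * c := by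
  obtain ⟨L, hL, hc⟩ := quat_zero
  have h10 : (1 : Fin 10) ≠ 0 := by decide
  set g := pr (pairEl 1 0 h10) with hg
  have ht : g * tU * g⁻¹ = tU := by
    rw [mul_inv_eq_iff_eq_mul, hg, tU, ← map_mul, ← map_mul]
    refine eq_of_central (Subgroup.mem_center_iff.2 fun h => wm_injective ?_)
    have e : wm ((pairEl 1 0 h10 * I)⁻¹ * (I * pairEl 1 0 h10)) = -1 := by
      have e1 : wm (I * pairEl 1 0 h10) = -wm (pairEl 1 0 h10 * I) := by
        rw [wm_mul, wm_mul, wm_I, wm_pairEl, t_facts.2.2, neg_neg]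
      rw [wm_mul, e1, Matrix.mul_neg, ← wm_mul, inv_mul_cancel, wm_one]
    rw [wm_mul h, wm_mul _ h, e, Matrix.mul_neg, Matrix.mul_one, Matrix.neg_mul, Matrix.one_mul]
  refine ⟨L.map (MulAut.conj g).toMonoidHom, ?_, ?_⟩
  · rw [Subgroup.card_map_of_injective (MulAut.conj g).injective, hL]
  · rintro _ ⟨c, hcL, rfl⟩
    obtain ⟨h1, h2⟩ := hc c hcL
    have e1 : Commute (g * c * g⁻¹) (g * tU * g⁻¹) := by
      rw [Commute, SemiconjBy, conj_mul, conj_mul, h1]
    have e2 : Commute (g * c * g⁻¹) (g * sPt 0 * g⁻¹) := by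
      rw [Commute, SemiconjBy, conj_mul, conj_mul, h2]
    rw [ht] at e1
    refine ⟨e1.eq, ?_⟩
    rcases (pair_move 1 0 h10).1 with e | e
    · rw [← hg] at e; rw [e] at e2; exact e2.eq
    · rw [← hg] at e; rw [e] at e2; have e3 := e2.inv_right; rw [inv_inv] at e3; exact e3.eq

theorem u_normal : RU ≤ normalizer (Ab : Set PU) := by
  rintro _ ⟨l, rfl⟩
  exact mem_normalizer_of_basis (uHom l) (leviImg 1 (Multiplicative.toAdd l) 0 1) fun k => by
    rw [wm_uHom]
    exact (u_facts _).2.2.2 k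

theorem isPGroup_RU : IsPGroup 3 RU := by
  rintro ⟨_, l, rfl⟩
  refine ⟨1, Subtype.ext ?_⟩
  show pr (uHom l) ^ 3 = 1
  rw [← map_pow, uHom_cube, map_one]

theorem u_cent (a : PU) (ha : a ∈ Ab) (hc : ∀ r ∈ RU, r * a = a * r) : a ∈ zpowers (sPt 0) := by
  obtain ⟨h, rfl⟩ := mem_Ab.1 ha
  have key : ∀ l : F9, uMat l * nb h = nb h * uMat l := fun l => by
    have e := hc _ ⟨Multiplicative.ofAdd l, rfl⟩
    have e' := (conj_img (uHom (Multiplicative.ofAdd l)) h h).1 (mul_inv_eq_iff_eq_mul.2 e)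
    rw [wm_uHom] at e'
    exact e'
  rcases u_fixed h (key 1) (key io) with rfl | rfl | rfl
  · rw [img_zero]; exact one_mem _
  · exact mem_zpowers _
  · rw [img_add]; exact mul_mem (mem_zpowers _) (mem_zpowers _)

theorem card_Ab : Nat.card Ab = 81 := by
  rw [show Ab = (pr.comp trHom).range from rfl, ← Nat.card_congr (MonoidHom.ofInjective
    (show Function.Injective (pr.comp trHom) from fun h k e => Multiplicative.toAdd.injective (img_inj e))).toEquiv,
    Nat.card_eq_fintype_card, Fintype.card_multiplicative]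
  rfl

theorem uMat_entries : ∀ l : F9, ∀ h : P4, uMat l 0 1 = (1 + nb h) 0 1 → l = 0 := by decide +kernel

theorem dvd_sup : 3 ^ 6 ∣ Nat.card ↥(Ab ⊔ RU) := by
  classical
  have hdisj : Disjoint Ab RU := by
    rw [disjoint_def]
    intro x hx hr
    obtain ⟨l, rfl⟩ := hr
    obtain ⟨h, hh⟩ := mem_Ab.1 hx
    have hc := uHom_cube l
    have e := congrArg wm (lift_eq hc (tr_cube h) hh)
    rw [wm_tr, wm_uHom] at e
    have hl : l = 1 := Multiplicative.toAdd.injective
      (uMat_entries _ h (congrFun (congrFun e 0) 1))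
    rw [hl, map_one]
  have hR : Nat.card RU = 9 := by
    have hinj : Function.Injective (pr.comp uHom) := (injective_iff_map_eq_one _).2 fun l hl => by
      have e := congrArg wm (lift_eq (uHom_cube l) (one_pow 3) (hl.trans (map_one pr).symm))
      rw [wm_one, wm_uHom] at e
      exact Multiplicative.toAdd.injective (uMat_entries _ 0 (by rw [e, nb_zero, add_zero]))
    rw [show RU = (pr.comp uHom).range from rfl, ← Nat.card_congr (MonoidHom.ofInjective hinj).toEquiv,
      Nat.card_eq_fintype_card, Fintype.card_multiplicative, F9.card_F9]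
  let f : ↥Ab × ↥RU → ↥(Ab ⊔ RU) := fun p => ⟨p.1 * p.2, mul_mem (le_sup_left (a := Ab) p.1.2) (le_sup_right (b := RU) p.2.2)⟩
  have hf : Function.Injective f := fun p q e => Subgroup.mul_injective_of_disjoint hdisj (congrArg Subtype.val e)
  have hp : IsPGroup 3 ↥(Ab ⊔ RU) := (IsPGroup.of_card (n := 4) (by rw [card_Ab]; norm_num)).to_sup_of_normal_left'
    isPGroup_RU u_normal
  obtain ⟨n, hn⟩ := IsPGroup.iff_card.1 hp
  have hle := Nat.card_le_card_of_injective f hf
  rw [Nat.card_prod, card_Ab, hR, hn, show 81 * 9 = 3 ^ 6 by norm_num,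
    Nat.pow_le_pow_iff_right (by norm_num)] at hle
  rw [hn]
  exact pow_dvd_pow 3 hle

end CfsgLib.Characterizations.SuzType.Three.Line
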