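import Cfsg.Agent.Lib.Characterizations.SuzType.Three.Quot
import Cfsg.Agent.Lib.Components.GenFitting
import Cfsg.Agent.Lib.Components.Quasisimple
import Cfsg.Prelude.Def_CaseTheorems
import Cfsg.Prelude.Def_Classical

/-!
# Reduction to the standard element of order three
-/

set_option autoImplicit false
set_option linter.unusedSectionVars false
set_option linter.style.haveILetI false

namespace CfsgLib.Characterizations.SuzType.Three

open Suz CfsgLib.Solvable CfsgLib.Components
open scoped commutatorElement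

/-- An additive subgroup of `V` with at least eight elements contains a singular vector. -/
theorem exists_singular (A : AddSubgroup V) (h : 8 ≤ Nat.card A) : ∃ v ∈ A, v ≠ 0 ∧ q v = 0 := by
  classical
  have hex : ∀ T : Set V, T.ncard < Nat.card A → ∃ v ∈ A, v ∉ T := fun T hT => by
    by_contra hh
    push Not at hh
    have := Set.ncard_le_ncard (s := (A : Set V)) (t := T) hh (Set.toFinite _)
    rw [← Nat.card_coe_set_eq] at this
    exact absurd this (not_le.2 hT)
  by_contra hne
  push Not at hne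
  have one : ∀ v ∈ A, v ≠ 0 → q v = 1 := fun v hv h0 => (two_cases (q v)).resolve_left (hne v hv h0)
  obtain ⟨a, ha, ha'⟩ := hex {0} (by rw [Set.ncard_singleton]; omega)
  simp only [Set.mem_singleton_iff] at ha'
  obtain ⟨b, hb, hb'⟩ := hex {0, a} (lt_of_le_of_lt (Set.ncard_insert_le _ _) (by rw [Set.ncard_singleton]; omega))
  simp only [Set.mem_insert_iff, Set.mem_singleton_iff, not_or] at hb'
  obtain ⟨c, hc, hc'⟩ := hex {0, a, b, a + b} (by
    have a1 := Set.ncard_insert_le (0 : V) {a, b, a + b}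
    have a2 := Set.ncard_insert_le a ({b, a + b} : Set V)
    have a3 := Set.ncard_insert_le b ({a + b} : Set V)
    rw [Set.ncard_singleton] at a3
    omega)
  simp only [Set.mem_insert_iff, Set.mem_singleton_iff, not_or] at hc'
  have hz : ∀ u v : V, u + v = 0 → u = v := fun u v e => by
    calc u = u + (v + v) := by rw [add_self_V, add_zero]
      _ = v := by rw [← add_assoc, e, zero_add]
  have hB : ∀ u v : V, u ∈ A → v ∈ A → u ≠ 0 → v ≠ 0 → u ≠ v → B u v = 1 := fun u v hu hv hu0 hv0 huv => by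
    have e := one _ (add_mem hu hv) (fun e => huv (hz _ _ e))
    rw [q_add, one u hu hu0, one v hv hv0] at e
    exact (by decide : ∀ x : ZMod 2, 1 + 1 + x = 1 → x = 1) _ e
  have e := one _ (add_mem (add_mem ha hb) hc) (fun e => hc'.2.2.2 (hz _ _ e).symm)
  rw [q_add, q_add, B_add_left, one a ha ha', one b hb hb'.1, one c hc hc'.1,
    hB a b ha hb ha' hb'.1 (Ne.symm hb'.2), hB a c ha hc ha' hc'.1 (Ne.symm hc'.2.1),
    hB b c hb hc hb'.1 hc'.1 (Ne.symm hc'.2.2.1)] at e
  exact absurd e (by decide)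

theorem mem_zpowers_conj {G : Type*} [Group G] {y n : G} (h : n * y * n⁻¹ = y⁻¹) :
    n ∈ Subgroup.normalizer (Subgroup.zpowers y : Set G) := by
  rw [Subgroup.mem_normalizer_iff_map_conj_eq, MonoidHom.map_zpowers]
  show Subgroup.zpowers (n * y * n⁻¹) = _
  rw [h, Subgroup.zpowers_inv]

variable {G : Type*} [Group G] [Finite G] {z : G} {Q : Subgroup G} {π : G → V} (S : Suz z Q π)
include S

/-- The configuration with coordinates pulled back along an element of `C(z)`. -/
theorem suz_conj {k : G} (hk : k * z = z * k) : Suz z Q fun x => π (k * x * k⁻¹) := by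
  have hN := S.norm k hk
  have hN' : ∀ v ∈ Q, k⁻¹ * v * k ∈ Q := fun v hv => by
    simpa using S.norm k⁻¹ (Commute.inv_left hk).eq v hv
  refine
    { extra := S.extra, norm := S.norm, cent_le := S.cent_le, card_cent := S.card_cent, π_mul := ?_,
      π_surj := ?_, π_ker := ?_, q_iff := ?_, act_id := ?_, fused := S.fused, into := S.into }
  · intro a ha b hb
    rw [show k * (a * b) * k⁻¹ = (k * a * k⁻¹) * (k * b * k⁻¹) by group]
    exact S.π_mul _ (hN a ha) _ (hN b hb)
  · intro v
    obtain ⟨x, hx, rfl⟩ := S.π_surj v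
    exact ⟨k⁻¹ * x * k, hN' x hx, congrArg π (by group)⟩
  · intro x hx
    have hzk : k⁻¹ * z * k = z := by rw [mul_assoc, ← hk, inv_mul_cancel_left]
    rw [S.π_ker _ (hN x hx), conj_eq_one_iff]
    refine or_congr_right ⟨fun e => ?_, fun e => by rw [e, hk, mul_inv_cancel_right]⟩
    rw [← hzk, ← e]; group
  · intro x hx
    rw [S.q_iff _ (hN x hx), show k * x * k⁻¹ * (k * x * k⁻¹) = k * (x * x) * k⁻¹ by group, conj_eq_one_iff]
  · intro c hc h
    have hki : k⁻¹ * z = z * k⁻¹ := (Commute.inv_left hk).eq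
    have hc' := S.act_id (k * c * k⁻¹) (cz_mul (cz_mul hk hc) hki) fun x hx => by
      have := h _ (hN' x hx)
      rw [show k * (k⁻¹ * x * k) * k⁻¹ = x by group] at this
      rw [← this]
      exact congrArg π (by group)
    have := hN' _ hc'
    rwa [show k⁻¹ * (k * c * k⁻¹) * k = c by group] at this

/-- An element with the hypothesis of the statement is standard for suitable coordinates. -/
theorem exists_std_of_small {c : G} (hc : c * z = z * c) (hco : orderOf c = 3) {M : Subgroup G}
    (hM : ∀ x ∈ Q, c * x * c⁻¹ * x⁻¹ ∈ M) (hMc : Nat.card M ≤ 8) :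
    ∃ (π' : G → V) (S' : Suz z Q π') (y : G), IsStd S' y ∧ Subgroup.zpowers y = Subgroup.zpowers c := by
  classical
  have hi := S.act_iso hc
  let L : V →+ V := AddMonoidHom.mk' (fun v => S.act c v + v) fun a b => by
    show S.act c (a + b) + (a + b) = _
    rw [hi.add]; abel
  have hr : Nat.card L.range ≤ 8 := by
    have hsub : (L.range : Set V) ⊆ π '' (M : Set G) := by
      rintro _ ⟨v, rfl⟩
      obtain ⟨x, hx, rfl⟩ := S.π_surj v
      refine ⟨_, hM x hx, ?_⟩
      show _ = S.act c (π x) + π x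
      rw [S.π_mul _ (S.norm c hc x hx) _ (inv_mem hx), S.π_inv hx, S.act_π hc hx]
    have h1 := (Set.ncard_le_ncard hsub (Set.toFinite _)).trans (Set.ncard_image_le (Set.toFinite _))
    rw [← Nat.card_coe_set_eq, ← Nat.card_coe_set_eq] at h1
    exact le_trans h1 hMc
  have hk : 8 ≤ Nat.card L.ker := by
    have h := L.ker.card_mul_index
    rw [AddSubgroup.index_ker, Nat.card_fun, Nat.card_zmod, Nat.card_fin] at h
    nlinarith
  obtain ⟨v, hv, hv0, hvq⟩ := exists_singular L.ker hk
  have hfix : S.act c v = v := by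
    have e : S.act c v + v = 0 := hv
    calc S.act c v = S.act c v + (v + v) := by rw [add_self_V, add_zero]
      _ = v := by rw [← add_assoc, e, zero_add]
  obtain ⟨y, hy⟩ := exists_std S
  obtain ⟨k, hk, hke⟩ := conj_std S hy hco hc hv0 hvq hfix
  obtain ⟨d, hdk, hdz⟩ : ∃ d, k * d * k⁻¹ = y ∧ Subgroup.zpowers d = Subgroup.zpowers c := by
    rcases hke with e | e
    · exact ⟨c, e, rfl⟩
    · exact ⟨c⁻¹, by rw [show k * c⁻¹ * k⁻¹ = (k * c * k⁻¹)⁻¹ by group, e, inv_inv], Subgroup.zpowers_inv⟩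
  have hd : d * z = z * d := by
    have : d ∈ Subgroup.centralizer ({z} : Set G) :=
      Subgroup.zpowers_le.2 (Subgroup.mem_centralizer_singleton_iff.2 hc) (hdz ▸ Subgroup.mem_zpowers d)
    exact Subgroup.mem_centralizer_singleton_iff.1 this
  have hord : orderOf d = 3 := by rw [← Nat.card_zpowers, hdz, Nat.card_zpowers, hco]
  refine ⟨_, suz_conj S hk, d, ⟨hord, hd, fun w => ?_⟩, hdz⟩
  obtain ⟨x, hx, rfl⟩ := (suz_conj S hk).π_surj w
  rw [(suz_conj S hk).act_π hd hx, ← hy.act, S.act_π hy.yz (S.norm k hk x hx), ← hdk]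
  exact congrArg π (by group)

variable {y : G} (hy : IsStd S y)
include hy

/-- `C(y)` has index two in `N(⟨y⟩)`. -/
theorem relIndex_two : (cy y).relIndex (Subgroup.normalizer (Subgroup.zpowers y : Set G)) = 2 := by
  obtain ⟨n, -, -, hn⟩ := exists_inverter S hy
  rw [Subgroup.relIndex, Subgroup.index_eq_two_iff]
  have hnm := mem_zpowers_conj hn
  refine ⟨⟨n, hnm⟩, fun g => ?_⟩
  have hg : (g : G) * y * (g : G)⁻¹ ∈ Subgroup.zpowers y :=
    (Subgroup.mem_normalizer_iff.1 g.2 y).1 (Subgroup.mem_zpowers y)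
  have hne : y⁻¹ ≠ y := fun e => by
    have h1 : y * y = 1 := by
      calc y * y = y⁻¹ * y := by rw [e]
        _ = 1 := inv_mul_cancel y
    have h2 := orderOf_dvd_of_pow_eq_one (show y ^ 2 = 1 by rw [pow_two, h1])
    rw [hy.ord] at h2
    norm_num at h2
  have key : ∀ x : G, x ∈ cy y ↔ x * y * x⁻¹ = y := fun x => by
    rw [Subgroup.mem_centralizer_singleton_iff, mul_inv_eq_iff_eq_mul]
  simp only [Subgroup.mem_subgroupOf, Subgroup.coe_mul, key]
  rw [show (g : G) * n * y * ((g : G) * n)⁻¹ = (g : G) * (n * y * n⁻¹) * (g : G)⁻¹ by group, hn,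
    show (g : G) * y⁻¹ * (g : G)⁻¹ = ((g : G) * y * (g : G)⁻¹)⁻¹ by group, inv_eq_iff_eq_inv]
  have hy2 : y * y = y⁻¹ := (inv_eq_of_mul_eq_one_right (by rw [← y3 S hy]; simp [pow_succ, mul_assoc])).symm
  rcases zpowers_cases S hy hg with e | e | e
  · rw [conj_eq_one_iff] at e
    rw [e] at hne
    exact absurd inv_one hne
  · exact Or.inr ⟨e, fun e' => hne (e'.symm.trans e)⟩
  · exact Or.inl ⟨e.trans hy2, fun e' => hne ((e.trans hy2).symm.trans e')⟩

theorem centralizer_zpowers_eq : Subgroup.centralizer (Subgroup.zpowers y : Set G) = cy y := by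
  rw [Subgroup.zpowers_eq_closure, Subgroup.centralizer_closure]

/-- The conclusion for a standard element. -/
theorem conclusion (K : Type) [Field K] [Fintype K] (hq : Cfsg.IsQuasisimple ↥(cy y))
    (hiso : Nonempty (CQ y ≃* Cfsg.PSU 4 K 3)) (W : Subgroup G) (hW : W = Subgroup.zpowers y)
    [(W.subgroupOf (Subgroup.centralizer (W : Set G))).Normal] :
    Cfsg.IsQuasisimple ↥(Subgroup.centralizer (W : Set G)) ∧
    Nonempty (↥(Subgroup.centralizer (W : Set G)) ⧸ W.subgroupOf (Subgroup.centralizer (W : Set G)) ≃*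
      Cfsg.PSU 4 K 3) ∧
    (Subgroup.centralizer (W : Set G)).relIndex (Subgroup.normalizer (W : Set G)) = 2 := by
  have hC : Subgroup.centralizer (W : Set G) = cy y := by rw [hW]; exact centralizer_zpowers_eq S hy
  let e := MulEquiv.subgroupCongr hC
  refine ⟨IsQuasisimple.of_mulEquiv hq e.symm, ?_, ?_⟩
  · obtain ⟨f⟩ := hiso
    refine ⟨(QuotientGroup.congr _ (yn y) e ?_).trans f⟩
    ext x
    constructor
    · rintro ⟨w, hw, rfl⟩
      have hw' : (w : G) ∈ W := hw
      exact Subgroup.mem_subgroupOf.2 ((congrArg (fun H : Subgroup G => (w : G) ∈ H) hW).mp hw')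
    · intro hx
      have hx' : (x : G) ∈ W := by rw [hW]; exact hx
      exact ⟨e.symm x, hx', e.apply_symm_apply x⟩
  · rw [hC, hW]; exact relIndex_two S hy

end CfsgLib.Characterizations.SuzType.Three
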