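import Cfsg.Agent.Lib.Chevalley.G2Two.F9
import Cfsg.Agent.Lib.Chevalley.G2Two.Transfer
import Cfsg.Prelude.Def_Classical

/-!
# A transvection of `PSU₄(3)` inside the commutator of its centraliser

Explicit matrices over the field with nine elements.
-/

set_option autoImplicit false

namespace CfsgLib.Characterizations.SuzType.Three

open Matrix CfsgLib.Chevalley.G2Two Subgroup
open scoped commutatorElement

/-- A matrix over `F9` with `Mᵀ conj(M) = 1` preserves the form. -/
theorem mem_su_of (M : Matrix.SpecialLinearGroup (Fin 4) F9)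
    (h : (M : Matrix (Fin 4) (Fin 4) F9)ᵀ * (M : Matrix (Fin 4) (Fin 4) F9).map F9.conj = 1) :
    M ∈ Cfsg.SU 4 F9 3 := by
  intro u v
  have hc : ∀ x : F9, x ^ 3 = F9.conj x := fun x => by
    rw [← F9.conj_eq x, pow_succ, pow_succ, pow_one]
  show ∑ i, ((M : Matrix (Fin 4) (Fin 4) F9) *ᵥ u) i * ((M : Matrix (Fin 4) (Fin 4) F9) *ᵥ v) i ^ 3 =
    ∑ i, u i * v i ^ 3
  simp only [hc, RingHom.map_mulVec]
  show _ ⬝ᵥ _ = u ⬝ᵥ fun i => F9.conj (v i)
  rw [← vecMul_transpose, ← dotProduct_mulVec, mulVec_mulVec, h, one_mulVec]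
  rfl

/-- A square root of minus one. -/
def io : F9 := ⟨0, 1⟩
/-- An element of order eight. -/
def ep : F9 := ⟨1, 1⟩
/-- The isotropic vector. -/
def eV : Fin 4 → F9 := ![1, ep, 0, 0]
/-- The first unit vector orthogonal to it. -/
def v1 : Fin 4 → F9 := ![0, 0, 1, 0]
/-- A multiple of it. -/
def v2 : Fin 4 → F9 := ![0, 0, io, 0]

/-- A Siegel transformation. -/
def siegelMat (v : Fin 4 → F9) : Matrix (Fin 4) (Fin 4) F9 :=
  Matrix.of fun i j => (if i = j then 1 else 0) + eV i * F9.conj (v j) - v i * F9.conj (eV j) +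
    eV i * F9.conj (eV j)

/-- The transvection. -/
def transMat : Matrix (Fin 4) (Fin 4) F9 :=
  Matrix.of fun i j => (if i = j then 1 else 0) + io * eV i * F9.conj (eV j)

/-- The element of order two. -/
def invMat : Matrix (Fin 4) (Fin 4) F9 := !![-1, 0, 0, 0; 0, -1, 0, 0; 0, 0, 1, 0; 0, 0, 0, 1]
/-- The first generator of the quaternion group. -/
def aMat : Matrix (Fin 4) (Fin 4) F9 := !![1, 0, 0, 0; 0, 1, 0, 0; 0, 0, io, 0; 0, 0, 0, -io]
/-- The second one. -/
def bMat : Matrix (Fin 4) (Fin 4) F9 := !![1, 0, 0, 0; 0, 1, 0, 0; 0, 0, 0, 1; 0, 0, -1, 0]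
/-- A witness against centrality. -/
def wMat : Matrix (Fin 4) (Fin 4) F9 := !![0, 0, 1, 0; 0, 0, 0, 1; 1, 0, 0, 0; 0, 1, 0, 0]

/-- The special unitary group. -/
abbrev SU4 : Type := ↥(Cfsg.SU 4 F9 3)

set_option maxRecDepth 100000 in
theorem dets : transMat.det = 1 ∧ invMat.det = 1 ∧ aMat.det = 1 ∧ bMat.det = 1 ∧ wMat.det = 1 ∧
    (siegelMat v1).det = 1 ∧ (siegelMat v2).det = 1 := by decide +kernel

set_option maxRecDepth 100000 in
theorem units' : transMatᵀ * transMat.map F9.conj = 1 ∧ invMatᵀ * invMat.map F9.conj = 1 ∧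
    aMatᵀ * aMat.map F9.conj = 1 ∧ bMatᵀ * bMat.map F9.conj = 1 ∧ wMatᵀ * wMat.map F9.conj = 1 ∧
    (siegelMat v1)ᵀ * (siegelMat v1).map F9.conj = 1 ∧
    (siegelMat v2)ᵀ * (siegelMat v2).map F9.conj = 1 := by decide +kernel

/-- The transvection in `SU₄`. -/
def T : SU4 := ⟨⟨transMat, dets.1⟩, mem_su_of _ units'.1⟩
/-- The involution. -/
def I : SU4 := ⟨⟨invMat, dets.2.1⟩, mem_su_of _ units'.2.1⟩
/-- The first quaternion generator. -/
def A : SU4 := ⟨⟨aMat, dets.2.2.1⟩, mem_su_of _ units'.2.2.1⟩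
/-- The second one. -/
def B : SU4 := ⟨⟨bMat, dets.2.2.2.1⟩, mem_su_of _ units'.2.2.2.1⟩
/-- The witness. -/
def W : SU4 := ⟨⟨wMat, dets.2.2.2.2.1⟩, mem_su_of _ units'.2.2.2.2.1⟩
/-- The first Siegel element. -/
def S1 : SU4 := ⟨⟨siegelMat v1, dets.2.2.2.2.2.1⟩, mem_su_of _ units'.2.2.2.2.2.1⟩
/-- The second one. -/
def S2 : SU4 := ⟨⟨siegelMat v2, dets.2.2.2.2.2.2⟩, mem_su_of _ units'.2.2.2.2.2.2⟩

/-- The eight elements of the quaternion group. -/
def qList : List SU4 := [1, A, A * A, A * A * A, B, A * B, A * A * B, A * A * A * B]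

set_option maxRecDepth 100000 in
theorem qList_facts : qList.Nodup ∧ (∀ x ∈ qList, ∀ y ∈ qList, x * y ∈ qList) ∧
    (∀ x ∈ qList, x * T = T * x ∧ x * I = I * x ∧ (x * W = W * x → x = 1)) := by decide +kernel

set_option maxRecDepth 100000 in
theorem rels : T * T * T = 1 ∧ T * W ≠ W * T ∧ I * I = 1 ∧ I * W ≠ W * I ∧ T * I = I * T ∧
    S1 * T = T * S1 ∧ S2 * T = T * S2 ∧ (S1 * S2 = T * (S2 * S1) ∨ S1 * S2 = T * T * (S2 * S1)) := by
  decide +kernel

/-- Projective special unitary groups over isomorphic fields. -/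
theorem psu_congr {F : Type} [Field F] (e : F9 ≃+* F) :
    Nonempty (Cfsg.PSU 4 F9 3 ≃* Cfsg.PSU 4 F 3) := by
  refine ⟨QuotientGroup.congr (Subgroup.center _) (Subgroup.center _) (suCongr e 4 3) ?_⟩
  ext x
  simp only [Subgroup.mem_map, Subgroup.mem_center_iff]
  refine ⟨?_, fun h => ⟨(suCongr e 4 3).symm x, fun g => (suCongr e 4 3).injective ?_,
    (suCongr e 4 3).apply_symm_apply x⟩⟩
  · rintro ⟨y, hy, rfl⟩ g
    obtain ⟨g, rfl⟩ := (suCongr e 4 3).surjective g
    exact (map_mul (suCongr e 4 3) g y).symm.trans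
      ((congrArg (suCongr e 4 3) (hy g)).trans (map_mul (suCongr e 4 3) y g))
  · rw [map_mul, map_mul, (suCongr e 4 3).apply_symm_apply]
    exact h _

/-- The image of `H` under an isomorphism of groups lies in a centraliser. -/
theorem map_cent {P P' : Type*} [Group P] [Group P'] (f : P ≃* P') (x : P) :
    (centralizer ({x} : Set P)).map f.toMonoidHom = centralizer ({f x} : Set P') := by
  ext y
  obtain ⟨y, rfl⟩ := f.surjective y
  rw [Subgroup.mem_map_equiv, f.symm_apply_apply, mem_centralizer_singleton_iff,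
    mem_centralizer_singleton_iff]
  exact ⟨fun h => by rw [← map_mul, ← map_mul, h],
    fun h => f.injective (by rw [map_mul, map_mul, h])⟩

/-- The general form of the argument. -/
theorem of_relations {S : Type*} [Group S] [Finite S] {T I W S1 S2 : S} {L : List S}
    (hone : 1 ∈ L) (hlen : L.length = 8) (hnd : L.Nodup) (hmul : ∀ x ∈ L, ∀ y ∈ L, x * y ∈ L)
    (hq : ∀ x ∈ L, x * T = T * x ∧ x * I = I * x ∧ (x * W = W * x → x = 1))
    (hT3 : T * T * T = 1) (hTW : T * W ≠ W * T) (hI2 : I * I = 1) (hIW : I * W ≠ W * I)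
    (hTI : T * I = I * T) (hS1 : S1 * T = T * S1) (hS2 : S2 * T = T * S2)
    (hcomm : S1 * S2 = T * (S2 * S1) ∨ S1 * S2 = T * T * (S2 * S1)) :
    ∃ t i : S ⧸ Subgroup.center S, orderOf t = 3 ∧ orderOf i = 2 ∧ Commute t i ∧
      8 ∣ Nat.card ↥(centralizer ({t} : Set (S ⧸ Subgroup.center S)) ⊓ centralizer ({i} : Set _)) ∧
      t ∈ ⁅centralizer ({t} : Set (S ⧸ Subgroup.center S)), centralizer ({t} : Set _)⁆ := by
  classical
  let π := QuotientGroup.mk' (Subgroup.center S)
  have hne : ∀ x : S, π x = 1 → x * W = W * x := fun x hx =>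
    (Subgroup.mem_center_iff.1 ((QuotientGroup.eq_one_iff x).1 hx) W).symm
  refine ⟨π T, π I, ?_, ?_, (show Commute T I from hTI).map π, ?_, ?_⟩
  · haveI : Fact (Nat.Prime 3) := ⟨Nat.prime_three⟩
    refine orderOf_eq_prime ?_ fun e => hTW (hne T e)
    rw [← map_pow, pow_succ, pow_succ, pow_one, hT3, map_one]
  · refine orderOf_eq_prime ?_ fun e => hIW (hne I e)
    rw [← map_pow, pow_two, hI2, map_one]
  · have hp : ∀ x ∈ L, ∀ n : ℕ, x ^ n ∈ L := by
      intro x hx n
      induction n with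
      | zero => rwa [pow_zero]
      | succ n ih => rw [pow_succ]; exact hmul _ ih _ hx
    let Hq : Subgroup S :=
      { carrier := {x | x ∈ L}
        one_mem' := hone
        mul_mem' := fun ha hb => hmul _ ha _ hb
        inv_mem' := fun {x} hx => by
          obtain ⟨n, hn, hn1⟩ := (isOfFinOrder_of_finite x).exists_pow_eq_one
          have : x⁻¹ = x ^ (n - 1) := inv_eq_of_mul_eq_one_left (by
            rw [← pow_succ, Nat.sub_add_cancel hn, hn1])
          show x⁻¹ ∈ L
          rw [this]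
          exact hp x hx _ }
    let f : ↥Hq →* S ⧸ Subgroup.center S := π.comp Hq.subtype
    have hf : Function.Injective f := (injective_iff_map_eq_one f).2 fun x hx =>
      Subtype.ext ((hq x x.2).2.2 (hne _ hx))
    have hle : f.range ≤ centralizer ({π T} : Set _) ⊓ centralizer ({π I} : Set _) := by
      rintro _ ⟨x, rfl⟩
      exact ⟨mem_centralizer_singleton_iff.2 ((show Commute (x : S) T from (hq x x.2).1).map π).eq,
        mem_centralizer_singleton_iff.2 ((show Commute (x : S) I from (hq x x.2).2.1).map π).eq⟩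
    have h8 : Nat.card ↥Hq = 8 := by
      rw [show Nat.card ↥Hq = Nat.card {x // x ∈ L.toFinset} from
        Nat.card_congr (Equiv.subtypeEquivRight fun x => List.mem_toFinset.symm),
        Nat.card_eq_fintype_card, Fintype.card_coe, List.toFinset_card_of_nodup hnd, hlen]
    rw [← h8, Nat.card_congr (MonoidHom.ofInjective hf).toEquiv]
    exact Subgroup.card_dvd_of_le hle
  · have h1 : π S1 ∈ centralizer ({π T} : Set _) :=
      mem_centralizer_singleton_iff.2 ((show Commute S1 T from hS1).map π).eq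
    have h2 : π S2 ∈ centralizer ({π T} : Set _) :=
      mem_centralizer_singleton_iff.2 ((show Commute S2 T from hS2).map π).eq
    have h := Subgroup.commutator_mem_commutator h1 h2
    have hc : ∀ X : S, S1 * S2 = X * (S2 * S1) → ⁅π S1, π S2⁆ = π X := fun X hX => by
      rw [← map_commutatorElement, commutatorElement_def, hX]
      congr 1
      group
    rcases hcomm with e | e <;> rw [hc _ e] at h
    · exact h
    · have := mul_mem h h
      rwa [← map_mul, show T * T * (T * T) = T * T * T * T by group, hT3, one_mul] at this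

theorem transvection_F9 : ∃ t i : Cfsg.PSU 4 F9 3, orderOf t = 3 ∧ orderOf i = 2 ∧ Commute t i ∧
    8 ∣ Nat.card ↥(centralizer ({t} : Set (Cfsg.PSU 4 F9 3)) ⊓ centralizer ({i} : Set _)) ∧
    t ∈ ⁅centralizer ({t} : Set (Cfsg.PSU 4 F9 3)), centralizer ({t} : Set _)⁆ :=
  of_relations (S := SU4) (L := qList) (List.mem_cons_self ..) rfl qList_facts.1 qList_facts.2.1
    qList_facts.2.2 rels.1 rels.2.1 rels.2.2.1 rels.2.2.2.1 rels.2.2.2.2.1 rels.2.2.2.2.2.1
    rels.2.2.2.2.2.2.1 rels.2.2.2.2.2.2.2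

theorem psu_transvection (K : Type) [Field K] [Fintype K] (hK : Fintype.card K = 9) :
    ∃ t i : Cfsg.PSU 4 K 3, orderOf t = 3 ∧ orderOf i = 2 ∧ Commute t i ∧
      8 ∣ Nat.card ↥(centralizer ({t} : Set (Cfsg.PSU 4 K 3)) ⊓ centralizer ({i} : Set _)) ∧
      t ∈ ⁅centralizer ({t} : Set (Cfsg.PSU 4 K 3)), centralizer ({t} : Set _)⁆ := by
  obtain ⟨f⟩ := psu_congr (FiniteField.ringEquivOfCardEq (F9.card_F9.trans hK.symm) : F9 ≃+* K)
  obtain ⟨t, i, ht, hi, hti, h8, hc⟩ := transvection_F9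
  refine ⟨f t, f i, (MulEquiv.orderOf_eq f t).trans ht, (MulEquiv.orderOf_eq f i).trans hi,
    hti.map f.toMonoidHom, ?_, ?_⟩
  · rw [← map_cent, ← map_cent, ← Subgroup.map_inf _ _ _ f.injective,
      Subgroup.card_map_of_injective f.injective]
    exact h8
  · rw [← map_cent, ← Subgroup.map_commutator]
    exact ⟨t, hc, rfl⟩

end CfsgLib.Characterizations.SuzType.Three
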