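import Cfsg.Agent.Lib.Characterizations.SuzType.Three.Quot
import Cfsg.Agent.Lib.Characterizations.SuzType.Three.PSUModel
import Cfsg.Agent.S0283

/-!
# `C(y)` is quasisimple

If the derived subgroup of `C(y)` missed `y`, a transvection of `C(y)/⟨y⟩` would lift to an element whose
conjugate is `y` and which lies in the derived subgroup of its centralizer.
-/

set_option autoImplicit false
set_option linter.unusedSectionVars false
set_option linter.style.haveILetI false

namespace CfsgLib.Characterizations.SuzType.Three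

open Suz Subgroup
open scoped commutatorElement

theorem fin3_facts : (∀ a : Fin 3, -a + -a = a) ∧ (∀ x i : Fin 3, -(-x + i) = x + -i) ∧
    (∀ x j : Fin 3, 1 - (1 - x + j) = x + -j) ∧ (∀ k : Fin 3, k.val • (1 : Fin 3) = k) := by decide

theorem singular_sums : va 0 + ve 0 ≠ 0 ∧ q (va 0 + ve 0) = 0 ∧ vb 0 + ve 0 ≠ 0 ∧ q (vb 0 + ve 0) = 0 := by
  decide +kernel

variable {G : Type*} [Group G] [Finite G] {z : G} {Q : Subgroup G} {π : G → V}

section

variable (S : Suz z Q π) {y : G} (hy : IsStd S y)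
include S hy

/-- `C_Q(y)` lies in the derived subgroup of `C(y)` if this maps onto the quotient. -/
theorem kq_le_commutator (hsur : ∀ g : CQ y, ∃ d ∈ commutator ↥(cy y), toQ y d = g) :
    kq Q y ≤ ⁅cy y, cy y⁆ := by
  intro x hx
  have hxy : x ∈ cy y := hx.2
  obtain ⟨d, hd, e⟩ := hsur (toQ y ⟨x, hxy⟩)
  have hn : toQ y (d⁻¹ * ⟨x, hxy⟩) = 1 := by rw [map_mul, map_inv, e, inv_mul_cancel]
  rw [toQ_eq_one, Subgroup.coe_mul, Subgroup.coe_inv] at hn
  set n := (d : G)⁻¹ * x with hn'
  have hn3 : n ^ 3 = 1 := by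
    rcases zpowers_cases S hy hn with h | h | h <;> rw [h]
    · exact one_pow 3
    · exact y3 S hy
    · rw [(Commute.refl y).mul_pow, y3 S hy, one_mul]
  have hcom : Commute (d : G) n := by
    obtain ⟨k, hk⟩ := mem_zpowers_iff.1 hn
    rw [← hk]
    exact (show Commute (d : G) y from mem_centralizer_singleton_iff.1 d.2).zpow_right k
  have h32 : x ^ 32 = 1 := by
    have h := pow_card_eq_one' (x := (⟨x, hx⟩ : ↥(kq Q y)))
    rw [card_kq S hy] at h
    exact congrArg Subtype.val h
  have hx33 : x = (d : G) ^ 33 := by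
    calc x = x ^ 33 := by rw [pow_succ, h32, one_mul]
      _ = ((d : G) * n) ^ 33 := by rw [hn', mul_inv_cancel_left]
      _ = (d : G) ^ 33 := by
        rw [hcom.mul_pow, show (33 : ℕ) = 3 * 11 from rfl, pow_mul n, hn3, one_pow, mul_one]
  rw [hx33, ← map_subtype_commutator]
  exact pow_mem (Subgroup.mem_map_of_mem _ hd) 33

/-- Every rotation of the two fixed planes is realised by a commutator. -/
theorem exists_commutator_rot (i j : Fin 3) :
    ∃ w ∈ ⁅cy y, cy y⁆, w ∈ hc z y ∧ RotAct (S.act w) i j 0 := by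
  obtain ⟨x, hx, -, hr⟩ := exists_rot S hy i j 0
  obtain ⟨s, hs, hsa, hsb, hse⟩ := exists_double S hy
  have hxz := (mem_hc.1 hx).1
  have hsz := (mem_hc.1 hs).1
  have hsi := cz_inv hsz
  refine ⟨⁅s, x⁆, commutator_mem_commutator (hc_le_cy hs) (hc_le_cy hx), ?_, ?_⟩
  · rw [commutatorElement_def]
    exact mul_mem (mul_mem (mul_mem hs hx) (inv_mem hs)) (inv_mem hx)
  · have hsx : RotAct (S.act (s * x * s⁻¹)) (-i) (-j) 0 := by
      obtain ⟨-, f1, f2, -⟩ := fin3_facts
      refine ⟨fun a => ?_, fun a => ?_, fun a => ?_⟩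
      · have e := S.act_inv_act hsz (va (-a))
        rw [hsa, neg_neg] at e
        rw [S.act_mul (mul_cz S hsz hxz) hsi, S.act_mul hsz hxz, e, hr.fa, hsa, f1]
      · have e := S.act_inv_act hsz (vb (1 - a))
        rw [hsb, sub_sub_cancel] at e
        rw [S.act_mul (mul_cz S hsz hxz) hsi, S.act_mul hsz hxz, e, hr.fb, hsb, f2]
      · have e := S.act_inv_act hsz (ve a)
        rw [hse] at e
        rw [S.act_mul (mul_cz S hsz hxz) hsi, S.act_mul hsz hxz, e, hr.fe, hse]
    have h := RotAct.mul S (mul_cz S (mul_cz S hsz hxz) hsi) (cz_inv hxz) hsx (RotAct.inv S hxz hr)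
    rw [fin3_facts.1, fin3_facts.1, neg_zero, add_zero] at h
    exact h

variable (hker : ∀ d ∈ ⁅cy y, cy y⁆, d ∈ zpowers y → d = 1)
include hker

/-- In the split case no element of the derived subgroup of `C(y)` turns the moved plane. -/
theorem no_turn (hkq : kq Q y ≤ ⁅cy y, cy y⁆) {d : G} (hd : d ∈ ⁅cy y, cy y⁆) (hdc : d ∈ hc z y)
    {i j k : Fin 3} (h : RotAct (S.act d) i j k) : k = 0 := by
  obtain ⟨w, hw, hwc, hwr⟩ := exists_commutator_rot S hy i j
  have hwi : w⁻¹ * z = z * w⁻¹ := cz_inv (mem_hc.1 hwc).1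
  have h1 := RotAct.mul S hwi (mem_hc.1 hdc).1 (RotAct.inv S (mem_hc.1 hwc).1 hwr) h
  rw [neg_add_cancel, neg_add_cancel, neg_zero, zero_add] at h1
  have hu : w⁻¹ * d ∈ hc z y := mul_mem (inv_mem hwc) hdc
  have hpy := rotAct_pow S hy.yz (rotAct_y S hy) k.val
  rw [nsmul_zero, fin3_facts.2.2.2] at hpy
  have hyk : y ^ k.val ∈ hc z y := pow_mem (y_mem S hy) _
  have h2 := RotAct.mul S (mem_hc.1 hu).1 (cz_inv (mem_hc.1 hyk).1) h1 (RotAct.inv S (mem_hc.1 hyk).1 hpy)
  rw [neg_zero, add_zero, add_neg_cancel] at h2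
  have hm : w⁻¹ * d * (y ^ k.val)⁻¹ ∈ hc z y := mul_mem hu (inv_mem hyk)
  have hQ := rotAct_mem S (mem_hc.1 hm).1 h2
  have hD := hkq ⟨hQ, hc_le_cy hm⟩
  have hyD : y ^ k.val ∈ ⁅cy y, cy y⁆ := by
    have h := mul_mem (inv_mem hD) (mul_mem (inv_mem hw) hd)
    rwa [show (w⁻¹ * d * (y ^ k.val)⁻¹)⁻¹ * (w⁻¹ * d) = y ^ k.val by group] at h
  have h0 := hker _ hyD (pow_mem (mem_zpowers y) _)
  have hdvd := orderOf_dvd_of_pow_eq_one h0
  rw [hy.ord] at hdvd
  exact Fin.ext (Nat.eq_zero_of_dvd_of_lt hdvd k.isLt)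

end

/-- A conjugate-closed reformulation: if `d` lies in the derived subgroup of its centralizer, so does a
conjugate of it or of its inverse. -/
theorem mem_commutator_of_conj {G : Type*} [Group G] {d y k : G}
    (h : d ∈ ⁅centralizer ({d} : Set G), centralizer ({d} : Set G)⁆)
    (hk : k * d * k⁻¹ = y ∨ k * d * k⁻¹ = y⁻¹) :
    y ∈ ⁅centralizer ({y} : Set G), centralizer ({y} : Set G)⁆ := by
  have hmap := Subgroup.mem_map_of_mem (MulAut.conj k).toMonoidHom h
  rw [Subgroup.map_commutator, map_cent] at hmap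
  change k * d * k⁻¹ ∈ _ at hmap
  rw [show (MulAut.conj k) d = k * d * k⁻¹ from rfl] at hmap
  rcases hk with e | e <;> rw [e] at hmap
  · exact hmap
  · have hc : centralizer ({y⁻¹} : Set G) = centralizer ({y} : Set G) := by
      ext g
      rw [mem_centralizer_singleton_iff, mem_centralizer_singleton_iff]
      exact ⟨fun h => (Commute.inv_right_iff.1 h).eq, fun h => (Commute.inv_right h).eq⟩
    rw [hc] at hmap
    simpa using inv_mem hmap

section

variable (S : Suz z Q π) {y : G} (hy : IsStd S y)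
include S hy

theorem y_mem_commutator (K : Type) [Field K] [Fintype K] (hK : Fintype.card K = 9)
    (hiso : Nonempty (CQ y ≃* Cfsg.PSU 4 K 3))
    (hconj : ∀ a b : CQ y, orderOf a = 2 → orderOf b = 2 → IsConj a b)
    (hsur : ∀ g : CQ y, ∃ d ∈ commutator ↥(cy y), toQ y d = g) : y ∈ ⁅cy y, cy y⁆ := by
  classical
  by_contra hyD
  have hker : ∀ d ∈ ⁅cy y, cy y⁆, d ∈ zpowers y → d = 1 := by
    intro d hd hdy
    rcases zpowers_cases S hy hdy with e | e | e
    · exact e
    · exact absurd (e ▸ hd) hyD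
    · refine absurd ?_ hyD
      have := mul_mem (e ▸ hd) (e ▸ hd : y * y ∈ ⁅cy y, cy y⁆)
      rwa [show y * y * (y * y) = y ^ 3 * y by simp [pow_succ, mul_assoc], y3 S hy, one_mul] at this
  have hinj : ∀ a ∈ commutator ↥(cy y), ∀ b ∈ commutator ↥(cy y), toQ y a = toQ y b → a = b := by
    intro a ha b hb e
    have h1 : toQ y (a⁻¹ * b) = 1 := by rw [map_mul, map_inv, e, inv_mul_cancel]
    have h2 : ((a⁻¹ * b : ↥(cy y)) : G) ∈ ⁅cy y, cy y⁆ :=
      map_subtype_commutator (cy y) ▸ Subgroup.mem_map_of_mem _ (mul_mem (inv_mem ha) hb)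
    exact inv_mul_eq_one.1 (Subtype.ext (hker _ h2 (toQ_eq_one.1 h1)))
  have hkq := kq_le_commutator S hy hsur
  -- the transvection in `C(y)/⟨y⟩`
  obtain ⟨e⟩ := hiso
  obtain ⟨t₀, i₀, ht₀, hi₀, hti₀, h8, hc₀⟩ := psu_transvection K hK
  obtain ⟨g, hg⟩ := isConj_iff.1 (hconj (e.symm i₀) (zbar S hy)
    ((MulEquiv.orderOf_eq e.symm i₀).trans hi₀) (orderOf_zbar S hy))
  set f : Cfsg.PSU 4 K 3 ≃* CQ y := e.symm.trans (MulAut.conj g) with hf
  have hfi : f i₀ = zbar S hy := hg
  set t := f t₀ with ht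
  have htz : Commute t (zbar S hy) := hfi ▸ hti₀.map f.toMonoidHom
  have hto : orderOf t = 3 := (MulEquiv.orderOf_eq f t₀).trans ht₀
  have h8' : 8 ∣ Nat.card ↥(centralizer ({t} : Set (CQ y)) ⊓ centralizer ({zbar S hy} : Set (CQ y))) := by
    rw [← hfi, ← map_cent, ← map_cent, ← Subgroup.map_inf _ _ _ f.injective,
      Subgroup.card_map_of_injective f.injective]
    exact h8
  have hct : t ∈ ⁅centralizer ({t} : Set (CQ y)), centralizer ({t} : Set (CQ y))⁆ := by
    rw [ht, ← map_cent, ← Subgroup.map_commutator]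
    exact ⟨t₀, hc₀, rfl⟩
  -- its lift
  obtain ⟨c, hcD, hct'⟩ := hsur t
  have hc3 : orderOf c = 3 := by
    haveI : Fact (Nat.Prime 3) := ⟨Nat.prime_three⟩
    refine orderOf_eq_prime ?_ fun e1 => ?_
    · refine hinj _ (pow_mem hcD 3) 1 (one_mem _) ?_
      rw [map_pow, hct', map_one, ← hto, pow_orderOf_eq_one]
    · rw [e1, map_one] at hct'
      rw [← hct', orderOf_one] at hto
      norm_num at hto
  have hdc : (c : G) ∈ hc z y := mem_hc_of_commute S hy (by rw [hct']; exact htz)
  have hdD : (c : G) ∈ ⁅cy y, cy y⁆ := map_subtype_commutator (cy y) ▸ Subgroup.mem_map_of_mem _ hcD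
  have hdo : orderOf (c : G) = 3 := (Subgroup.orderOf_coe c).trans hc3
  obtain ⟨i, j, k, hrot⟩ := rot_of_pow S hy hdc (by
    rw [show (27 : ℕ) = 3 * 9 from rfl, pow_mul, ← hdo, pow_orderOf_eq_one, one_pow])
  obtain rfl := no_turn S hy hker hkq hdD hdc hrot
  have hcomm : ∀ x : ↥(cy y), Commute (toQ y x) t → Commute x c := by
    intro x hx
    have h1 : toQ y ⁅x, c⁆ = 1 := by
      rw [map_commutatorElement, hct']
      exact commutatorElement_eq_one_iff_commute.2 hx
    exact commutatorElement_eq_one_iff_commute.1 (hinj _ (commutator_mem_commutator (mem_top x) (mem_top c))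
      1 (one_mem _) (h1.trans (map_one _).symm))
  have hself : (c : G) ∈ ⁅centralizer ({(c : G)} : Set G), centralizer ({(c : G)} : Set G)⁆ := by
    have hmapC : (centralizer ({c} : Set ↥(cy y))).map (toQ y) = centralizer ({t} : Set (CQ y)) := by
      ext u
      constructor
      · rintro ⟨x, hx, rfl⟩
        rw [SetLike.mem_coe, mem_centralizer_singleton_iff] at hx
        rw [mem_centralizer_singleton_iff, ← hct', ← map_mul, ← map_mul, hx]
      · intro hu
        obtain ⟨x, rfl⟩ := toQ_surjective y u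
        exact ⟨x, mem_centralizer_singleton_iff.2 (hcomm x (mem_centralizer_singleton_iff.1 hu)).eq, rfl⟩
    rw [← hmapC, ← Subgroup.map_commutator] at hct
    obtain ⟨x, hx, hxt⟩ := hct
    have hxc : x = c := hinj x (commutator_mono le_top le_top hx) c hcD (hxt.trans hct'.symm)
    subst hxc
    have h := Subgroup.mem_map_of_mem (cy y).subtype hx
    rw [Subgroup.map_commutator] at h
    refine commutator_mono ?_ ?_ h <;>
    · rintro _ ⟨w, hw, rfl⟩
      exact mem_centralizer_singleton_iff.2 (congrArg Subtype.val (mem_centralizer_singleton_iff.1 hw))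
  have hyS : ∀ v : V, v ≠ 0 → q v = 0 → S.act (c : G) v = v → False := by
    intro v hv hqv hcv
    obtain ⟨k', -, hk'⟩ := conj_std S hy hdo (mem_hc.1 hdc).1 hv hqv hcv
    exact hyD (mem_commutator_of_conj hself hk')
  obtain ⟨s1, s2, s3, s4⟩ := singular_sums
  by_cases hi : i = 0
  · refine hyS _ s1 s2 ?_
    rw [(S.act_iso (mem_hc.1 hdc).1).add, hrot.fa, hrot.fe, hi, add_zero]
  by_cases hj : j = 0
  · refine hyS _ s3 s4 ?_
    rw [(S.act_iso (mem_hc.1 hdc).1).add, hrot.fb, hrot.fe, hj, add_zero]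
  -- both planes turned: too small a centralizer
  haveI : Fact (Nat.Prime 2) := ⟨Nat.prime_two⟩
  obtain ⟨U, hU⟩ := Sylow.exists_subgroup_card_pow_prime 2 (n := 3)
    (show 2 ^ 3 ∣ Nat.card ↥(centralizer ({t} : Set (CQ y)) ⊓ centralizer ({zbar S hy} : Set (CQ y))) from h8')
  set U' := U.map (Subgroup.subtype _) with hU'
  have hUM : U' ≤ centralizer ({t} : Set (CQ y)) ⊓ centralizer ({zbar S hy} : Set (CQ y)) :=
    map_subtype_le U
  have hU'8 : Nat.card ↥U' = 8 := by
    rw [hU', Subgroup.card_map_of_injective (Subgroup.subtype_injective _), hU]; norm_num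
  let T : Subgroup G := ((U'.comap (toQ y)) ⊓ commutator ↥(cy y)).map (cy y).subtype
  have hT8 : Nat.card ↥T = 8 := by
    rw [Subgroup.card_map_of_injective (Subgroup.subtype_injective _), ← hU'8]
    refine Nat.card_eq_of_bijective (fun x => (⟨toQ y x.1, x.2.1⟩ : ↥U')) ⟨?_, ?_⟩
    · intro a b h
      exact Subtype.ext (hinj _ a.2.2 _ b.2.2 (congrArg Subtype.val h))
    · rintro ⟨u, hu⟩
      obtain ⟨x, hx, rfl⟩ := hsur u
      exact ⟨⟨x, hu, hx⟩, rfl⟩
  have hTle : T ≤ hc z y := by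
    rintro _ ⟨x, hx, rfl⟩
    exact mem_hc_of_commute S hy (mem_centralizer_singleton_iff.1 (hUM hx.1).2)
  have hTc : ∀ x ∈ T, x * (c : G) = (c : G) * x := by
    rintro _ ⟨x, hx, rfl⟩
    exact congrArg Subtype.val (hcomm x (mem_centralizer_singleton_iff.1 (hUM hx.1).1)).eq
  have h4 := card_two_le S hy hTle (IsPGroup.of_card (n := 3) (by rw [hT8]; norm_num))
    (mem_hc.1 hdc).1 hi hj hrot hTc
  omega

/-- `C(y)` is quasisimple. -/
theorem quasisimple_cy (K : Type) [Field K] [Fintype K] (hK : Fintype.card K = 9)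
    (hiso : Nonempty (CQ y ≃* Cfsg.PSU 4 K 3))
    (hconj : ∀ a b : CQ y, orderOf a = 2 → orderOf b = 2 → IsConj a b) :
    Cfsg.IsQuasisimple ↥(cy y) := by
  obtain ⟨e⟩ := id hiso
  haveI hsimp : IsSimpleGroup (Cfsg.PSU 4 K 3) :=
    Cfsg.Agent.S0283.result (q := 3) (by rw [hK]; norm_num) 4 (by norm_num) (by norm_num)
  haveI : Nontrivial (CQ y) := e.toEquiv.nontrivial
  haveI hQs : IsSimpleGroup (CQ y) := IsSimpleGroup.isSimpleGroup_of_surjective e.symm.toMonoidHom e.symm.surjective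
  have hna : ∃ a b : CQ y, a * b ≠ b * a := by
    by_contra! hab
    have hn : (zpowers (zbar S hy)).Normal := ⟨fun n hn g => by
      rwa [hab g n, mul_inv_cancel_right]⟩
    have h2 : Nat.card (CQ y) = 2 := by
      rcases hn.eq_bot_or_eq_top with h | h
      · exact absurd (zpowers_eq_bot.1 h) (zbar_ne S hy)
      · rw [← Subgroup.card_top (G := CQ y), ← h, Nat.card_zpowers, orderOf_zbar S hy]
    have h := Subgroup.card_le_card_group (CZ S hy)
    rw [card_CZ S hy, h2] at h
    omega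
  have hcomQ : commutator (CQ y) = ⊤ := by
    refine (IsSimpleGroup.eq_bot_or_eq_top_of_normal (commutator (CQ y)) inferInstance).resolve_left fun h => ?_
    obtain ⟨a, b, hab⟩ := hna
    have hm : ⁅a, b⁆ ∈ commutator (CQ y) := commutator_mem_commutator (mem_top a) (mem_top b)
    rw [h, mem_bot, commutatorElement_eq_one_iff_mul_comm] at hm
    exact hab hm
  have hsur : ∀ g : CQ y, ∃ d ∈ commutator ↥(cy y), toQ y d = g := by
    intro g
    have h : (commutator ↥(cy y)).map (toQ y) = ⊤ := by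
      rw [_root_.commutator_def, Subgroup.map_commutator, Subgroup.map_top_of_surjective _ (toQ_surjective y),
        ← _root_.commutator_def, hcomQ]
    exact Subgroup.mem_map.1 (h.symm ▸ mem_top g)
  have hyD : y ∈ ⁅cy y, cy y⁆ := y_mem_commutator S hy K hK hiso hconj hsur
  have hyn : yn y ≤ commutator ↥(cy y) := by
    intro n hn
    have h : (n : G) ∈ (commutator ↥(cy y)).map (cy y).subtype := by
      rw [map_subtype_commutator]
      exact zpowers_le.2 hyD (mem_subgroupOf.1 hn)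
    obtain ⟨m, hm, hmn⟩ := h
    exact (Subtype.ext hmn : m = n) ▸ hm
  have hperf : Group.IsPerfect ↥(cy y) := by
    refine Group.isPerfect_def.2 ((eq_top_iff' _).2 fun x => ?_)
    obtain ⟨d, hd, e'⟩ := hsur (toQ y x)
    have h : d⁻¹ * x ∈ yn y := by
      rw [← QuotientGroup.eq]
      exact e'
    simpa using mul_mem hd (hyn h)
  have hcen : center ↥(cy y) = yn y := by
    refine le_antisymm (fun x hx => ?_) fun x hx => ?_
    · have hxc : toQ y x ∈ center (CQ y) := mem_center_iff.2 fun g => by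
        obtain ⟨g, rfl⟩ := toQ_surjective y g
        rw [← map_mul, ← map_mul, mem_center_iff.1 hx g]
      rcases IsSimpleGroup.eq_bot_or_eq_top_of_normal (center (CQ y)) inferInstance with h | h
      · rw [h, mem_bot, toQ_eq_one] at hxc
        exact mem_subgroupOf.2 hxc
      · obtain ⟨a, b, hab⟩ := hna
        exact absurd ((mem_center_iff.1 (h.symm ▸ mem_top a : a ∈ center (CQ y))) b).symm hab
    · refine mem_center_iff.2 fun g => Subtype.ext ?_
      obtain ⟨k, hk⟩ := mem_zpowers_iff.1 (mem_subgroupOf.1 hx)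
      rw [Subgroup.coe_mul, Subgroup.coe_mul, ← hk]
      exact ((show Commute (g : G) y from mem_centralizer_singleton_iff.1 g.2).zpow_right k).eq
  haveI : Nontrivial (↥(cy y) ⧸ center ↥(cy y)) :=
    (QuotientGroup.quotientMulEquivOfEq hcen).toEquiv.nontrivial
  exact ⟨hperf, IsSimpleGroup.isSimpleGroup_of_surjective (QuotientGroup.quotientMulEquivOfEq hcen).symm.toMonoidHom
    (QuotientGroup.quotientMulEquivOfEq hcen).symm.surjective⟩

end

end CfsgLib.Characterizations.SuzType.Three
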