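import Cfsg.Agent.Lib.Characterizations.SuzType.Three.Local
import Cfsg.Agent.Lib.Fusion.QuaternionSL23

/-!
# The two factors `SL(2, 3)`
-/

set_option autoImplicit false
set_option linter.unusedSectionVars false
set_option linter.style.haveILetI false

namespace CfsgLib.Characterizations.SuzType.Three

open Suz

theorem fin3_zero : ∀ a : Fin 3, a + a + a = 0 := by decide

theorem zmod_two_cases : ∀ a : ZMod 2, a = 0 ∨ a = 1 := by decide

theorem vp_sum (s : Bool) : vp s 2 = vp s 0 + vp s 1 := by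
  cases s
  · exact plane_sums.1
  · exact plane_sums.2.1

theorem B_add_right (u v w : V) : B u (v + w) = B u v + B u w := by
  rw [B_comm u, B_add_left, B_comm v, B_comm w]

theorem B_zero_right (u : V) : B u 0 = 0 := by simp [B]

/-- A fixed vector orthogonal to one plane lies in the other. -/
theorem mem_plane {s : Bool} {v : V} (hT : T0 v = v) (h0 : B v (vp (!s) 0) = 0) (h1 : B v (vp (!s) 1) = 0) :
    v = 0 ∨ ∃ x, v = vp s x := by
  obtain ⟨e0, e2⟩ := fixed_perp v hT
  have hd := decomp v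
  rw [e0, e2, zero_smul, zero_smul, add_zero, add_zero] at hd
  cases s
  · change B v (vb 0) = 0 at h0
    change B v (vb 1) = 0 at h1
    rw [h0, h1, zero_smul, zero_smul, add_zero, add_zero] at hd
    rcases zmod_two_cases (B v (va 1)) with a | a <;> rcases zmod_two_cases (B v (va 0)) with b | b <;>
      rw [a, b] at hd <;> simp only [zero_smul, one_smul, add_zero, zero_add] at hd
    · exact Or.inl hd
    · exact Or.inr ⟨1, hd⟩
    · exact Or.inr ⟨0, hd⟩
    · exact Or.inr ⟨2, hd.trans plane_sums.1.symm⟩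
  · change B v (va 0) = 0 at h0
    change B v (va 1) = 0 at h1
    rw [h0, h1, zero_smul, zero_smul, zero_add, zero_add] at hd
    rcases zmod_two_cases (B v (vb 1)) with a | a <;> rcases zmod_two_cases (B v (vb 0)) with b | b <;>
      rw [a, b] at hd <;> simp only [zero_smul, one_smul, add_zero, zero_add] at hd
    · exact Or.inl hd
    · exact Or.inr ⟨1, hd⟩
    · exact Or.inr ⟨0, hd⟩
    · exact Or.inr ⟨2, hd.trans plane_sums.2.1.symm⟩

/-- The rotation of the plane `s` by `i`. -/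
def RotS (f : V → V) (s : Bool) (i : Fin 3) : Prop := RotAct f (cond s 0 i) (cond s i 0) 0

theorem RotS.fs {f : V → V} {s : Bool} {i : Fin 3} (h : RotS f s i) (x : Fin 3) :
    f (vp s x) = vp s (x + i) := by
  cases s
  · exact RotAct.fa h x
  · exact RotAct.fb h x

theorem RotS.fns {f : V → V} {s : Bool} {i : Fin 3} (h : RotS f s i) (x : Fin 3) :
    f (vp (!s) x) = vp (!s) x := by
  cases s
  · exact (RotAct.fb h x).trans (by simp [vp])
  · exact (RotAct.fa h x).trans (by simp [vp])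

theorem RotS.iff_rot {f : V → V} {s : Bool} {i : Fin 3} :
    RotS f s i ↔ RotAct f (cond s 0 i) (cond s i 0) 0 := Iff.rfl

variable {G : Type*} [Group G] [Finite G] {z : G} {Q : Subgroup G} {π : G → V}

/-- The data of one factor: a lift of the first vector of the plane and a rotation of exponent three. -/
structure Factor (S : Suz z Q π) (y : G) (s : Bool) (a r : G) : Prop where
  ha : a ∈ kq Q y
  πa : π a = vp s 0
  hr : r ∈ hc z y
  r3 : r ^ 3 = 1
  rot : RotS (S.act r) s 1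

/-- The subgroup generated by a factor. -/
def fsub (a r : G) : Subgroup G := Subgroup.closure {a, r}

variable (S : Suz z Q π) {y : G} (hy : IsStd S y)
include S hy

theorem exists_factor (s : Bool) : ∃ a r, Factor S y s a r := by
  obtain ⟨a, ha, hπ⟩ := S.π_surj (vp s 0)
  obtain ⟨r, hr, h3, hrot⟩ := exists_rot S hy (cond s 0 1) (cond s 1 0) 0
  exact ⟨a, r, (mem_kq S hy).2 ⟨ha, by rw [hπ]; exact (vp_fixed s 0).1⟩, hπ, hr, h3, hrot⟩

theorem rotS_Q {x : G} (hx : x ∈ Q) (s : Bool) : RotS (S.act x) s 0 := by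
  cases s <;> exact rotAct_Q S hx

theorem conj_kq {c x : G} (hc' : c ∈ hc z y) (hx : x ∈ kq Q y) :
    c * x * c⁻¹ ∈ kq Q y ∧ π (c * x * c⁻¹) = S.act c (π x) := by
  obtain ⟨hcz, hcy⟩ := mem_hc.1 hc'
  have hQ : c * x * c⁻¹ ∈ Q := S.norm c hcz x hx.1
  refine ⟨(mem_kq S hy).2 ⟨hQ, ?_⟩, (S.act_π hcz hx.1).symm⟩
  rw [← S.act_π hcz hx.1, ← act_commute S hy hc', ((mem_kq S hy).1 hx).2]

variable {s : Bool} {a r : G} (F : Factor S y s a r)
include F

theorem fsub_le : fsub a r ≤ hc z y := (Subgroup.closure_le _).2 fun x hx => by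
  rcases hx with rfl | rfl
  · exact kq_le S hy F.ha
  · exact F.hr

theorem a_mem : a ∈ fsub a r := Subgroup.subset_closure (Or.inl rfl)

theorem r_mem : r ∈ fsub a r := Subgroup.subset_closure (Or.inr rfl)

theorem a_sq : a * a = z := by
  rw [S.sq_eq F.ha.1, F.πa, (vp_fixed s 0).2, zp_one]

theorem z_mem_fsub : z ∈ fsub a r := a_sq S hy F ▸ mul_mem (a_mem S hy F) (a_mem S hy F)

/-- The fixed elements of `Q` over the plane lie in the factor. -/
theorem mem_fsub {x : G} (hx : x ∈ kq Q y) (h : π x = 0 ∨ ∃ t, π x = vp s t) : x ∈ fsub a r := by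
  have hcase : ∀ {w : G}, w ∈ fsub a r → w ∈ Q → π x = π w → x ∈ fsub a r := fun {w} hw hwQ e => by
    rcases S.π_eq hwQ hx.1 e.symm with e' | e' <;> rw [e']
    · exact hw
    · exact mul_mem hw (z_mem_fsub S hy F)
  have hb : r * a * r⁻¹ ∈ fsub a r := mul_mem (mul_mem (r_mem S hy F) (a_mem S hy F)) (inv_mem (r_mem S hy F))
  have hπb : π (r * a * r⁻¹) = vp s 1 := by
    rw [(conj_kq S hy F.hr F.ha).2, F.πa, RotS.fs F.rot, zero_add]
  have hbQ := (conj_kq S hy F.hr F.ha).1.1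
  rcases h with h | ⟨t, h⟩
  · rcases (S.π_ker x hx.1).1 h with e | e <;> rw [e]
    · exact one_mem _
    · exact z_mem_fsub S hy F
  · rcases (by decide : ∀ t : Fin 3, t = 0 ∨ t = 1 ∨ t = 2) t with rfl | rfl | rfl
    · exact hcase (a_mem S hy F) F.ha.1 (h.trans F.πa.symm)
    · exact hcase hb hbQ (h.trans hπb.symm)
    · exact hcase (mul_mem (a_mem S hy F) hb) (mul_mem F.ha.1 hbQ)
        (h.trans (by rw [S.π_mul _ F.ha.1 _ hbQ, F.πa, hπb, vp_sum]))

/-- Every element of a factor rotates its plane and centralises the fixed part over the other. -/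
theorem fsub_act {c : G} (hc' : c ∈ fsub a r) :
    (∃ i, RotS (S.act c) s i) ∧ ∀ x ∈ kq Q y, B (π x) (vp s 0) = 0 → B (π x) (vp s 1) = 0 → c * x = x * c := by
  induction hc' using Subgroup.closure_induction with
  | mem c hc' =>
    rcases hc' with rfl | rfl
    · exact ⟨⟨0, rotS_Q S hy F.ha.1 s⟩, fun x hx h0 _ => ((S.comm_iff hx.1 F.ha.1).2 (by rw [F.πa, h0])).symm⟩
    · refine ⟨⟨1, F.rot⟩, fun x hx h0 h1 => rot_comm S hy (mem_hc.1 F.hr).1 F.r3 hx.1 ?_⟩
      obtain h | ⟨t, h⟩ := mem_plane (s := !s) ((mem_kq S hy).1 hx).2 (by rwa [Bool.not_not]) (by rwa [Bool.not_not])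
      · rw [h, (S.act_iso (mem_hc.1 F.hr).1).map_zero]
      · rw [h, RotS.fns F.rot]
  | one => exact ⟨⟨0, rotS_Q S hy (one_mem Q) s⟩, fun x _ _ _ => by rw [one_mul, mul_one]⟩
  | mul c d hc' hd ihc ihd =>
    obtain ⟨⟨i, hi⟩, h1⟩ := ihc
    obtain ⟨⟨j, hj⟩, h2⟩ := ihd
    refine ⟨⟨i + j, ?_⟩, fun x hx h0 h1' => ((show Commute c x from h1 x hx h0 h1').mul_left
      (h2 x hx h0 h1')).eq⟩
    have h := RotAct.mul S (mem_hc.1 (fsub_le S hy F hc')).1 (mem_hc.1 (fsub_le S hy F hd)).1 hi hj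
    cases s <;> simpa [RotS] using h
  | inv c hc' ih =>
    obtain ⟨⟨i, hi⟩, h1⟩ := ih
    refine ⟨⟨-i, ?_⟩, fun x hx h0 h1' => (show Commute c x from h1 x hx h0 h1').inv_left.eq⟩
    have h := RotAct.inv S (mem_hc.1 (fsub_le S hy F hc')).1 hi
    cases s <;> simpa [RotS] using h

/-- The factor is `SL(2, 3)`. -/
theorem nonempty_sl23 : Nonempty (↥(fsub a r) ≃* Matrix.SpecialLinearGroup (Fin 2) (ZMod 3)) := by
  classical
  set b := r * a * r⁻¹ with hb
  obtain ⟨hbk, hπb'⟩ := conj_kq S hy F.hr F.ha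
  have hπb : π b = vp s 1 := by rw [hπb', F.πa, RotS.fs F.rot, zero_add]
  obtain ⟨hck, hπc'⟩ := conj_kq S hy F.hr hbk
  have hπc : π (r * b * r⁻¹) = vp s 2 := by rw [hπc', hπb, RotS.fs F.rot]; rfl
  have hab : π (a * b) = vp s 2 := by rw [S.π_mul _ F.ha.1 _ hbk.1, F.πa, hπb, vp_sum]
  have hba : b * a = a * b * z := by
    have e := S.conj_eq F.ha.1 hbk.1
    rw [F.πa, hπb, vp_form, if_neg (by decide), zp_one] at e
    have e2 : b * a = a * z * b := mul_inv_eq_iff_eq_mul.1 e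
    rw [e2, mul_assoc, S.extra.z_comm hbk.1, ← mul_assoc]
  have hb2 : b * b = z := by rw [S.sq_eq hbk.1, hπb, (vp_fixed s 1).2, zp_one]
  have ha4 : ∀ {a : G}, a * a = z → a ^ 4 = 1 ∧ a⁻¹ = a * z := fun {a} h => by
    have h4 : a * (a * z) = 1 := by rw [← mul_assoc, h, S.extra.z_sq]
    exact ⟨by simp [pow_succ, h, S.extra.z_sq, mul_assoc], inv_eq_of_mul_eq_one_right h4⟩
  have hr3 := F.r3
  have hrr : r⁻¹ = r * r := inv_eq_of_mul_eq_one_right (by rw [← hr3]; simp [pow_succ, mul_assoc])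
  obtain ⟨a', b', g', hrel, hπa', hπb'', hg, hgen, hk1, hk2⟩ : ∃ a' b' g', CfsgLib.Fusion.QuaternionSL23.Rel a' b' g' ∧
      (∃ t, π a' = vp s t) ∧ (∃ t, π b' = vp s t ∧ π a' ≠ π b') ∧ (∃ i, i ≠ 0 ∧ RotS (S.act g') s i) ∧
        Subgroup.closure {a', b', g'} = fsub a r ∧ a' ∈ kq Q y ∧ b' ∈ kq Q y := by
    have hbm : b ∈ fsub a r := mul_mem (mul_mem (r_mem S hy F) (a_mem S hy F)) (inv_mem (r_mem S hy F))
    have hne : π a ≠ π b := by
      rw [F.πa, hπb]
      exact fun e => absurd (vp_inj e) (by decide)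
    rcases S.π_eq (mul_mem F.ha.1 hbk.1) hck.1 (hab.trans hπc.symm) with e | e
    · refine ⟨a, b, r, ⟨(ha4 (a_sq S hy F)).1, hr3, ?_, ?_, rfl, e⟩, ⟨0, F.πa⟩, ⟨1, hπb, hne⟩,
        ⟨1, by decide, F.rot⟩, ?_, F.ha, hbk⟩
      · rw [pow_two, pow_two, hb2, a_sq S hy F]
      · rw [hba, (ha4 (a_sq S hy F)).2, mul_assoc a z b, S.extra.z_comm hbk.1, ← mul_assoc a b z]
      · refine le_antisymm ((Subgroup.closure_le _).2 ?_) ((Subgroup.closure_le _).2 ?_)
        · rintro x (rfl | rfl | rfl)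
          exacts [a_mem S hy F, hbm, r_mem S hy F]
        · rintro x (rfl | rfl)
          exacts [Subgroup.subset_closure (Or.inl rfl), Subgroup.subset_closure (Or.inr (Or.inr rfl))]
    · refine ⟨b, a, r⁻¹, ⟨(ha4 hb2).1, by rw [inv_pow, hr3, inv_one], ?_, ?_, by rw [hb]; group, ?_⟩,
        ⟨1, hπb⟩, ⟨0, F.πa, hne.symm⟩, ⟨-1, by decide, ?_⟩, ?_, hbk, F.ha⟩
      · rw [pow_two, pow_two, hb2, a_sq S hy F]
      · rw [(ha4 hb2).2, mul_assoc b z a, S.extra.z_comm F.ha.1, ← mul_assoc b a z, hba, mul_assoc (a * b),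
          S.extra.z_sq, mul_one]
      · rw [inv_inv, hrr, hba]
        calc r * r * a * r = r * (r * a * r⁻¹) * (r * r) := by group
          _ = r * b * r⁻¹ := by rw [hb, hrr]
          _ = a * b * z := e
      · cases s <;> simpa [RotS] using RotAct.inv S (mem_hc.1 F.hr).1 F.rot
      · refine le_antisymm ((Subgroup.closure_le _).2 ?_) ((Subgroup.closure_le _).2 ?_)
        · rintro x (rfl | rfl | rfl)
          exacts [hbm, a_mem S hy F, inv_mem (r_mem S hy F)]
        · intro x hx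
          rcases hx with h | h <;> rw [h]
          exacts [Subgroup.subset_closure (Or.inr (Or.inl rfl)),
            (inv_mem_iff (H := Subgroup.closure {b, a, r⁻¹})).1 (Subgroup.subset_closure (Or.inr (Or.inr rfl)))]
  obtain ⟨ta, hta⟩ := hπa'
  obtain ⟨tb, htb, hne⟩ := hπb''
  obtain ⟨i, hi, hrot⟩ := hg
  have ham : a' ∈ fsub a r := hgen ▸ Subgroup.subset_closure (Or.inl rfl)
  have hbm : b' ∈ fsub a r := hgen ▸ Subgroup.subset_closure (Or.inr (Or.inl rfl))
  have hgm : g' ∈ fsub a r := hgen ▸ Subgroup.subset_closure (Or.inr (Or.inr rfl))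
  refine CfsgLib.Fusion.QuaternionSL23.nonempty_mulEquiv (a := ⟨a', ham⟩) (b := ⟨b', hbm⟩) (g := ⟨g', hgm⟩)
    ⟨Subtype.ext hrel.a4, Subtype.ext hrel.g3, Subtype.ext hrel.b2, Subtype.ext hrel.ba, Subtype.ext hrel.ga,
      Subtype.ext hrel.gb⟩ ?_ ?_
  · apply Subgroup.map_injective (fsub a r).subtype_injective
    rw [MonoidHom.map_closure, ← MonoidHom.range_eq_map, Subgroup.range_subtype]
    simpa [Set.image_insert_eq] using hgen
  -- the twenty-four words are distinct
  rintro ⟨x, y', t⟩ ⟨x', y'', t'⟩ e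
  have e' := congrArg Subtype.val e
  simp only [CfsgLib.Fusion.QuaternionSL23.word, Subgroup.coe_mul, Subgroup.coe_pow] at e'
  have hcz : ∀ {w : G}, w ∈ fsub a r → w * z = z * w := fun hw => (mem_hc.1 (fsub_le S hy F hw)).1
  have hpowQ : ∀ n m : ℕ, a' ^ n * b' ^ m ∈ Q := fun n m => mul_mem (pow_mem hk1.1 n) (pow_mem hk2.1 m)
  have hgpow : ∀ n : ℕ, RotS (S.act (g' ^ n)) s (n • i) := by
    intro n
    induction n with
    | zero => simpa using rotS_Q S hy (one_mem Q) s
    | succ n ih =>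
      rw [pow_succ, succ_nsmul]
      have h := RotAct.mul S ((show Commute g' z from hcz hgm).pow_left n).eq (hcz hgm) ih hrot
      cases s <;> simpa [RotS] using h
  have hword : ∀ n m k : ℕ, RotS (S.act (a' ^ n * b' ^ m * g' ^ k)) s (k • i) := fun n m k => by
    have h := RotAct.mul S (S.mem_cz (hpowQ n m)) ((show Commute g' z from hcz hgm).pow_left k).eq
      (rotS_Q S hy (hpowQ n m) s) (hgpow k)
    cases s <;> simpa [RotS] using h
  have ht : t = t' := by
    have h1 := hword x.val y'.val t.val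
    rw [e'] at h1
    have h2 := RotAct.unique h1 (hword x'.val y''.val t'.val)
    have h3 : t.val • i = t'.val • i := by cases s <;> simp_all
    have key : ∀ i : Fin 3, i ≠ 0 → ∀ a b : ZMod 3, a.val • i = b.val • i → a = b := by decide
    exact key i hi t t' h3
  subst ht
  have e'' : a' ^ x.val * b' ^ y'.val = a' ^ x'.val * b' ^ y''.val := mul_right_cancel e'
  have hπpow : ∀ {w : G}, w ∈ Q → ∀ n : ℕ, π (w ^ n) = (n : ZMod 2) • π w := by
    intro w hw n
    induction n with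
    | zero => simp [S.π_one]
    | succ n ih => rw [pow_succ, S.π_mul _ (pow_mem hw n) _ hw, ih, Nat.cast_succ, add_smul, one_smul]
  have hπe : ((x.val : ℕ) : ZMod 2) • vp s ta + ((y'.val : ℕ) : ZMod 2) • vp s tb =
      ((x'.val : ℕ) : ZMod 2) • vp s ta + ((y''.val : ℕ) : ZMod 2) • vp s tb := by
    have := congrArg π e''
    rwa [S.π_mul _ (pow_mem hk1.1 _) _ (pow_mem hk2.1 _), S.π_mul _ (pow_mem hk1.1 _) _ (pow_mem hk2.1 _),
      hπpow hk1.1, hπpow hk2.1, hπpow hk1.1, hπpow hk2.1, hta, htb] at this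
  have htab : ta ≠ tb := fun h => hne (by rw [hta, htb, h])
  have hBl : ∀ (c d : ZMod 2) (w : V), B (c • vp s ta + d • vp s tb) w = c * B (vp s ta) w + d * B (vp s tb) w := by
    intro c d w
    rw [B_add_left]
    rcases zmod_two_cases c with rfl | rfl <;> rcases zmod_two_cases d with rfl | rfl <;>
      simp [B_comm _ w, B_zero_right]
  have hy'' : y' = y'' := by
    have := congrArg (fun w => B w (vp s ta)) hπe
    simp only [hBl, vp_form, if_true, mul_zero, zero_add, if_neg htab.symm, mul_one] at this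
    exact (by decide : ∀ a b : ZMod 2, ((a.val : ℕ) : ZMod 2) = ((b.val : ℕ) : ZMod 2) → a = b) y' y'' this
  subst hy''
  have e3 : a' ^ x.val = a' ^ x'.val := mul_right_cancel e''
  have hord : orderOf a' = 4 := by
    refine orderOf_eq_prime_pow (p := 2) (n := 1) (fun h => ?_) hrel.a4
    rw [pow_one, pow_two, S.sq_eq hk1.1, hta, (vp_fixed s ta).2, zp_one] at h
    exact S.extra.z_ne h
  have h4 := pow_inj_mod.1 e3
  rw [hord, Nat.mod_eq_of_lt (ZMod.val_lt x), Nat.mod_eq_of_lt (ZMod.val_lt x')] at h4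
  rw [ZMod.val_injective 4 h4]

omit F

/-- The factors normalise one another. -/
theorem normalize_other {a₁ r₁ a₂ r₂ : G} {s : Bool} (F₁ : Factor S y s a₁ r₁) (F₂ : Factor S y (!s) a₂ r₂) :
    fsub a₂ r₂ ≤ Subgroup.normalizer (fsub a₁ r₁ : Set G) := by
  rw [fsub, Subgroup.closure_le]
  intro c hc'
  rw [SetLike.mem_coe, Subgroup.mem_normalizer_iff_map_conj_eq]
  have hcc : c ∈ fsub a₂ r₂ := Subgroup.subset_closure hc'
  have hch := fsub_le S hy F₂ hcc
  refine Subgroup.eq_of_le_of_card_ge ?_ (le_of_eq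
    (Nat.card_congr (Subgroup.equivMapOfInjective _ _ (MulAut.conj c).injective).toEquiv))
  rw [Subgroup.map_le_iff_le_comap]
  conv_lhs => rw [fsub]
  rw [Subgroup.closure_le]
  intro x hx
  show c * x * c⁻¹ ∈ fsub a₁ r₁
  have horth : ∀ {w : G}, π w = vp s 0 → B (π w) (vp (!s) 0) = 0 ∧ B (π w) (vp (!s) 1) = 0 := fun h => by
    rw [h]; exact ⟨vp_orth 0 0, vp_orth 0 1⟩
  rcases hx with rfl | rfl
  · obtain ⟨h0, h1⟩ := horth F₁.πa
    rw [(fsub_act S hy F₂ hcc).2 x F₁.ha h0 h1, mul_inv_cancel_right]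
    exact a_mem S hy F₁
  · rcases hc' with rfl | rfl
    · have e := (fsub_act S hy F₁ (r_mem S hy F₁)).2 c F₂.ha (by rw [F₂.πa]; rw [B_comm]; exact vp_orth 0 0)
        (by rw [F₂.πa]; rw [B_comm]; exact vp_orth 1 0)
      rw [← e, mul_inv_cancel_right]
      exact r_mem S hy F₁
    · have hxh := F₁.hr
      have hxz := (mem_hc.1 hxh).1
      have hcz := (mem_hc.1 hch).1
      set t := c * x * c⁻¹ * x⁻¹ with ht
      have htc : t ∈ hc z y := mul_mem (mul_mem (mul_mem hch hxh) (inv_mem hch)) (inv_mem hxh)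
      have hrt : RotAct (S.act t) 0 0 0 := by
        have h := RotAct.mul S (mul_cz S (mul_cz S hcz hxz) (cz_inv hcz)) (cz_inv hxz)
          (RotAct.mul S (mul_cz S hcz hxz) (cz_inv hcz) (RotAct.mul S hcz hxz F₂.rot F₁.rot)
            (RotAct.inv S hcz F₂.rot)) (RotAct.inv S hxz F₁.rot)
        cases s <;> simpa using h
      have htk : t ∈ kq Q y :=
        ⟨rotAct_mem S (mem_hc.1 htc).1 hrt, Subgroup.mem_centralizer_singleton_iff.2 (mem_hc.1 htc).2⟩
      have key : ∀ k, B (π t) (vp (!s) k) = 0 := by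
        intro k
        obtain ⟨w, hw, hπw⟩ := S.π_surj (vp (!s) k)
        have hwk : w ∈ kq Q y := (mem_kq S hy).2 ⟨hw, by rw [hπw]; exact (vp_fixed (!s) k).1⟩
        have hcom : ∀ {u : G} {k' : Fin 3}, u ∈ kq Q y → π u = vp (!s) k' → x * u = u * x :=
          fun {u k'} hu hπ => (fsub_act S hy F₁ (r_mem S hy F₁)).2 u hu (by rw [hπ, B_comm]; exact vp_orth 0 k')
            (by rw [hπ, B_comm]; exact vp_orth 1 k')
        obtain ⟨hw', hπw'⟩ := conj_kq S hy (inv_mem hch) hwk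
        have hk' : ∃ k', π (c⁻¹ * w * c) = vp (!s) k' := by
          rw [inv_inv] at hπw'
          refine ⟨k + -1, ?_⟩
          rw [hπw', hπw, ← S.act_inv_act hcz (vp (!s) (k + -1)), RotS.fs F₂.rot, neg_add_cancel_right]
        obtain ⟨k', hk'⟩ := hk'
        rw [inv_inv] at hw'
        have e1 : Commute (c * x * c⁻¹) w := by
          have := (show Commute x (c⁻¹ * w * c) from hcom hw' hk').map (MulAut.conj c).toMonoidHom
          simpa [mul_assoc] using this
        have e2 : Commute x⁻¹ w := (show Commute x w from hcom hwk hπw).inv_left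
        have := (S.comm_iff htk.1 hw).1 (e1.mul_left e2).eq
        rwa [hπw] at this
      have : t ∈ fsub a₁ x :=
        mem_fsub S hy F₁ htk (mem_plane ((mem_kq S hy).1 htk).2 (key 0) (key 1))
      have h2 := mul_mem this (r_mem S hy F₁)
      rwa [show t * x = c * x * c⁻¹ by rw [ht]; group] at h2

/-- The factors meet in `{1, z}`. -/
theorem meet_factors {a₁ r₁ a₂ r₂ : G} (F₁ : Factor S y false a₁ r₁) (F₂ : Factor S y true a₂ r₂) {c : G}
    (h1 : c ∈ fsub a₁ r₁) (h2 : c ∈ fsub a₂ r₂) : c = 1 ∨ c = z := by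
  obtain ⟨⟨i, hi⟩, hcom⟩ := fsub_act S hy F₁ h1
  obtain ⟨⟨j, hj⟩, hcom'⟩ := fsub_act S hy F₂ h2
  obtain ⟨e1, e2, -⟩ := RotAct.unique (RotS.iff_rot.1 hi) (RotS.iff_rot.1 hj)
  simp only [cond_false, cond_true] at e1 e2
  subst e1
  have hcz := (mem_hc.1 (fsub_le S hy F₁ h1)).1
  have hcQ : c ∈ Q := rotAct_mem S hcz hi
  have hck : c ∈ kq Q y :=
    ⟨hcQ, Subgroup.mem_centralizer_singleton_iff.2 (mem_hc.1 (fsub_le S hy F₁ h1)).2⟩
  refine (S.π_ker c hcQ).1 ?_
  have hperp : ∀ s k, B (π c) (vp s k) = 0 := by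
    intro s k
    obtain ⟨w, hw, hπw⟩ := S.π_surj (vp s k)
    have hwk : w ∈ kq Q y := (mem_kq S hy).2 ⟨hw, by rw [hπw]; exact (vp_fixed s k).1⟩
    have hh : c * w = w * c := by
      cases s
      · exact hcom' w hwk (by rw [hπw]; exact vp_orth (s := false) k 0)
          (by rw [hπw]; exact vp_orth (s := false) k 1)
      · exact hcom w hwk (by rw [hπw, B_comm]; exact vp_orth (s := false) 0 k)
          (by rw [hπw, B_comm]; exact vp_orth (s := false) 1 k)
    have := (S.comm_iff hcQ hw).1 hh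
    rwa [hπw] at this
  have hT := ((mem_kq S hy).1 hck).2
  rcases mem_plane (s := false) hT (hperp true 0) (hperp true 1) with h | ⟨t, h⟩
  · exact h
  · exfalso
    obtain ⟨t', ht'⟩ := (by decide : ∀ t : Fin 3, ∃ t', t' ≠ t) t
    have h' := hperp false t'
    rw [h, vp_form, if_neg ht'.symm] at h'
    exact one_ne_zero h'

end CfsgLib.Characterizations.SuzType.Three
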