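import Cfsg.Agent.Lib.Characterizations.SuzType.Three.Main
import Cfsg.Agent.Lib.Characterizations.SuzType.Three.Hyp

/-!
# The Sylow 3-subgroup `⟨y, a, b⟩` of `C(z) ∩ C(y)`: fusion and normalising elements
-/

set_option autoImplicit false
set_option linter.unusedSectionVars false
set_option linter.style.haveILetI false

namespace CfsgLib.Characterizations.SuzType.Three

open Suz Subgroup

/-- The linear map rotating the three planes. -/
def rotMap (i j k : Fin 3) (v : V) : V :=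
  B v (va 1) • va (0 + i) + B v (va 0) • va (1 + i) + (B v (vb 1) • vb (0 + j) + B v (vb 0) • vb (1 + j)) +
    (B v (ve 2) • ve (0 + k) + B v (ve 0) • ve (2 + k))

set_option maxRecDepth 100000 in
set_option synthInstance.maxSize 4096 in
set_option synthInstance.maxHeartbeats 400000 in
theorem rotMap_fixed : ∀ i j k : Fin 3,
    (Finset.univ.filter fun v : V => rotMap i j k v = v).card = 16 →
      (j = 0 ∧ k = 0) ∨ (i = 0 ∧ k = 0) ∨ (i = 0 ∧ j = 0) := by decide +kernel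

theorem rotAct_eq {f : V → V} (hf : Iso f) {i j k : Fin 3} (h : RotAct f i j k) (v : V) :
    f v = rotMap i j k v := by
  conv_lhs => rw [decomp v]
  simp only [hf.add, hf.map_smul, h.fa, h.fb, h.fe, rotMap]

theorem singular_axes : va 0 + ve 0 ≠ 0 ∧ q (va 0 + ve 0) = 0 ∧ vb 0 + ve 0 ≠ 0 ∧ q (vb 0 + ve 0) = 0 := by decide +kernel

variable {G : Type*} [Group G] [Finite G] {z : G} {Q : Subgroup G} {π : G → V}

/-- A Sylow 3-subgroup of `C(z) ∩ C(y)` with its rotations. -/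
structure RotE (S : Suz z Q π) (y : G) (E : Subgroup G) (a b : G) : Prop where
  le : E ≤ hc z y
  card : Nat.card E = 27
  y_mem : y ∈ E
  a_mem : a ∈ E
  b_mem : b ∈ E
  comm : ∀ u ∈ E, ∀ v ∈ E, u * v = v * u
  exp : ∀ u ∈ E, u ^ 3 = 1
  a_rot : RotAct (S.act a) 1 0 0
  b_rot : RotAct (S.act b) 0 1 0
  uniq : ∀ x ∈ E, RotAct (S.act x) 0 0 0 → x = 1
  coord : ∀ x ∈ E, ∃ i j k, RotAct (S.act x) i j k

theorem RotE.cz {S : Suz z Q π} {y : G} {E : Subgroup G} {a b : G} (D : RotE S y E a b) {x : G} (hx : x ∈ E) :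
    x * z = z * x := (mem_hc.1 (D.le hx)).1

theorem RotE.eq_of_rot {S : Suz z Q π} {y : G} {E : Subgroup G} {a b : G} (D : RotE S y E a b) {x w : G}
    (hx : x ∈ E) (hw : w ∈ E) {i j k : Fin 3} (h : RotAct (S.act x) i j k)
    (h' : RotAct (S.act w) i j k) : x = w := by
  have h1 := RotAct.mul S (D.cz hx) (cz_inv (D.cz hw)) h (RotAct.inv S (D.cz hw) h')
  rw [add_neg_cancel, add_neg_cancel, add_neg_cancel] at h1
  exact mul_inv_eq_one.1 (D.uniq _ (mul_mem hx (inv_mem hw)) h1)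

theorem RotE.ord {S : Suz z Q π} {y : G} {E : Subgroup G} {a b : G} (D : RotE S y E a b) {x : G} (hx : x ∈ E)
    (h1 : x ≠ 1) : orderOf x = 3 :=
  orderOf_eq_prime (hp := ⟨Nat.prime_three⟩) (D.exp x hx) h1

variable (S : Suz z Q π) {y : G} (hy : IsStd S y)
include S hy

theorem exists_rotE : ∃ E a b, RotE S y E a b := by
  classical
  have : Fact (Nat.Prime 3) := ⟨Nat.prime_three⟩
  have hy3 : IsPGroup 3 ↥(zpowers (⟨y, y_mem S hy⟩ : ↥(hc z y))) :=
    IsPGroup.of_card (n := 1) (by rw [Nat.card_zpowers, ← Subgroup.orderOf_coe, hy.ord, pow_one])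
  obtain ⟨P, hP⟩ := hy3.exists_le_sylow
  have hP27 : Nat.card (P : Subgroup ↥(hc z y)) = 27 := by
    rw [P.card_eq_multiplicity, card_hc S hy, show (3456 : ℕ) = 3 ^ 3 * 128 from rfl,
      Nat.factorization_mul (by norm_num) (by norm_num), Finsupp.add_apply, Nat.factorization_pow,
      Finsupp.smul_apply, Nat.prime_three.factorization_self,
      Nat.factorization_eq_zero_of_not_dvd (by norm_num)]
    norm_num
  set E := (P : Subgroup ↥(hc z y)).map (hc z y).subtype with hE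
  have hle : E ≤ hc z y := map_subtype_le _
  have hcard : Nat.card E = 27 := by rw [hE, card_map_of_injective (subtype_injective _), hP27]
  have hz : ∀ x ∈ E, x * z = z * x := fun x hx => (mem_hc.1 (hle hx)).1
  have h27 : ∀ x ∈ E, x ^ 27 = 1 := fun x hx => by
    have h := congrArg Subtype.val (pow_card_eq_one' (x := (⟨x, hx⟩ : ↥E)))
    rwa [hcard] at h
  have hrot : ∀ x ∈ E, ∃ i j k, RotAct (S.act x) i j k := fun x hx => rot_of_pow S hy (hle hx) (h27 x hx)
  have huniq : ∀ x ∈ E, RotAct (S.act x) 0 0 0 → x = 1 := by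
    intro x hx h
    obtain ⟨m, hm⟩ := S.extra.isPGroup ⟨x, rotAct_mem S (hz x hx) h⟩
    have hd := Nat.dvd_gcd (orderOf_dvd_of_pow_eq_one (h27 x hx))
      (orderOf_dvd_of_pow_eq_one (show x ^ 2 ^ m = 1 from congrArg Subtype.val hm))
    rw [show (27 : ℕ) = 3 ^ 3 from rfl, Nat.Coprime.gcd_eq_one (Nat.Coprime.pow 3 m (by norm_num)),
      Nat.dvd_one, orderOf_eq_one_iff] at hd
    exact hd
  have hcomm : ∀ u ∈ E, ∀ v ∈ E, u * v = v * u := by
    intro u hu v hv
    obtain ⟨i, j, k, h⟩ := hrot u hu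
    obtain ⟨i', j', k', h'⟩ := hrot v hv
    have hvu := RotAct.mul S (hz v hv) (hz u hu) h' h
    rw [add_comm i', add_comm j', add_comm k'] at hvu
    have h1 := RotAct.mul S (hz _ (mul_mem hu hv)) (hz _ (inv_mem (mul_mem hv hu)))
      (RotAct.mul S (hz u hu) (hz v hv) h h') (RotAct.inv S (hz _ (mul_mem hv hu)) hvu)
    rw [add_neg_cancel, add_neg_cancel, add_neg_cancel] at h1
    exact mul_inv_eq_one.1 (huniq _ (mul_mem (mul_mem hu hv) (inv_mem (mul_mem hv hu))) h1)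
  have hexp : ∀ u ∈ E, u ^ 3 = 1 := fun u hu => by
    obtain ⟨i, j, k, h⟩ := hrot u hu
    refine huniq _ (pow_mem hu 3) ?_
    have h3 := rotAct_pow S (hz u hu) h 3
    have hzero : ∀ a : Fin 3, 3 • a = 0 := by decide
    rwa [hzero, hzero, hzero] at h3
  choose I J K hR using fun x : ↥E => hrot x x.2
  let F : ↥E → Fin 3 × Fin 3 × Fin 3 := fun x => (I x, J x, K x)
  have hinj : Function.Injective F := by
    intro x x' e
    simp only [F, Prod.mk.injEq] at e
    have h1 := RotAct.mul S (hz _ (inv_mem x.2)) (hz _ x'.2) (RotAct.inv S (hz _ x.2) (hR x)) (hR x')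
    rw [e.1, e.2.1, e.2.2, neg_add_cancel, neg_add_cancel, neg_add_cancel] at h1
    exact Subtype.ext (inv_mul_eq_one.1 (huniq _ (mul_mem (inv_mem x.2) x'.2) h1))
  have hbij : Function.Bijective F := (Nat.bijective_iff_injective_and_card F).2
    ⟨hinj, by rw [hcard]; simp⟩
  obtain ⟨a, ha⟩ := hbij.2 (1, 0, 0)
  obtain ⟨b, hb⟩ := hbij.2 (0, 1, 0)
  simp only [F, Prod.mk.injEq] at ha hb
  have haR := hR a
  have hbR := hR b
  rw [ha.1, ha.2.1, ha.2.2] at haR
  rw [hb.1, hb.2.1, hb.2.2] at hbR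
  exact ⟨E, a, b, hle, hcard, ⟨⟨y, y_mem S hy⟩, hP (mem_zpowers _), rfl⟩, a.2, b.2, hcomm, hexp,
    haR, hbR, huniq, hrot⟩

variable {E : Subgroup G} {a b : G} (D : RotE S y E a b)
include D

theorem RotE.a_ne : a ≠ 1 := fun e => by
  have h := D.a_rot.unique (e ▸ rotAct_one S)
  exact absurd h.1 (by decide)

theorem RotE.b_ne : b ≠ 1 := fun e => by
  have h := D.b_rot.unique (e ▸ rotAct_one S)
  exact absurd h.2.1 (by decide)

/-- A 3-subgroup of order 27 of `C(z) ∩ C(y)` is conjugate there into `E`. -/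
theorem RotE.conj_into {R : Subgroup G} (hR : R ≤ hc z y) {E' : Subgroup G} (hE' : E' ≤ R) (hER : E ≤ R)
    (h27 : Nat.card E' = 27) : ∃ d ∈ R, ∀ x ∈ E', d * x * d⁻¹ ∈ E := by
  classical
  have : Fact (Nat.Prime 3) := ⟨Nat.prime_three⟩
  have hdvd : Nat.card R ∣ 3 ^ 3 * 128 := by
    rw [show 3 ^ 3 * 128 = Nat.card ↥(hc z y) by rw [card_hc S hy]; norm_num]; exact card_dvd_of_le hR
  have key : ∀ X : Subgroup G, X ≤ R → Nat.card X = 27 →
      Nat.card (X.subgroupOf R) = 3 ^ (Nat.card R).factorization 3 := by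
    intro X hX h
    have h3 : 3 ^ 3 ∣ Nat.card R := by
      rw [show 3 ^ 3 = Nat.card X by rw [h]; norm_num]
      exact card_dvd_of_le hX
    have hle : (Nat.card R).factorization 3 ≤ 3 := by
      by_contra hc
      have h4 : 3 ^ 4 ∣ 3 ^ 3 * 128 :=
        ((Nat.Prime.pow_dvd_iff_le_factorization Nat.prime_three Nat.card_pos.ne').2 (by omega)).trans hdvd
      norm_num at h4
    have hge := (Nat.Prime.pow_dvd_iff_le_factorization Nat.prime_three Nat.card_pos.ne').1 h3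
    rw [Nat.card_congr (subgroupOfEquivOfLe hX).toEquiv, h, show (Nat.card R).factorization 3 = 3 by omega]
    norm_num
  let P : Sylow 3 ↥R := Sylow.ofCard _ (key E hER D.card)
  let P' : Sylow 3 ↥R := Sylow.ofCard _ (key E' hE' h27)
  obtain ⟨d, hd⟩ := MulAction.exists_smul_eq ↥R P' P
  refine ⟨d, d.2, fun x hx => ?_⟩
  have hm : d * ⟨x, hE' hx⟩ * d⁻¹ ∈ (P : Subgroup ↥R) := by
    rw [← hd, Sylow.coe_subgroup_smul]
    exact ⟨⟨x, hE' hx⟩, hx, rfl⟩
  exact hm

/-- The only conjugates of `y` in `E` lie in `⟨y⟩`, `⟨a⟩` and `⟨b⟩`. -/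
theorem RotE.fusion (hconj : ∀ u v : CQ y, orderOf u = 2 → orderOf v = 2 → IsConj u v) {x : G}
    (hx : x ∈ E) (hxy : IsConj y x) : x ∈ zpowers y ∨ x ∈ zpowers a ∨ x ∈ zpowers b := by
  classical
  obtain ⟨g, hg⟩ := isConj_iff.1 hxy
  have hxz := D.cz hx
  -- the involution `g⁻¹ z g` of `C(y)`
  have hwy : g⁻¹ * z * g * y = y * (g⁻¹ * z * g) := by
    rw [← hg] at hxz
    calc g⁻¹ * z * g * y = g⁻¹ * (z * (g * y * g⁻¹)) * g := by group
      _ = g⁻¹ * (g * y * g⁻¹ * z) * g := by rw [hxz]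
      _ = y * (g⁻¹ * z * g) := by group
  set w : ↥(cy y) := ⟨g⁻¹ * z * g, mem_centralizer_singleton_iff.2 hwy⟩ with hw
  have hw2 : (w : G) * w = 1 := by
    show g⁻¹ * z * g * (g⁻¹ * z * g) = 1
    rw [show g⁻¹ * z * g * (g⁻¹ * z * g) = g⁻¹ * (z * z) * g by group, S.extra.z_sq]; group
  have hw1 : (w : G) ≠ 1 := fun e => S.extra.z_ne (by
    calc z = g * (g⁻¹ * z * g) * g⁻¹ := by group
      _ = 1 := by rw [show g⁻¹ * z * g = 1 from e]; group)
  have hwo : orderOf (toQ y w) = 2 := by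
    refine orderOf_eq_prime (hp := ⟨Nat.prime_two⟩) ?_ fun e => ?_
    · rw [← map_pow, show w ^ 2 = 1 from Subtype.ext (by rw [pow_two]; exact hw2), map_one]
    · exact hw1 (eq_one_of_pow S hy (toQ_eq_one.1 e) (n := 2) (by norm_num) (by rw [pow_two]; exact hw2))
  obtain ⟨cb, hcb⟩ := isConj_iff.1 (hconj _ _ (orderOf_zbar S hy) hwo)
  obtain ⟨c, rfl⟩ := toQ_surjective y cb
  have hcy : (c : G) * y = y * (c : G) := mem_centralizer_singleton_iff.1 c.2
  set d : G := (c : G) * z * (c : G)⁻¹ with hd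
  have hd2 : d * d = 1 := by rw [hd, conj_mul, S.extra.z_sq]; group
  have hmem : (w : G) * d⁻¹ ∈ zpowers y := by
    have h1 : toQ y (w * (c * zc S hy * c⁻¹)⁻¹) = 1 := by
      rw [map_mul, map_inv, map_mul, map_mul, map_inv]
      rw [show toQ y (zc S hy) = zbar S hy from rfl, hcb, mul_inv_cancel]
    exact toQ_eq_one.1 h1
  set e := (w : G) * d⁻¹ with he
  have hdy : d * y = y * d := (((show Commute (c : G) y from hcy).mul_left
    (show Commute z y from hy.yz.symm)).mul_left (show Commute (c : G) y from hcy).inv_left).eq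
  have hed : Commute e d := by
    obtain ⟨m, hm⟩ := mem_zpowers_iff.1 hmem
    rw [← hm]
    exact (show Commute y d from hdy.symm).zpow_left m
  have he1 : e = 1 := by
    refine eq_one_of_pow S hy hmem (n := 2) (by norm_num) ?_
    have : (w : G) = e * d := by rw [he, inv_mul_cancel_right]
    rw [this, show e * d * (e * d) = e * (d * e) * d by group, ← hed.eq,
      show e * (e * d) * d = e * e * (d * d) by group, hd2, mul_one] at hw2
    rw [pow_two]; exact hw2
  have hwd : g⁻¹ * z * g = d := mul_inv_eq_one.1 he1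
  -- `h = g c` centralises `z` and moves `y` to `x`
  set h := g * (c : G) with hh
  have hhz : h * z = z * h := by
    calc g * (c : G) * z = g * d * (c : G) := by rw [hd]; group
      _ = z * (g * (c : G)) := by rw [← hwd]; group
  have hhy : h * y = x * h := by
    rw [hh, mul_assoc, hcy, ← mul_assoc, ← hg]; group
  obtain ⟨i, j, k, hr⟩ := D.coord x hx
  have hfix : (Finset.univ.filter fun v : V => rotMap i j k v = v).card = 16 := by
    rw [← fixed_count]
    symm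
    refine Finset.card_bij (fun v _ => S.act h v) (fun v hv => ?_) (fun u _ v _ e => (S.act_iso hhz).inj e)
      fun v hv => ⟨S.act h⁻¹ v, ?_, S.act_act_inv hhz v⟩
    · simp only [Finset.mem_filter, Finset.mem_univ, true_and] at hv ⊢
      rw [← rotAct_eq (S.act_iso (D.cz hx)) hr, ← S.act_mul (D.cz hx) hhz, ← hhy, S.act_mul hhz hy.yz, hy.act, hv]
    · simp only [Finset.mem_filter, Finset.mem_univ, true_and] at hv ⊢
      rw [← rotAct_eq (S.act_iso (D.cz hx)) hr] at hv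
      apply (S.act_iso hhz).inj
      rw [← hy.act, ← S.act_mul hhz hy.yz, hhy, S.act_mul (D.cz hx) hhz, S.act_act_inv hhz, hv]
  have hpow : ∀ {r : G}, r ∈ E → ∀ {i' j' k' : Fin 3}, RotAct (S.act r) i' j' k' → ∀ n : ℕ,
      n • i' = i → n • j' = j → n • k' = k → x ∈ zpowers r := by
    intro r hr' i' j' k' hR n e1 e2 e3
    have hp := rotAct_pow S (D.cz hr') hR n
    rw [e1, e2, e3] at hp
    rw [D.eq_of_rot hx (pow_mem hr' n) hr hp]
    exact pow_mem (mem_zpowers r) n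
  rcases rotMap_fixed i j k hfix with ⟨ej, ek⟩ | ⟨ei, ek⟩ | ⟨ei, ej⟩
  · exact Or.inr (Or.inl (hpow D.a_mem D.a_rot i.val (fin3_nsmul i).1 (by rw [ej]; exact smul_zero _)
      (by rw [ek]; exact smul_zero _)))
  · exact Or.inr (Or.inr (hpow D.b_mem D.b_rot j.val (by rw [ei]; exact smul_zero _) (fin3_nsmul j).1
      (by rw [ek]; exact smul_zero _)))
  · exact Or.inl (hpow D.y_mem (rotAct_y S hy) k.val (by rw [ei]; exact smul_zero _)
      (by rw [ej]; exact smul_zero _) (fin3_nsmul k).1)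

/-- An element of `C(z)` normalising `E` moves an element of `E` fixing a singular point into `⟨y⟩`. -/
theorem RotE.move {r : G} (hr : r ∈ E) (hr1 : r ≠ 1) {v : V} (hv : v ≠ 0) (hq : q v = 0)
    (hrv : S.act r v = v) :
    ∃ k, k * z = z * k ∧ k ∈ normalizer (E : Set G) ∧ k * r * k⁻¹ ∈ zpowers y := by
  obtain ⟨k, hkz, hk⟩ := conj_std S hy (D.ord hr hr1) (D.cz hr) hv hq hrv
  have hmem : k * r * k⁻¹ ∈ zpowers y := by
    rcases hk with e | e <;> rw [e]
    · exact mem_zpowers y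
    · exact inv_mem (mem_zpowers y)
  set E' := E.map (MulAut.conj k).toMonoidHom with hE'
  have hle : E' ≤ hc z y := by
    rintro _ ⟨x, hx, rfl⟩
    show k * x * k⁻¹ ∈ hc z y
    refine mem_hc.2 ⟨mul_cz S (mul_cz S hkz (D.cz hx)) (cz_inv hkz), ?_⟩
    have hc1 : Commute (k * x * k⁻¹) (k * r * k⁻¹) := by
      show k * x * k⁻¹ * (k * r * k⁻¹) = k * r * k⁻¹ * (k * x * k⁻¹)
      rw [show k * x * k⁻¹ * (k * r * k⁻¹) = k * (x * r) * k⁻¹ by group, D.comm x hx r hr]; group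
    rcases hk with e | e <;> rw [e] at hc1
    · exact hc1.eq
    · exact (Commute.inv_right_iff.1 hc1).eq
  obtain ⟨d, hd, hdE⟩ := D.conj_into S hy le_rfl hle D.le
    (by rw [hE', card_map_of_injective (MulAut.conj k).injective, D.card])
  have hdy := (mem_hc.1 hd).2
  refine ⟨d * k, mul_cz S (mem_hc.1 hd).1 hkz, mem_normalizer_fintype fun x hx => ?_, ?_⟩
  · have h := hdE _ ⟨x, hx, rfl⟩
    show d * k * x * (d * k)⁻¹ ∈ E
    rwa [show d * k * x * (d * k)⁻¹ = d * (k * x * k⁻¹) * d⁻¹ by group]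
  · obtain ⟨m, hm⟩ := mem_zpowers_iff.1 hmem
    rw [show d * k * r * (d * k)⁻¹ = d * (k * r * k⁻¹) * d⁻¹ by group, ← hm,
      ((show Commute d y from hdy).zpow_right m).eq, mul_inv_cancel_right]
    exact zpow_mem (mem_zpowers y) m

theorem RotE.move_a : ∃ k, k * z = z * k ∧ k ∈ normalizer (E : Set G) ∧ k * a * k⁻¹ ∈ zpowers y :=
  D.move S hy D.a_mem (D.a_ne S hy) singular_axes.2.2.1 singular_axes.2.2.2 (by
    rw [(S.act_iso (D.cz D.a_mem)).add, D.a_rot.fb, D.a_rot.fe, add_zero (0 : Fin 3)])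

theorem RotE.move_b : ∃ k, k * z = z * k ∧ k ∈ normalizer (E : Set G) ∧ k * b * k⁻¹ ∈ zpowers y :=
  D.move S hy D.b_mem (D.b_ne S hy) singular_axes.1 singular_axes.2.1 (by
    rw [(S.act_iso (D.cz D.b_mem)).add, D.b_rot.fa, D.b_rot.fe, add_zero (0 : Fin 3)])

/-- The elements of `C(z) ∩ C(y)` rotating all three planes. -/
def rotGroup : Subgroup G where
  carrier := {c | c ∈ hc z y ∧ ∃ i j k, RotAct (S.act c) i j k}
  one_mem' := ⟨one_mem _, 0, 0, 0, rotAct_one S⟩
  mul_mem' := by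
    rintro c d ⟨hc', i, j, k, h⟩ ⟨hd, i', j', k', h'⟩
    exact ⟨mul_mem hc' hd, _, _, _, RotAct.mul S (mem_hc.1 hc').1 (mem_hc.1 hd).1 h h'⟩
  inv_mem' := by
    rintro c ⟨hc', i, j, k, h⟩
    exact ⟨inv_mem hc', _, _, _, RotAct.inv S (mem_hc.1 hc').1 h⟩

/-- An element of `C(z) ∩ C(y)` normalising `E` and inverting `a` and `b`. -/
theorem RotE.exists_inverting :
    ∃ s ∈ hc z y, s ∈ normalizer (E : Set G) ∧ s * a * s⁻¹ = a⁻¹ ∧ s * b * s⁻¹ = b⁻¹ := by
  obtain ⟨s, hs, hsa, hsb, hse⟩ := exists_double S hy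
  have hsz := (mem_hc.1 hs).1
  have hrot : ∀ {r : G}, r * z = z * r → ∀ {i j k : Fin 3}, RotAct (S.act r) i j k →
      RotAct (S.act (s * r * s⁻¹)) (-i) (-j) k := by
    intro r hr i j k h
    have key : ∀ v, S.act (s * r * s⁻¹) (S.act s v) = S.act s (S.act r v) := fun v => by
      rw [S.act_mul (mul_cz S hsz hr) (cz_inv hsz), S.act_inv_act hsz, S.act_mul hsz hr]
    refine ⟨fun x => ?_, fun x => ?_, fun x => ?_⟩
    · have e := key (va (-x))
      rw [hsa, neg_neg, h.fa, hsa] at e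
      rw [e, neg_add, neg_neg]
    · have e := key (vb (1 - x))
      rw [hsb, sub_sub_cancel, h.fb, hsb] at e
      rw [e]
      congr 1
      rw [sub_add_eq_sub_sub, sub_sub_cancel, sub_eq_add_neg]
    · have e := key (ve x)
      rw [hse, h.fe, hse] at e
      exact e
  set R := rotGroup S (y := y) with hR
  set E' := E.map (MulAut.conj s).toMonoidHom with hE'
  have hE'R : E' ≤ R := by
    rintro _ ⟨x, hx, rfl⟩
    obtain ⟨i, j, k, h⟩ := D.coord x hx
    exact ⟨mul_mem (mul_mem hs (D.le hx)) (inv_mem hs), _, _, _, hrot (D.cz hx) h⟩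
  obtain ⟨d, hd, hdE⟩ := D.conj_into S hy (R := R) (fun c hc' => hc'.1) hE'R
    (fun x hx => ⟨D.le hx, D.coord x hx⟩) (by rw [hE', card_map_of_injective (MulAut.conj s).injective, D.card])
  obtain ⟨hdh, i₀, j₀, k₀, hd₀⟩ := hd
  have hdz := (mem_hc.1 hdh).1
  have hneg : ∀ {x : G}, x ∈ E → ∀ {i j : Fin 3}, RotAct (S.act x) i j 0 → d * s * x * (d * s)⁻¹ = x⁻¹ := by
    intro x hx i j h
    have hmem : d * (s * x * s⁻¹) * d⁻¹ ∈ E := hdE _ ⟨x, hx, rfl⟩
    have hsx : s * x * s⁻¹ * z = z * (s * x * s⁻¹) := mul_cz S (mul_cz S hsz (D.cz hx)) (cz_inv hsz)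
    have h1 := RotAct.mul S (mul_cz S hdz hsx) (cz_inv hdz)
      (RotAct.mul S hdz hsx hd₀ (hrot (D.cz hx) h)) (RotAct.inv S hdz hd₀)
    rw [add_comm i₀, add_comm j₀, add_comm k₀, add_neg_cancel_right, add_neg_cancel_right, add_neg_cancel_right,
      ← neg_zero (G := Fin 3)] at h1
    rw [show d * s * x * (d * s)⁻¹ = d * (s * x * s⁻¹) * d⁻¹ by group]
    exact D.eq_of_rot hmem (inv_mem hx) h1 (RotAct.inv S (D.cz hx) h)
  refine ⟨d * s, mul_mem hdh hs, mem_normalizer_fintype fun x hx => ?_, hneg D.a_mem D.a_rot,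
    hneg D.b_mem D.b_rot⟩
  show d * s * x * (d * s)⁻¹ ∈ E
  rw [show d * s * x * (d * s)⁻¹ = d * (s * x * s⁻¹) * d⁻¹ by group]
  exact hdE _ ⟨x, hx, rfl⟩

end CfsgLib.Characterizations.SuzType.Three
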