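import Cfsg.Agent.Lib.Characterizations.SuzType.Three.Std

/-!
# The centralizer of `y` inside `C(z)` acts by permuting the planes
-/

set_option autoImplicit false
set_option linter.unusedSectionVars false

namespace CfsgLib.Characterizations.SuzType.Three

open Suz

variable {G : Type*} [Group G] [Finite G] {z : G} {Q : Subgroup G} {π : G → V}

/-- The centralizer of `y` in `C(z)`. -/
def hc (z y : G) : Subgroup G := Subgroup.centralizer ({z} : Set G) ⊓ Subgroup.centralizer ({y} : Set G)

theorem mem_hc {z y c : G} : c ∈ hc z y ↔ c * z = z * c ∧ c * y = y * c := by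
  simp [hc, Subgroup.mem_centralizer_singleton_iff]

/-- The action on the three planes. -/
structure Shape (f : V → V) (s : Bool) (α β : Equiv.Perm (Fin 3)) (k : Fin 3) : Prop where
  fa : ∀ x, f (va x) = vp s (α x)
  fb : ∀ x, f (vb x) = vp (!s) (β x)
  fe : ∀ x, f (ve x) = ve (x + k)

/-- A rotation of each plane. -/
structure RotAct (f : V → V) (i j k : Fin 3) : Prop where
  fa : ∀ x, f (va x) = va (x + i)
  fb : ∀ x, f (vb x) = vb (x + j)
  fe : ∀ x, f (ve x) = ve (x + k)

theorem vp_inj {s : Bool} {x y : Fin 3} (h : vp s x = vp s y) : x = y := by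
  cases s
  · exact (plane_inj x y).1 h
  · exact (plane_inj x y).2.1 h

theorem vp_ne {s : Bool} (x y : Fin 3) : vp s x ≠ vp (!s) y := by
  cases s
  · exact (plane_inj x y).2.2.2.1
  · exact Ne.symm (plane_inj y x).2.2.2.1

theorem vp_form {s : Bool} {x y : Fin 3} : B (vp s x) (vp s y) = if x = y then 0 else 1 := by
  cases s
  · exact (plane_forms x y).1
  · exact (plane_forms x y).2.1

theorem vp_orth {s : Bool} (x y : Fin 3) : B (vp s x) (vp (!s) y) = 0 := by
  cases s
  · exact (plane_forms x y).2.2.2.1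
  · rw [B_comm]; exact (plane_forms y x).2.2.2.1

theorem vp_fixed (s : Bool) (x : Fin 3) : T0 (vp s x) = vp s x ∧ q (vp s x) = 1 := by
  cases s
  · exact ⟨(T0_planes x).1, (plane_forms x x).2.2.2.2.2.2.1⟩
  · exact ⟨(T0_planes x).2.1, (plane_forms x x).2.2.2.2.2.2.2.1⟩

theorem fin3_step : ∀ f : Fin 3 → Fin 3, (∀ x, f (x + 1) = f x + 1) → ∀ x, f x = x + f 0 := by decide

theorem perm_shift : ∀ α : Equiv.Perm (Fin 3), ∀ i : Fin 3, ∃ i', ∀ x, α (x + i) = α x + i' := by
  decide +kernel

theorem perm_cube : ∀ α : Equiv.Perm (Fin 3), α ^ 6 = 1 := by decide +kernel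

/-- Every isometry commuting with `T0` has a shape. -/
theorem exists_shape {f : V → V} (hf : Iso f) (hT : ∀ v, f (T0 v) = T0 (f v)) :
    ∃ s α β k, Shape f s α β k := by
  classical
  have hfix : ∀ s x, ∃ s' x', f (vp s x) = vp s' x' := by
    intro s x
    obtain ⟨x', e | e⟩ := mem_fixed (f (vp s x)) (by rw [← hT, (vp_fixed s x).1])
      (by rw [hf.quad, (vp_fixed s x).2])
    · exact ⟨false, x', e⟩
    · exact ⟨true, x', e⟩
  choose S X hSX using hfix
  have hsame : ∀ t x y, S t x = S t y := by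
    intro t x y
    by_cases hxy : x = y
    · rw [hxy]
    by_contra hne
    have h1 := hf.polar (vp t x) (vp t y)
    rw [vp_form, if_neg hxy, hSX, hSX, show S t y = !(S t x) by revert hne; cases S t x <;> cases S t y <;> simp,
      vp_orth] at h1
    exact zero_ne_one h1
  have hinj : ∀ t, Function.Injective (X t) := fun t x y e => by
    refine vp_inj (s := t) (hf.inj ?_)
    rw [hSX, hSX, hsame t x y, e]
  have hsurj : ∀ t, Function.Surjective (X t) := fun t => Finite.injective_iff_surjective.1 (hinj t)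
  set s := S false 0 with hs
  have hb : ∀ x, S true x = !s := by
    intro x
    by_contra hne
    obtain ⟨y, hy⟩ := hsurj false (X true x)
    apply vp_ne (s := false) y x
    refine hf.inj ?_
    show f (vp false y) = f (vp true x)
    rw [hSX, hSX, hy, hsame false y 0, ← hs, show S true x = s by revert hne; cases S true x <;> cases s <;> simp]
  have hcover : ∀ t x, ∃ t' y, vp t x = f (vp t' y) := by
    intro t x
    by_cases ht : t = s
    · obtain ⟨y, hy⟩ := hsurj false x
      exact ⟨false, y, by rw [hSX, hy, hsame false y 0, ← hs, ht]⟩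
    · obtain ⟨y, hy⟩ := hsurj true x
      exact ⟨true, y, by rw [hSX, hy, hb, show t = !s by revert ht; cases t <;> cases s <;> simp]⟩
  have hperp : ∀ x y t, B (f (ve x)) (vp t y) = 0 := by
    intro x y t
    obtain ⟨t', y', e⟩ := hcover t y
    rw [e, hf.polar, B_comm]
    cases t'
    · exact (plane_forms y' x).2.2.2.2.1
    · exact (plane_forms y' x).2.2.2.2.2.1
  have he : ∀ x, ∃ x', f (ve x) = ve x' := fun x =>
    mem_moved (f (ve x)) (by rw [hf.quad, (plane_forms x x).2.2.2.2.2.2.2.2]) (hperp x 0 false) (hperp x 1 false)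
      (hperp x 0 true) (hperp x 1 true)
  choose E hE using he
  have hE1 : ∀ x, E (x + 1) = E x + 1 := fun x => by
    refine (plane_inj _ _).2.2.1 ?_
    rw [← hE, ← (T0_planes x).2.2, hT, hE, (T0_planes (E x)).2.2]
  refine ⟨s, Equiv.ofBijective (X false) ⟨hinj false, hsurj false⟩,
    Equiv.ofBijective (X true) ⟨hinj true, hsurj true⟩, E 0, fun x => ?_, fun x => ?_, fun x => ?_⟩
  · show f (vp false x) = _
    rw [hSX, hsame false x 0]
    rfl
  · show f (vp true x) = _
    rw [hSX, hb]
    rfl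
  · rw [hE, fin3_step E hE1 x]

theorem RotAct.ext {f g : V → V} (hf : Iso f) (hg : Iso g) {i j k : Fin 3} (h : RotAct f i j k)
    (h' : RotAct g i j k) : ∀ v, f v = g v :=
  iso_ext hf hg (fun x => by rw [h.fa, h'.fa]) (fun x => by rw [h.fb, h'.fb]) (fun x => by rw [h.fe, h'.fe])

theorem rotAct_id : RotAct (id : V → V) 0 0 0 :=
  ⟨fun x => by rw [add_zero]; rfl, fun x => by rw [add_zero]; rfl, fun x => by rw [add_zero]; rfl⟩

theorem RotAct.unique {f : V → V} {i j k i' j' k' : Fin 3} (h : RotAct f i j k) (h' : RotAct f i' j' k') :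
    i = i' ∧ j = j' ∧ k = k' := by
  have e1 := (plane_inj _ _).1 ((h.fa 0).symm.trans (h'.fa 0))
  have e2 := (plane_inj _ _).2.1 ((h.fb 0).symm.trans (h'.fb 0))
  have e3 := (plane_inj _ _).2.2.1 ((h.fe 0).symm.trans (h'.fe 0))
  simp only [zero_add] at e1 e2 e3
  exact ⟨e1, e2, e3⟩

theorem rotAct_T0 : RotAct T0 0 0 1 :=
  ⟨fun x => by rw [add_zero]; exact (T0_planes x).1, fun x => by rw [add_zero]; exact (T0_planes x).2.1,
    fun x => (T0_planes x).2.2⟩

section

variable (S : Suz z Q π)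
include S

theorem act_commute {y c : G} (hy : IsStd S y) (hc : c ∈ hc z y) (v : V) : S.act c (T0 v) = T0 (S.act c v) := by
  obtain ⟨hcz, hcy⟩ := mem_hc.1 hc
  rw [← hy.act, ← hy.act, ← S.act_mul hcz hy.yz, hcy, S.act_mul hy.yz hcz]

theorem hc_shape {y c : G} (hy : IsStd S y) (hc : c ∈ hc z y) : ∃ s α β k, Shape (S.act c) s α β k :=
  exists_shape (S.act_iso (mem_hc.1 hc).1) (act_commute S hy hc)

theorem rotAct_one : RotAct (S.act 1) 0 0 0 :=
  ⟨fun x => by rw [S.act_one, add_zero], fun x => by rw [S.act_one, add_zero],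
    fun x => by rw [S.act_one, add_zero]⟩

theorem RotAct.mul {a b : G} (ha : a * z = z * a) (hb : b * z = z * b) {i j k i' j' k' : Fin 3}
    (h : RotAct (S.act a) i j k) (h' : RotAct (S.act b) i' j' k') :
    RotAct (S.act (a * b)) (i + i') (j + j') (k + k') :=
  ⟨fun x => by rw [S.act_mul ha hb, h'.fa, h.fa, add_comm i, ← add_assoc],
    fun x => by rw [S.act_mul ha hb, h'.fb, h.fb, add_comm j, ← add_assoc],
    fun x => by rw [S.act_mul ha hb, h'.fe, h.fe, add_comm k, ← add_assoc]⟩

theorem RotAct.inv {a : G} (ha : a * z = z * a) {i j k : Fin 3} (h : RotAct (S.act a) i j k) :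
    RotAct (S.act a⁻¹) (-i) (-j) (-k) := by
  refine ⟨fun x => ?_, fun x => ?_, fun x => ?_⟩
  · have := congrArg (S.act a⁻¹) (h.fa (x + -i))
    rw [S.act_inv_act ha, neg_add_cancel_right] at this
    exact this.symm
  · have := congrArg (S.act a⁻¹) (h.fb (x + -j))
    rw [S.act_inv_act ha, neg_add_cancel_right] at this
    exact this.symm
  · have := congrArg (S.act a⁻¹) (h.fe (x + -k))
    rw [S.act_inv_act ha, neg_add_cancel_right] at this
    exact this.symm

theorem rotAct_mem {a : G} (ha : a * z = z * a) (h : RotAct (S.act a) 0 0 0) : a ∈ Q :=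
  S.mem_of_act_id ha fun v =>
    (RotAct.ext (S.act_iso ha) (S.act_iso (show (1 : G) * z = z * 1 by simp)) h (rotAct_one S) v).trans (S.act_one v)

theorem rotAct_Q {a : G} (ha : a ∈ Q) : RotAct (S.act a) 0 0 0 :=
  ⟨fun x => by rw [S.act_Q ha, add_zero], fun x => by rw [S.act_Q ha, add_zero],
    fun x => by rw [S.act_Q ha, add_zero]⟩

theorem rotAct_y {y : G} (hy : IsStd S y) : RotAct (S.act y) 0 0 1 :=
  ⟨fun x => by rw [hy.act, rotAct_T0.fa], fun x => by rw [hy.act, rotAct_T0.fb],
    fun x => by rw [hy.act, rotAct_T0.fe]⟩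

/-- A power whose exponent is odd does not exchange the planes unless the element does. -/
theorem shape_pow {c : G} (hc : c * z = z * c) {s : Bool} {α β : Equiv.Perm (Fin 3)} {k : Fin 3}
    (h : Shape (S.act c) s α β k) :
    ∀ n : ℕ, ∃ α' β' k', Shape (S.act (c ^ n)) (if n % 2 = 1 then s else false) α' β' k' ∧
      (s = false → α' = α ^ n ∧ β' = β ^ n ∧ k' = n • k) := by
  intro n
  induction n with
  | zero =>
    refine ⟨1, 1, 0, ⟨fun x => ?_, fun x => ?_, fun x => ?_⟩, fun _ => ⟨(pow_zero α).symm, (pow_zero β).symm, by simp⟩⟩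
    · simp [S.act_one, vp]
    · simp [S.act_one, vp]
    · simp [S.act_one]
  | succ n ih =>
    obtain ⟨α', β', k', h', hp⟩ := ih
    have hcn : c ^ n * z = z * c ^ n := ((show Commute c z from hc).pow_left n).eq
    rw [pow_succ']
    cases s
    · simp only [ite_self] at h' ⊢
      obtain ⟨rfl, rfl, rfl⟩ := hp rfl
      refine ⟨α * α ^ n, β * β ^ n, n • k + k, ⟨fun x => ?_, fun x => ?_, fun x => ?_⟩,
        fun _ => ⟨(pow_succ' α n).symm, (pow_succ' β n).symm, (succ_nsmul k n).symm⟩⟩
      · rw [S.act_mul hc hcn, h'.fa]; exact h.fa _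
      · rw [S.act_mul hc hcn, h'.fb]; exact h.fb _
      · rw [S.act_mul hc hcn, h'.fe, h.fe, add_assoc]
    · rcases Nat.mod_two_eq_zero_or_one n with hn | hn
      · rw [if_neg (by omega)] at h'
        rw [if_pos (by omega)]
        refine ⟨α * α', β * β', k' + k, ⟨fun x => ?_, fun x => ?_, fun x => ?_⟩, fun e => by simp at e⟩
        · rw [S.act_mul hc hcn, h'.fa]; exact h.fa _
        · rw [S.act_mul hc hcn, h'.fb]; exact h.fb _
        · rw [S.act_mul hc hcn, h'.fe, h.fe, add_assoc]
      · rw [if_pos hn] at h'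
        rw [if_neg (by omega)]
        refine ⟨β * α', α * β', k' + k, ⟨fun x => ?_, fun x => ?_, fun x => ?_⟩, fun e => by simp at e⟩
        · rw [S.act_mul hc hcn, h'.fa]; exact h.fb _
        · rw [S.act_mul hc hcn, h'.fb]; exact h.fa _
        · rw [S.act_mul hc hcn, h'.fe, h.fe, add_assoc]

/-- An element of odd three-power order rotates each plane. -/
theorem rot_of_pow {y c : G} (hy : IsStd S y) (hc : c ∈ hc z y) (h27 : c ^ 27 = 1) :
    ∃ i j k, RotAct (S.act c) i j k := by
  obtain ⟨s, α, β, k, h⟩ := hc_shape S hy hc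
  obtain ⟨α', β', k', h', hp⟩ := shape_pow S (mem_hc.1 hc).1 h 27
  rw [h27, if_pos (by norm_num)] at h'
  have hs : s = false := by
    by_contra hs
    have e := h'.fa 0
    rw [S.act_one, show s = true by simpa using hs] at e
    exact vp_ne (s := false) 0 _ e
  subst hs
  obtain ⟨rfl, rfl, rfl⟩ := hp rfl
  have hα : α ^ 27 = 1 := Equiv.ext fun x => vp_inj (s := false) (by
    have e := h'.fa x
    rw [S.act_one] at e
    exact e.symm)
  have hβ : β ^ 27 = 1 := Equiv.ext fun x => vp_inj (s := true) (by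
    have e := h'.fb x
    rw [S.act_one] at e
    exact e.symm)
  have h3 : ∀ γ : Equiv.Perm (Fin 3), γ ^ 27 = 1 → γ * γ * γ = 1 := fun γ hγ => by
    rw [show (27 : ℕ) = 6 * 4 + 3 from rfl, pow_add, pow_mul, perm_cube, one_pow, one_mul] at hγ
    simpa [pow_succ] using hγ
  obtain ⟨i, hi⟩ := perm_rotation α (h3 α hα)
  obtain ⟨j, hj⟩ := perm_rotation β (h3 β hβ)
  exact ⟨i, j, k, fun x => by rw [h.fa, hi]; rfl, fun x => by rw [h.fb, hj]; rfl, h.fe⟩

/-- Conjugates of rotations of the fixed planes are such rotations. -/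
theorem rot_conj {y c r : G} (hy : IsStd S y) (hc : c ∈ hc z y) (hr : r * z = z * r) {i j : Fin 3}
    (h : RotAct (S.act r) i j 0) : ∃ i' j', RotAct (S.act (c * r * c⁻¹)) i' j' 0 := by
  obtain ⟨s, α, β, k, hs⟩ := hc_shape S hy hc
  have hcz := (mem_hc.1 hc).1
  have hci : c⁻¹ * z = z * c⁻¹ := (Commute.inv_left (show Commute c z from hcz)).eq
  have hact : ∀ v, S.act (c * r * c⁻¹) (S.act c v) = S.act c (S.act r v) := fun v => by
    rw [S.act_mul (mul_cz S hcz hr) hci, S.act_inv_act hcz, S.act_mul hcz hr]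
  obtain ⟨i', hi'⟩ := perm_shift α i
  obtain ⟨j', hj'⟩ := perm_shift β j
  have ha : ∀ x, S.act (c * r * c⁻¹) (vp s x) = vp s (x + i') := by
    intro x
    obtain ⟨x', rfl⟩ := α.surjective x
    rw [← hs.fa, hact, h.fa, hs.fa, hi']
  have hb : ∀ x, S.act (c * r * c⁻¹) (vp (!s) x) = vp (!s) (x + j') := by
    intro x
    obtain ⟨x', rfl⟩ := β.surjective x
    rw [← hs.fb, hact, h.fb, hs.fb, hj']
  have he : ∀ x, S.act (c * r * c⁻¹) (ve x) = ve (x + 0) := by
    intro x
    have e : ve x = S.act c (ve (x + -k)) := by rw [hs.fe, neg_add_cancel_right]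
    conv_lhs => rw [e, hact, h.fe, add_zero, ← e]
    rw [add_zero]
  cases s
  · exact ⟨i', j', ha, hb, he⟩
  · exact ⟨j', i', hb, ha, he⟩

end

end CfsgLib.Characterizations.SuzType.Three
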